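import Groth.Agent.S4141
import Groth.Agent.S3293
import Groth.Agent.Grpsch.MulFin
import Groth.Agent.AlgGrp.K414.AntiAffBC
import Groth.Agent.AlgGrp.K399.Quot
import Groth.Agent.AlgGrp.K399.Basic
import Groth.Agent.AlgGrp.K411.HomKit
import Groth.Agent.AbVar.K517.Img
import Groth.Agent.Sga7.H758.FieldHom
import Groth.Agent.CurvesC.NormNagata
import Groth.Agent.AlgGrp.K414.Kit
import Groth.Agent.Sga3.H962.Fpqc
import Groth.Agent.Sga3B.NormBc
import Groth.Agent.Books.AlgPtsSmooth

/-!
# Multiplication by `n` on an anti-affine group is an isogeny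
-/

set_option autoImplicit false
universe u
open CategoryTheory MonoidalCategory CartesianMonoidalCategory MonObj GrpObj AlgebraicGeometry CategoryTheory.Limits

namespace K410.AAPow

open Groth.Agent

/-- An anti-affine scheme which is affine is a point. -/
theorem isIso_of_affine {k : Type u} [Field k] (X : Over (Spec (CommRingCat.of k))) [IsAffine X.left]
    [IsIso X.hom.appTop] : IsIso X.hom :=
  CurvesC.NormNagata.isIso_of_isIso_appTop X.hom

/-- An abelian variety killed by a non-zero integer is trivial. -/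
theorem isIso_of_proper {K : Type u} [Field K] (A : Over (Spec (CommRingCat.of K))) [GrpObj A]
    [Smooth A.hom] [ConnectedSpace A.left] [IsProper A.hom] (n : ℕ) (hn : 1 ≤ n)
    (h : (𝟙 A) ^ n = 1) : IsIso A.hom := by
  have hgi := K399.Basic.geometricallyIntegral A
  have h1 : IsFinite (𝟙 A ^ n).left := Grpsch.MulFin.isFinite_pow A n hn
  rw [h, Hom.one_def, Over.comp_left] at h1
  have h2 : IsFinite (toUnit A).left := IsFinite.of_comp (toUnit A).left η[A].left
  have h3 : (toUnit A).left = A.hom := by simp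
  rw [h3] at h2
  have h4 : IsAffine A.left := isAffine_of_isAffineHom A.hom
  have h5 := K399.Basic.isIso_appTop_of_group A
  exact isIso_of_affine A

theorem comp_pow_id {C : Type*} [Category C] [CartesianMonoidalCategory C] {G H : C} [GrpObj G] [GrpObj H]
    (q : G ⟶ H) [IsMonHom q] (n : ℕ) : q ≫ ((𝟙 H) ^ n) = ((𝟙 G) ^ n) ≫ q := by
  rw [MonObj.comp_pow, Category.comp_id, MonObj.pow_comp, Category.id_comp]

/-- An anti-affine group killed by a non-zero integer is trivial. -/
theorem isIso_of_pow {K : Type u} [Field K] [PerfectField K] (Q : Over (Spec (CommRingCat.of K))) [GrpObj Q]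
    [Smooth Q.hom] [QuasiCompact Q.hom] [ConnectedSpace Q.left] [IsIso Q.hom.appTop] (n : ℕ) (hn : 1 ≤ n)
    (h : (𝟙 Q) ^ n = 1) : IsIso Q.hom := by
  obtain ⟨L, _, l, A, _, q, h1, h2, h3, h4, h5, h6, h7, h8, h9, h10, h11, h12, h13, -⟩ := S4141.result K Q
  have hqc : QuasiCompact q.left := by
    have : QuasiCompact (q.left ≫ A.hom) := by rw [Over.w]; infer_instance
    exact QuasiCompact.of_comp q.left A.hom
  have hepi : Epi q := Sga3.H962.Fpqc.epi_of_flat_surjective q
  have h14 : (𝟙 A) ^ n = 1 := by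
    rw [← cancel_epi q, comp_pow_id, h, MonObj.one_comp, MonObj.comp_one]
  have h15 := isIso_of_proper A n hn h14
  have h16 : q = 1 := by
    rw [Hom.one_def]
    ext1
    rw [← cancel_mono A.hom, Over.w, Over.w]
  have h17 := K399.Quot.isIso_of_kernel_of_eq_one l q h10 h16
  have h18 : IsIso l.left := inferInstanceAs (IsIso ((Over.forget _).map l))
  have h19 : IsAffine Q.left := IsAffine.of_isIso (inv l.left)
  exact isIso_of_affine Q

/-- Multiplication by `n ≥ 1` is surjective on an anti-affine group over a perfect field. -/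
theorem surjective_pow_perfect {K : Type u} [Field K] [PerfectField K] (G : Over (Spec (CommRingCat.of K))) [GrpObj G]
    [Smooth G.hom] [QuasiCompact G.hom] [IsIso G.hom.appTop] (n : ℕ) (hn : 1 ≤ n) :
    Surjective ((𝟙 G) ^ n).left := by
  obtain ⟨hconn, hcomm⟩ := S3293.result K G K399.Const.bijective_of_isIso
  have hmon : IsMonHom ((𝟙 G) ^ n) := inferInstance
  obtain ⟨C, _, p, i, hp, hi, hpi, hf, hs, -, hcl⟩ := K399.Quot.exists_image ((𝟙 G) ^ n)
  have hclft : LocallyOfFiniteType C.hom := by rw [← Over.w i]; infer_instance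
  have hcqc : QuasiCompact C.hom := by rw [← Over.w i]; infer_instance
  obtain ⟨Q, _, q, hq1, hq2, hq3, hq6, -, hqsep, hqlft, hQqc, hqsm'⟩ :=
    K414.Kit.exists_quot i (K399.Quot.isNormalHom_of_comm i)
  have hqsm : Smooth Q.hom := hqsm' ‹_›
  have hQaa : IsIso Q.hom.appTop := K399.Quot.isIso_appTop_of_flat_surjective q
  have hQconn : ConnectedSpace Q.left := q.left.surjective.connectedSpace q.left.continuous
  have hqc : QuasiCompact q.left := by
    have : QuasiCompact (q.left ≫ Q.hom) := by rw [Over.w]; infer_instance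
    exact QuasiCompact.of_comp q.left Q.hom
  have hepi : Epi q := Sga3.H962.Fpqc.epi_of_flat_surjective q
  have h14 : (𝟙 Q) ^ n = 1 := by
    rw [← cancel_epi q, comp_pow_id, ← hpi, Category.assoc, K399.Quot.ker_comp' hq6, MonObj.comp_one,
      MonObj.comp_one]
  have h15 := isIso_of_pow Q n hn h14
  have h16 : q = 1 := by
    rw [Hom.one_def]
    ext1
    rw [← cancel_mono Q.hom, Over.w, Over.w]
  have h17 := K399.Quot.isIso_of_kernel_of_eq_one i q hq6 h16
  have h18 : IsIso i.left := inferInstanceAs (IsIso ((Over.forget _).map i))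
  rw [← hpi, Over.comp_left]
  infer_instance

/-- Multiplication by `n ≥ 1` is surjective on an anti-affine group over any field. -/
theorem surjective_pow {k : Type u} [Field k] (G : Over (Spec (CommRingCat.of k))) [GrpObj G]
    [Smooth G.hom] [QuasiCompact G.hom] [IsIso G.hom.appTop] (n : ℕ) (hn : 1 ≤ n) :
    Surjective ((𝟙 G) ^ n).left := by
  let f : Spec (CommRingCat.of (AlgebraicClosure k)) ⟶ Spec (CommRingCat.of k) :=
    Spec.map (CommRingCat.ofHom (algebraMap k (AlgebraicClosure k)))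
  have h1 : IsIso (Red.bc f G).hom.appTop := (K414.AntiAffBC.isIso_iff G f).1 ‹_›
  have h2 : Smooth (Red.bc f G).hom := Groth.Agent.AlgGrp.K411.Bc.hom_mem (P := @Smooth) f ‹_›
  have h3 : QuasiCompact (Red.bc f G).hom := Groth.Agent.AlgGrp.K411.Bc.hom_mem (P := @QuasiCompact) f ‹_›
  have h4 := surjective_pow_perfect (Red.bc f G) n hn
  have h5 : (Over.pullback f).map ((𝟙 G) ^ n) = (𝟙 (Red.bc f G)) ^ n := by
    have h6 := map_pow ((Over.pullback f).homMonoidHom (X := G) (M := G)) (𝟙 G) n
    exact h6.trans (congrArg (fun z => z ^ n) ((Over.pullback f).map_id G))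
  rw [← h5] at h4
  have h7 := Groth.Agent.AlgGrp.K411.Bc.isPullback_map_left f ((𝟙 G) ^ n)
  have h8 : Surjective (pullback.fst G.hom f) := inferInstance
  have h9 : Surjective (pullback.fst G.hom f ≫ ((𝟙 G) ^ n).left) := by
    rw [h7.w]; infer_instance
  exact Surjective.of_comp (pullback.fst G.hom f) ((𝟙 G) ^ n).left

/-- Multiplication by `n ≥ 1` is finite on an anti-affine group over any field. -/
theorem isFinite_pow {k : Type u} [Field k] (G : Over (Spec (CommRingCat.of k))) [GrpObj G]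
    [Smooth G.hom] [QuasiCompact G.hom] [IsIso G.hom.appTop] (n : ℕ) (hn : 1 ≤ n) :
    IsFinite ((𝟙 G) ^ n).left := by
  have hs := surjective_pow G n hn
  obtain ⟨hconn, hcomm⟩ := S3293.result k G K399.Const.bijective_of_isIso
  have hmon : IsMonHom ((𝟙 G) ^ n) := inferInstance
  have hsep : IsSeparated G.hom := Books.AntiAffine.isSeparated_hom G
  obtain ⟨N, _, i, hi, hcl, hker, -⟩ := K414.Kit.exists_ker ((𝟙 G) ^ n)
  have h1 : IsFinite N.hom := K517.Img.isFinite_kernel ((𝟙 G) ^ n) le_rfl i hker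
  have h2 : QuasiCompact ((𝟙 G) ^ n).left := K414.Kit.quasiCompact_left _
  exact Sga7.H758.FieldHom.isFinite_of_isFinite_ker ((𝟙 G) ^ n) i hker

theorem main {k : Type u} [Field k] (G : Over (Spec (CommRingCat.of k))) [GrpObj G]
    [Smooth G.hom] [QuasiCompact G.hom] [IsIso G.hom.appTop] (d : ℤ) (hd : d ≠ 0) :
    Surjective ((𝟙 G) ^ d).left ∧ IsFinite ((𝟙 G) ^ d).left := by
  have k1 := surjective_pow G d.natAbs (Int.natAbs_pos.mpr hd)
  have k2 := isFinite_pow G d.natAbs (Int.natAbs_pos.mpr hd)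
  rcases Int.natAbs_eq d with h | h
  · rw [show (𝟙 G ^ d : G ⟶ G) = 𝟙 G ^ d.natAbs by conv_lhs => rw [h, zpow_natCast]]
    exact ⟨k1, k2⟩
  · have h1 : (𝟙 G ^ d : G ⟶ G) = (𝟙 G)⁻¹ ≫ (𝟙 G ^ d.natAbs) := by
      rw [MonObj.comp_pow, Category.comp_id]
      conv_lhs => rw [h, zpow_neg, zpow_natCast, ← inv_pow]
    have h0 : IsIso ((𝟙 G)⁻¹ : G ⟶ G) := by
      refine ⟨(𝟙 G)⁻¹, ?_, ?_⟩ <;> rw [GrpObj.comp_inv, Category.comp_id, _root_.inv_inv]
    have h2 : IsIso ((𝟙 G)⁻¹ : G ⟶ G).left := inferInstanceAs (IsIso ((Over.forget _).map _))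
    rw [h1, Over.comp_left]
    exact ⟨inferInstance, inferInstance⟩

end K410.AAPow
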