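import Mathlib

/-!
# Antiderivatives of polynomials over rings in which the positive integers are invertible
-/

set_option autoImplicit false
open Polynomial

namespace K410.Antideriv

variable {R : Type*} [CommRing R] (h : ∀ n : ℕ, IsUnit ((n + 1 : ℕ) : R))
include h

theorem exists_antideriv (F : R[X]) : ∃ G : R[X], derivative G = F := by
  induction F using Polynomial.induction_on' with
  | add p q hp hq =>
    obtain ⟨P, rfl⟩ := hp
    obtain ⟨Q, rfl⟩ := hq
    exact ⟨P + Q, by simp⟩
  | monomial n a =>
    obtain ⟨b, hb⟩ := (h n).exists_right_inv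
    refine ⟨monomial (n + 1) (a * b), ?_⟩
    rw [derivative_monomial]
    simp only [Nat.add_sub_cancel]
    congr 1
    rw [mul_assoc, mul_comm b, hb, mul_one]

theorem eq_C_of_derivative_eq_zero (F : R[X]) (hF : derivative F = 0) : F = C (F.coeff 0) := by
  ext n
  cases n with
  | zero => simp
  | succ n =>
    have h1 := congrArg (fun P => Polynomial.coeff P n) hF
    simp only [coeff_derivative, coeff_zero] at h1
    rw [coeff_C_succ]
    have h2 := (h n).exists_right_inv
    obtain ⟨b, hb⟩ := h2
    have h3 : F.coeff (n + 1) * (((n + 1 : ℕ) : R) * b) = 0 := by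
      rw [← mul_assoc]
      push_cast
      rw [h1, zero_mul]
    rwa [hb, mul_one] at h3

omit h in
theorem coeff_ne_zero_of_derivative {F G : R[X]} (hG : derivative G = F) {n : ℕ}
    (hF : F.coeff n ≠ 0) : G.coeff (n + 1) ≠ 0 := by
  intro h1
  apply hF
  rw [← hG, coeff_derivative, h1, zero_mul]

theorem natDegree_le_of_derivative {F G : R[X]} (hG : derivative G = F) {n : ℕ}
    (hF : F.natDegree ≤ n) : G.natDegree ≤ n + 1 := by
  rw [natDegree_le_iff_coeff_eq_zero]
  intro m hm
  obtain ⟨m, rfl⟩ : ∃ m', m = m' + 1 := ⟨m - 1, by omega⟩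
  have h1 : F.coeff m = 0 := coeff_eq_zero_of_natDegree_lt (by omega)
  rw [← hG, coeff_derivative] at h1
  obtain ⟨b, hb⟩ := (h m).exists_right_inv
  have h3 : G.coeff (m + 1) * (((m + 1 : ℕ) : R) * b) = 0 := by
    rw [← mul_assoc]
    push_cast
    rw [h1, zero_mul]
  rwa [hb, mul_one] at h3

end K410.Antideriv
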