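import Groth.Agent.AlgGrp.K410.SecCore
import Groth.Agent.AlgGrp.K410.Antideriv

/-!
# Sections of arbitrarily large degree on a torsor-like affine map
-/

set_option autoImplicit false
universe u
open CategoryTheory AlgebraicGeometry Limits Polynomial TopologicalSpace

namespace K410.AddCore

open Groth.Agent Groth.Agent.Fdesc.LocGen K410.SecCore K410.Antideriv

variable {X S : Scheme.{u}} (q : X ⟶ S)

/-- evaluation of polynomials with coefficients on the base -/
noncomputable def ev {W : S.Opens} (t : Γ(X, q ⁻¹ᵁ W)) (F : Γ(S, W)[X]) : Γ(X, q ⁻¹ᵁ W) :=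
  F.eval₂ (q.app W).hom t

theorem app_comp_ores {V W : S.Opens} (h : W ≤ V) :
    (q.app W).hom.comp (ores h) = (ores (q.preimage_mono h)).comp (q.app V).hom := by
  ext a
  exact Picfga.LineDescent.app_ores q h a

theorem ores_ev {V W : S.Opens} (h : W ≤ V) (t : Γ(X, q ⁻¹ᵁ V)) (F : Γ(S, V)[X]) :
    ores (q.preimage_mono h) (ev q t F) = ev q (ores (q.preimage_mono h) t) (F.map (ores h)) := by
  rw [ev, ev, Polynomial.hom_eval₂, Polynomial.eval₂_map, app_comp_ores]

theorem ev_C {W : S.Opens} (t : Γ(X, q ⁻¹ᵁ W)) (a : Γ(S, W)) : ev q t (C a) = (q.app W).hom a :=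
  eval₂_C _ _

theorem ev_add {W : S.Opens} (t : Γ(X, q ⁻¹ᵁ W)) (F G : Γ(S, W)[X]) :
    ev q t (F + G) = ev q t F + ev q t G := eval₂_add _ _

theorem ev_sub {W : S.Opens} (t : Γ(X, q ⁻¹ᵁ W)) (F G : Γ(S, W)[X]) :
    ev q t (F - G) = ev q t F - ev q t G := eval₂_sub _

theorem ev_mul {W : S.Opens} (t : Γ(X, q ⁻¹ᵁ W)) (F G : Γ(S, W)[X]) :
    ev q t (F * G) = ev q t F * ev q t G := eval₂_mul _ _

theorem ev_shift {W : S.Opens} (t t' : Γ(X, q ⁻¹ᵁ W)) (g : Γ(S, W)) (ht : t = t' + (q.app W).hom g)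
    (F : Γ(S, W)[X]) : ev q t' F = ev q t (F.comp (Polynomial.X - C g)) := by
  rw [ev, ev, Polynomial.eval₂_comp, ht]
  congr 1
  simp

/-- `ev q t` is injective -/
def Trans {W : S.Opens} (t : Γ(X, q ⁻¹ᵁ W)) : Prop := ∀ F : Γ(S, W)[X], ev q t F = 0 → F = 0

theorem Trans.inj {W : S.Opens} {t : Γ(X, q ⁻¹ᵁ W)} (h : Trans q t) {F G : Γ(S, W)[X]}
    (hFG : ev q t F = ev q t G) : F = G := by
  have := h (F - G) (by rw [ev_sub, hFG, sub_self])
  exact sub_eq_zero.1 this

/-- A section of `q^* M` over `q⁻¹ V` has polynomial form `F` -/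
def Form {M : S.Modules} {V W : S.Opens} (h : W ≤ V) (e : Γ(M, W)) (t : Γ(X, q ⁻¹ᵁ W))
    (σ : Γ((Scheme.Modules.pullback q).obj M, q ⁻¹ᵁ V)) (F : Γ(S, W)[X]) : Prop :=
  res _ (q.preimage_mono h) σ = ev q t F • pullSec q e

/-- Infinitely many sections of increasing degrees: not finite. -/
theorem not_finite {M : S.Modules} {W : S.Opens} (e : Γ(M, W)) (he : IsGen e) (t : Γ(X, q ⁻¹ᵁ W))
    (ht : Trans q t) (hfld : IsField Γ(X, ⊤))
    (hsurj : Function.Surjective (q.app ⊤))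
    (σ : ℕ → Γ((Scheme.Modules.pullback q).obj M, q ⁻¹ᵁ ⊤)) (F : ℕ → Γ(S, W)[X])
    (hσ : ∀ n, Form q le_top e t (σ n) (F n)) (hF : ∀ n, (F n).natDegree ≤ n)
    (hF' : ∀ n, (F n).coeff n ≠ 0) :
    ¬ Module.Finite Γ(X, ⊤) Γ((Scheme.Modules.pullback q).obj M, ⊤) := by
  intro hfin
  have hN : IsNoetherianRing Γ(X, ⊤) := by
    let _ := hfld.toField
    infer_instance
  have hNM : IsNoetherian Γ(X, ⊤) Γ((Scheme.Modules.pullback q).obj M, ⊤) := inferInstance
  have heP := he.pullSec q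
  let D : ℕ → Submodule Γ(X, ⊤) Γ((Scheme.Modules.pullback q).obj M, ⊤) := fun n =>
    { carrier := {τ | ∃ G : Γ(S, W)[X], Form q (V := ⊤) le_top e t τ G ∧ G.degree < n}
      add_mem' := by
        rintro a b ⟨G, h1, h2⟩ ⟨H, h3, h4⟩
        refine ⟨G + H, ?_, lt_of_le_of_lt (degree_add_le _ _) (max_lt h2 h4)⟩
        rw [Form] at h1 h3 ⊢
        rw [ev_add, add_smul, ← h1, ← h3]
        exact map_add (res ((Scheme.Modules.pullback q).obj M) (q.preimage_mono (le_top : W ≤ ⊤))) a b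
      zero_mem' := by
        refine ⟨0, ?_, by rw [degree_zero]; exact WithBot.bot_lt_coe _⟩
        rw [Form]
        have h0 : ev q t (0 : Γ(S, W)[X]) = 0 := eval₂_zero _ _
        rw [h0, zero_smul]
        exact map_zero (res ((Scheme.Modules.pullback q).obj M) (q.preimage_mono (le_top : W ≤ ⊤)))
      smul_mem' := by
        rintro c τ ⟨G, h1, h2⟩
        obtain ⟨c', rfl⟩ := hsurj c
        refine ⟨C (ores le_top c') * G, ?_, lt_of_le_of_lt ?_ h2⟩
        · rw [Form] at h1 ⊢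
          rw [ev_mul, ev_C, mul_smul, ← h1]
          have h3 := Picfga.LineDescent.app_ores q (le_top : W ≤ ⊤) c'
          have h4 := res_smul ((Scheme.Modules.pullback q).obj M) (q.preimage_mono (le_top : W ≤ ⊤))
            (q.app ⊤ c') τ
          rw [← h3] at h4
          exact h4
        · calc (C (ores le_top c') * G).degree ≤ (C (ores le_top c')).degree + G.degree := degree_mul_le _ _
            _ ≤ 0 + G.degree := by gcongr; exact degree_C_le
            _ = G.degree := zero_add _ }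
  have hmono : Monotone D := by
    intro a b hab τ hτ
    obtain ⟨G, h1, h2⟩ := hτ
    exact ⟨G, h1, lt_of_lt_of_le h2 (by exact_mod_cast hab)⟩
  obtain ⟨n, hn⟩ := monotone_stabilizes_iff_noetherian.mpr hNM ⟨D, hmono⟩
  have h1 : (σ n : Γ((Scheme.Modules.pullback q).obj M, ⊤)) ∈ D (n + 1) := by
    refine ⟨F n, hσ n, ?_⟩
    refine lt_of_le_of_lt (natDegree_le_iff_degree_le.1 (hF n)) ?_
    exact_mod_cast Nat.lt_succ_self n
  have h2 : D n = D (n + 1) := hn (n + 1) (Nat.le_succ n)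
  rw [← h2] at h1
  obtain ⟨G, h3, h4⟩ := h1
  have h5 := hσ n
  rw [Form] at h3 h5
  have h6 : ev q t (F n) • pullSec q e = ev q t G • pullSec q e := by rw [← h5]; exact h3
  have h7 := ht.inj q (heP.ext h6)
  apply hF' n
  rw [h7]
  exact coeff_eq_zero_of_degree_lt h4

theorem isUnit_of_le (hQ : ∀ n : ℕ, IsUnit ((n + 1 : ℕ) : Γ(S, ⊤))) (V : S.Opens) (n : ℕ) :
    IsUnit ((n + 1 : ℕ) : Γ(S, V)) := by
  have := (hQ n).map (ores (le_top : V ≤ ⊤))
  rwa [map_natCast] at this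

theorem exists_step (hinj : ∀ U : S.Opens, Function.Injective (q.app U)) {M : S.Modules}
    (hM : PicF.IsInvertible M) (h1 : Subsingleton (Coh.HH S M 1)) {ι : Type*} (U : ι → S.Opens)
    (hU : ⨆ i, U i = ⊤) (hQ : ∀ n : ℕ, IsUnit ((n + 1 : ℕ) : Γ(S, ⊤)))
    (t : ∀ i, Γ(X, q ⁻¹ᵁ U i)) (g : ∀ i j, Γ(S, U i ⊓ U j))
    (htg : ∀ i j, ores (q.preimage_mono (inf_le_left : U i ⊓ U j ≤ U i)) (t i) =
      ores (q.preimage_mono (inf_le_right : U i ⊓ U j ≤ U j)) (t j) + (q.app (U i ⊓ U j)).hom (g i j))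
    (htr : ∀ i (W : S.Opens) (h : W ≤ U i), Trans q (ores (q.preimage_mono h) (t i)))
    (e : ∀ i, Γ(M, U i)) (he : ∀ i, IsGen (e i))
    (σ : Γ((Scheme.Modules.pullback q).obj M, q ⁻¹ᵁ ⊤)) (F : ∀ i, Γ(S, U i)[X])
    (hσ : ∀ i, Form q le_top (e i) (t i) σ (F i)) :
    ∃ (τ : Γ((Scheme.Modules.pullback q).obj M, q ⁻¹ᵁ ⊤)) (G : ∀ i, Γ(S, U i)[X]),
      (∀ i, Form q le_top (e i) (t i) τ (G i)) ∧ ∀ i, derivative (G i) = F i := by
  choose A hA using fun i => exists_antideriv (isUnit_of_le hQ (U i)) (F i)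
  have key : ∀ i j, ∃ z : Γ(M, U i ⊓ U j),
      res _ (q.preimage_mono (inf_le_left : U i ⊓ U j ≤ U i)) (ev q (t i) (A i) • pullSec q (e i)) =
        res _ (q.preimage_mono (inf_le_right : U i ⊓ U j ≤ U j)) (ev q (t j) (A j) • pullSec q (e j)) +
          pullSec q z := by
    intro i j
    have he1 := (he i).res (inf_le_left : U i ⊓ U j ≤ U i)
    have he2 := (he j).res (inf_le_right : U i ⊓ U j ≤ U j)
    obtain ⟨h, -, hh⟩ := he1.exists_unit he2
    have heP := he1.pullSec q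
    -- general formula for restrictions
    have f1 : ∀ P : Γ(S, U i)[X], res _ (q.preimage_mono (inf_le_left : U i ⊓ U j ≤ U i))
        (ev q (t i) P • pullSec q (e i)) =
        ev q (ores (q.preimage_mono (inf_le_left : U i ⊓ U j ≤ U i)) (t i))
          (P.map (ores (inf_le_left : U i ⊓ U j ≤ U i))) • pullSec q (res M (inf_le_left : U i ⊓ U j ≤ U i) (e i)) := by
      intro P
      rw [res_smul, res_pullSec q (inf_le_left : U i ⊓ U j ≤ U i),
        ores_ev q (inf_le_left : U i ⊓ U j ≤ U i)]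
    have f2 : ∀ P : Γ(S, U j)[X], res _ (q.preimage_mono (inf_le_right : U i ⊓ U j ≤ U j))
        (ev q (t j) P • pullSec q (e j)) =
        ev q (ores (q.preimage_mono (inf_le_left : U i ⊓ U j ≤ U i)) (t i))
          (C h * (P.map (ores (inf_le_right : U i ⊓ U j ≤ U j))).comp (Polynomial.X - C (g i j))) •
          pullSec q (res M (inf_le_left : U i ⊓ U j ≤ U i) (e i)) := by
      intro P
      rw [res_smul, res_pullSec q (inf_le_right : U i ⊓ U j ≤ U j),
        ores_ev q (inf_le_right : U i ⊓ U j ≤ U j), hh, pullSec_smul, ev_shift q _ _ _ (htg i j),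
        smul_smul, ev_mul, ev_C, mul_comm]
    have h3 : (F i).map (ores (inf_le_left : U i ⊓ U j ≤ U i)) =
        C h * ((F j).map (ores (inf_le_right : U i ⊓ U j ≤ U j))).comp (Polynomial.X - C (g i j)) := by
      refine (htr i (U i ⊓ U j) inf_le_left).inj q (heP.ext ?_)
      rw [← f1, ← f2]
      have a1 := hσ i
      have a2 := hσ j
      rw [Form] at a1 a2
      rw [← a1, ← a2, res_res, res_res]
    obtain ⟨B, hB⟩ : ∃ B, B = (A i).map (ores (inf_le_left : U i ⊓ U j ≤ U i)) -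
        C h * ((A j).map (ores (inf_le_right : U i ⊓ U j ≤ U j))).comp (Polynomial.X - C (g i j)) := ⟨_, rfl⟩
    have h4 : derivative B = 0 := by
      rw [hB, derivative_sub, derivative_map, hA, derivative_C_mul, derivative_comp, derivative_map, hA]
      simp only [derivative_sub, derivative_X, derivative_C, sub_zero, one_mul, h3, sub_self]
    have h5 := eq_C_of_derivative_eq_zero (isUnit_of_le hQ (U i ⊓ U j)) B h4
    refine ⟨B.coeff 0 • res M inf_le_left (e i), ?_⟩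
    rw [f1, f2, pullSec_smul, ← add_smul]
    congr 1
    have h6 : (q.app (U i ⊓ U j)) (B.coeff 0) =
        ev q (ores (q.preimage_mono (inf_le_left : U i ⊓ U j ≤ U i)) (t i)) B := by
      conv_rhs => rw [h5, ev_C]
    rw [h6, ← ev_add]
    congr 1
    rw [hB]; ring
  obtain ⟨τ, hτ⟩ := exists_lift q hinj hM h1 U hU (fun i => ev q (t i) (A i) • pullSec q (e i)) key
  choose z hz using hτ
  choose b hb using fun i => (he i).exists_eq (z i)
  refine ⟨τ, fun i => A i + C (b i), fun i => ?_, fun i => by simp [hA i]⟩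
  rw [Form, hz, hb, pullSec_smul, ev_add, ev_C, add_smul]

/-- The sections of `q^* M` are not finite over the functions. -/
theorem main (hinj : ∀ U : S.Opens, Function.Injective (q.app U)) {M : S.Modules}
    (hM : PicF.IsInvertible M) (h1 : Subsingleton (Coh.HH S M 1)) {ι : Type*} (U : ι → S.Opens)
    (hU : ⨆ i, U i = ⊤) (hQ : ∀ n : ℕ, IsUnit ((n + 1 : ℕ) : Γ(S, ⊤)))
    (t : ∀ i, Γ(X, q ⁻¹ᵁ U i)) (g : ∀ i j, Γ(S, U i ⊓ U j))
    (htg : ∀ i j, ores (q.preimage_mono (inf_le_left : U i ⊓ U j ≤ U i)) (t i) =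
      ores (q.preimage_mono (inf_le_right : U i ⊓ U j ≤ U j)) (t j) + (q.app (U i ⊓ U j)).hom (g i j))
    (htr : ∀ i (W : S.Opens) (h : W ≤ U i), Trans q (ores (q.preimage_mono h) (t i)))
    (e : ∀ i, Γ(M, U i)) (he : ∀ i, IsGen (e i)) (s : Γ(M, ⊤)) (hs : s ≠ 0)
    (hfld : IsField Γ(X, ⊤)) (hsurj : Function.Surjective (q.app ⊤)) :
    ¬ Module.Finite Γ(X, ⊤) Γ((Scheme.Modules.pullback q).obj M, ⊤) := by
  obtain ⟨i₀, hi₀⟩ : ∃ i, res M (le_top : U i ≤ ⊤) s ≠ 0 := by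
    by_contra hcon
    push Not at hcon
    exact hs (res_ext M U (fun _ => le_top) hU.ge (fun i => by rw [hcon, map_zero]))
  choose a ha using fun i => (he i).exists_eq (res M (le_top : U i ≤ ⊤) s)
  have ha0 : a i₀ ≠ 0 := fun h => hi₀ (by rw [ha, h, zero_smul])
  have hall : ∀ n : ℕ, ∃ (τ : Γ((Scheme.Modules.pullback q).obj M, q ⁻¹ᵁ ⊤)) (F : ∀ i, Γ(S, U i)[X]),
      (∀ i, Form q le_top (e i) (t i) τ (F i)) ∧ (F i₀).natDegree ≤ n ∧ (F i₀).coeff n ≠ 0 := by
    intro n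
    induction n with
    | zero =>
      refine ⟨pullSec q s, fun i => C (a i), fun i => ?_, by simp, by simpa using ha0⟩
      rw [Form, res_pullSec q (le_top : U i ≤ ⊤), ha, pullSec_smul, ev_C]
    | succ n ih =>
      obtain ⟨σ, F, h2, h3, h4⟩ := ih
      obtain ⟨τ, G, h5, h6⟩ := exists_step q hinj hM h1 U hU hQ t g htg htr e he σ F h2
      exact ⟨τ, G, h5, natDegree_le_of_derivative (isUnit_of_le hQ _) (h6 i₀) h3,
        coeff_ne_zero_of_derivative (h6 i₀) h4⟩
  choose τ F h2 h3 h4 using hall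
  have htr' : Trans q (t i₀) := by
    have := htr i₀ (U i₀) le_rfl
    rwa [ores_refl] at this
  exact not_finite q (e i₀) (he i₀) (t i₀) htr' hfld hsurj τ (fun n => F n i₀) (fun n => h2 n i₀) h3 h4

end K410.AddCore
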