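import Groth.Agent.AlgGrp.K410.MulMain
import Groth.Agent.AbVar.K511.AmpleVan

/-!
# Sections of the pullback of an ample sheaf: the case of a nontrivial additive function
-/

set_option autoImplicit false
set_option linter.unusedSectionVars false
universe u
open CategoryTheory MonoidalCategory CartesianMonoidalCategory MonObj GrpObj AlgebraicGeometry Limits

namespace K410.AddMain

open Groth.Agent K410.LocSec K410.FnLaw K410.LocSys K410.FnVal K410.AddCore K410.MulRn K410.MulMain
open Groth.Agent.Fdesc.LocGen Groth.Agent.Grpsch.PicGrp Groth.Agent.Grpsch.Cube Groth.Agent.Picfga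

variable {k : Type u} [Field k] {N G A : Over (Spec (CommRingCat.of k))} [GrpObj N] [GrpObj G] [GrpObj A]
  (i : N ⟶ G) {q : G ⟶ A} [IsMonHom i] [IsMonHom q] (hk : AlgGrp.IsKernel i q) {c : Γ(N.left, ⊤)}

theorem hadd (hc : IsAdd c) (p p' : LS q) :
    ores (q.left.preimage_mono (inf_le_left : p.V ⊓ p'.V ≤ p.V)) (val c (rp i hk p)) =
      ores (q.left.preimage_mono (inf_le_right : p.V ⊓ p'.V ≤ p'.V)) (val c (rp i hk p')) +
      (q.left.app (p.V ⊓ p'.V)).hom (-(hh i hk c p p')) := by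
  rw [ores_val_rp i hk p' inf_le_right, ores_val_rp i hk p inf_le_left, rpr_eq i hk p p' le_rfl, hc.val_mul,
    map_neg, ← sub_eq_add_neg]
  rw [eq_sub_iff_add_eq]
  congr 1
  exact app_hh i hk p p'

section

variable [IsCommMonObj G] [IsIntegral G.left]

include hk in
/-- The sections of the pullback of an ample sheaf are not finite-dimensional, if there is a nonzero
additive function. -/
theorem main (hinj : ∀ U : A.left.Opens, Function.Injective (q.left.app U)) (hc : IsAdd c)
    (hV : (Set.range fun n : 𝟙_ (Over (Spec (CommRingCat.of k))) ⟶ N => evk n c).Infinite)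
    (hcov : ⨆ p : LS q, p.V = ⊤) (hQ : ∀ n : ℕ, IsUnit ((n + 1 : ℕ) : Γ(A.left, ⊤))) {M : A.left.Modules}
    (hM : PicF.IsInvertible M) (h1 : Subsingleton (Coh.HH A.left M 1)) (s : Γ(M, ⊤)) (hs : s ≠ 0)
    (hfld : IsField Γ(G.left, ⊤)) (hsurj : Function.Surjective (q.left.app ⊤)) :
    ¬ Module.Finite Γ(G.left, ⊤) Γ((Scheme.Modules.pullback q.left).obj M, ⊤) := by
  let J := {z : Σ p : LS q, Γ(M, p.V) // IsGen z.2}
  have hcov' : ∀ x : A.left, ∃ z : J, x ∈ z.1.1.V := by
    intro x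
    have hx : x ∈ ⨆ p : LS q, p.V := by rw [hcov]; trivial
    obtain ⟨p, hp⟩ := TopologicalSpace.Opens.mem_iSup.1 hx
    obtain ⟨V, f, hx', hf⟩ := (isInvertible_iff M).mp hM x
    exact ⟨⟨⟨p.res (inf_le_left : p.V ⊓ V ≤ p.V), res M inf_le_right f⟩, hf.res _⟩, hp, hx'⟩
  refine K410.AddCore.main q.left hinj hM h1 (fun z : J => z.1.1.V) ?_ hQ (fun z => val c (rp i hk z.1.1))
    (fun z z' => -(hh i hk c z.1.1 z'.1.1)) (fun z z' => hadd i hk hc z.1.1 z'.1.1) (fun z W hW => ?_) (fun z => z.1.2)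
    (fun z => z.2) s hs hfld hsurj
  · refine TopologicalSpace.Opens.ext (Set.eq_univ_of_forall fun x => ?_)
    obtain ⟨z, hz⟩ := hcov' x
    exact TopologicalSpace.Opens.mem_iSup.2 ⟨z, hz⟩
  · rw [ores_val_rp i hk z.1.1 hW]
    exact LocTrans.trans_add i hk hinj hc hV z.1.1 hW

end

end K410.AddMain
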