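import Groth.Agent.AlgGrp.K410.BdryDim
import Groth.Agent.S7616
import Groth.Agent.S9673
import Groth.Agent.S1691
import Groth.Agent.GrpSch.K269.PushCoh
import Groth.Agent.CalgA.SerreLocal
import Groth.Agent.CycB.ModStalk
import Groth.Agent.CohDim.K685.ResolAmple
import Groth.Agent.PicF.K246.Basic
import Groth.Agent.CohqA.PullbackAffine

/-!
# Finiteness of sections of invertible sheaves on a normal variety with a completion whose boundary has
codimension at least two
-/

set_option autoImplicit false
universe u
open CategoryTheory AlgebraicGeometry Limits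

namespace K410.BdryCoh

open Groth.Agent

theorem isReflexive_stalk {X : Scheme.{u}} {L : X.Modules} (hL : PicF.IsInvertible L) (x : X) :
    Module.IsReflexive (X.presheaf.stalk x) (L.presheaf.stalk x) := by
  obtain ⟨t, ht⟩ := CycB.ModStalk.exists_isGen hL x
  let e : X.presheaf.stalk x ≃ₗ[X.presheaf.stalk x] L.presheaf.stalk x :=
    LinearEquiv.ofBijective (LinearMap.toSpanSingleton _ _ t) ht
  have h1 : Module.Free (X.presheaf.stalk x) (L.presheaf.stalk x) := Module.Free.of_equiv e
  have h2 : Module.Finite (X.presheaf.stalk x) (L.presheaf.stalk x) := Module.Finite.equiv e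
  infer_instance

/-- The direct image of an invertible sheaf on an open of a normal scheme with complement of codimension
at least two is coherent. -/
theorem isCoh_pushforward {G Y : Scheme.{u}} [IsIntegral Y] [IsLocallyNoetherian Y]
    (hY : Pi1.IsNormalScheme Y) (g : G ⟶ Y) [IsOpenImmersion g]
    (hbd : ∀ y : Y, y ∉ Set.range g → ¬ ringKrullDim (Y.presheaf.stalk y) ≤ 1)
    (L : G.Modules) (hL : PicF.IsInvertible L) :
    Coh.IsCoh ((Scheme.Modules.pushforward g).obj L) := by
  let U := g.opensRange
  let e : G ≅ U := g.isoOpensRange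
  have he : e.hom ≫ U.ι = g := g.isoOpensRange_hom_ι
  let L' := (Scheme.Modules.pushforward e.hom).obj L
  have hL' : PicF.IsInvertible L' :=
    K685.ResolAmple.isInvertible_of_iso (CohqA.PullbackAffine.pushforwardIsoRestrict e L).symm
      (K246.Basic.isInvertible_restrict hL _)
  have hdep : ∀ x : Y, x ∉ U → (2 : ℕ∞) ≤ LocCoh.depth (Y.presheaf.stalk x) (Y.presheaf.stalk x) := by
    intro x hx
    have h0 := (hY x).1
    have h1 := (hY x).2
    exact CalgA.SerreLocal.two_le_depth_of_isIntegrallyClosed (hbd x fun h => hx h)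
  have h1 := ((S1691.result Y U hdep).2 L' (K685.ResolAmple.isCoh_of_isInvertible hL')
    (isReflexive_stalk hL')).1
  have e1 : (Scheme.Modules.pushforward U.ι).obj L' ≅ (Scheme.Modules.pushforward g).obj L :=
    (Scheme.Modules.pushforwardComp e.hom U.ι).app L ≪≫ (Scheme.Modules.pushforwardCongr he).app L
  exact PerfA.CohSerre.isCoh_of_iso e1 h1

/-- Hence its sections are finite over the base field. -/
theorem finite_sections {k : Type u} [Field k] {G Y : Scheme.{u}} (b : Y ⟶ Spec (CommRingCat.of k))
    [IsProper b] [IsIntegral Y] (hY : Pi1.IsNormalScheme Y) (g : G ⟶ Y) [IsOpenImmersion g]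
    (hbd : ∀ y : Y, y ∉ Set.range g → ¬ ringKrullDim (Y.presheaf.stalk y) ≤ 1)
    (L : G.Modules) (hL : PicF.IsInvertible L) :
    Module.Finite Γ(Spec (CommRingCat.of k), ⊤)
      Γ((Scheme.Modules.pushforward b).obj ((Scheme.Modules.pushforward g).obj L), ⊤) := by
  have hN : IsLocallyNoetherian Y := LocallyOfFiniteType.isLocallyNoetherian b
  refine K269.PushCoh.finite_sections_push b ((Scheme.Modules.pushforward g).obj L)
    (isCoh_pushforward hY g hbd L hL) (isAffineOpen_top _) inferInstance

end K410.BdryCoh
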