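import Groth.Agent.S3391
import Groth.Agent.CycB.SetupLft
import Groth.Agent.CycA.SetupField
import Mathlib.AlgebraicGeometry.ZariskisMainTheorem

/-!
# Dimensions of local rings under finite dominant morphisms; the open immersion into the normalization
-/

set_option autoImplicit false
universe u
open CategoryTheory AlgebraicGeometry Limits

namespace K410.BdryDim

open Groth.Agent

theorem dim_nonneg (X : Type u) [TopologicalSpace X] (x : X) : 0 ≤ topologicalKrullDim X := by
  have : Nonempty (TopologicalSpace.IrreducibleCloseds X) :=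
    ⟨⟨closure {x}, isIrreducible_singleton.closure, isClosed_closure⟩⟩
  exact Order.krullDim_nonneg

theorem fibreDimAt_eq_zero {X Y : Scheme.{u}} (ν : X ⟶ Y) [IsFinite ν] (x : X) :
    FlatMor.fibreDimAt ν x = 0 := by
  have hd : DiscreteTopology (ν.fiber (ν x)) := inferInstance
  refine le_antisymm ?_ ?_
  · refine (iInf_le _ ⟨⊤, trivial⟩).trans ?_
    exact (topologicalKrullDim_subspace_le _ _).trans (topologicalKrullDim_zero_of_discreteTopology _)
  · refine le_iInf fun U => ?_
    exact dim_nonneg _ (⟨_, U.2⟩ : (U.1 : Set (ν.fiber (ν x))))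

theorem topologicalKrullDim_fiber {X Y : Scheme.{u}} (ν : X ⟶ Y) [IsFinite ν] (y : Y)
    (hy : Nonempty (ν.fiber y)) : topologicalKrullDim (ν.fiber y) = 0 := by
  have hd : DiscreteTopology (ν.fiber y) := inferInstance
  exact le_antisymm (topologicalKrullDim_zero_of_discreteTopology _) (dim_nonneg _ hy.some)

theorem ringKrullDim_stalk_fiber {X Y : Scheme.{u}} (ν : X ⟶ Y) [IsFinite ν] (y : Y)
    (z : ν.fiber y) : ringKrullDim ((ν.fiber y).presheaf.stalk z) = 0 := by
  have hd : DiscreteTopology (ν.fiber y) := inferInstance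
  rw [ringKrullDim_stalk_eq_coheight]
  have h : Order.coheight z = 0 := by
    rw [Order.coheight_eq_zero]
    intro b hb
    have h1 : b ⤳ z := hb
    exact h1.eq.le
  rw [h]; rfl

/-- A finite dominant morphism of irreducible schemes of finite type over a field preserves the
dimensions of the local rings. -/
theorem ringKrullDim_stalk {k : Type u} [Field k] {X Y : Scheme.{u}}
    (b : Y ⟶ Spec (CommRingCat.of k)) [LocallyOfFiniteType b] (ν : X ⟶ Y) [IsFinite ν] [IsDominant ν]
    [IrreducibleSpace X] [IrreducibleSpace Y] (x : X) :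
    ringKrullDim (X.presheaf.stalk x) = ringKrullDim (Y.presheaf.stalk (ν x)) := by
  have hN : IsLocallyNoetherian Y := LocallyOfFiniteType.isLocallyNoetherian b
  have hcat : CAlg.IsUniversallyCatenary (Y.presheaf.stalk (ν.base x)) :=
    CycB.SetupLft.isUniversallyCatenary_stalk b (CycA.SetupField.isUniversallyCatenary_stalk_Spec k) _
  have hsurj : Function.Surjective ν := by
    have h1 : IsClosed (Set.range ν) := ν.isClosedMap.isClosed_range
    have h2 : DenseRange ν := ν.denseRange
    exact Set.range_eq_univ.1 (h1.closure_eq ▸ h2.closure_range)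
  have hne : Nonempty (ν.fiber (genericPoint Y)) := by
    obtain ⟨x, hx⟩ := hsurj (genericPoint Y)
    rw [← hx]
    exact ⟨ν.asFiber x⟩
  have h := S3391.result ν x hcat (by
    rw [fibreDimAt_eq_zero, topologicalKrullDim_fiber ν _ hne])
  rw [h, ringKrullDim_stalk_fiber, add_zero]

/-- The preimage of the range of an open immersion in the relative normalization. -/
theorem mem_range_toNormalization {G Y : Scheme.{u}} (j : G ⟶ Y) [IsOpenImmersion j] [QuasiCompact j]
    (y : j.normalization) (hy : j.fromNormalization y ∈ Set.range j) :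
    y ∈ Set.range j.toNormalization := by
  let ν := j.fromNormalization
  let g := j.toNormalization
  have hsq : IsPullback (pullback.fst ν j) (pullback.snd ν j) ν j := IsPullback.of_hasPullback _ _
  have hw : g ≫ ν = 𝟙 G ≫ j := by simp [ν, g]
  let s : G ⟶ pullback ν j := pullback.lift g (𝟙 G) hw
  have hs : s ≫ pullback.snd ν j = 𝟙 G := pullback.lift_snd _ _ hw
  have hsg : s ≫ pullback.fst ν j = g := pullback.lift_fst _ _ hw
  have h1 : IsClosedImmersion s := by
    have : IsClosedImmersion (s ≫ pullback.snd ν j) := by rw [hs]; infer_instance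
    exact IsClosedImmersion.of_comp _ (pullback.snd ν j)
  have h2 : Function.Surjective s := by
    have h3 : DenseRange g := g.denseRange
    have h4 : Set.range s = pullback.fst ν j ⁻¹' (Set.range g) := by
      rw [← hsg]
      ext z
      constructor
      · rintro ⟨w, rfl⟩
        exact ⟨w, by simp⟩
      · rintro ⟨w, hw⟩
        refine ⟨w, (pullback.fst ν j).isOpenEmbedding.injective ?_⟩
        rw [← hw]; simp
    have h5 : Dense (Set.range s) := by
      rw [h4]
      exact Dense.preimage h3 (pullback.fst ν j).isOpenEmbedding.isOpenMap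
    have h6 : IsClosed (Set.range s) := s.isClosedEmbedding.isClosed_range
    exact Set.range_eq_univ.1 (h6.closure_eq ▸ h5.closure_eq)
  obtain ⟨x, hx⟩ := hy
  obtain ⟨z, hz1, hz2⟩ := Scheme.Pullback.exists_preimage_pullback y x hx.symm
  obtain ⟨w, rfl⟩ := h2 z
  exact ⟨w, by rw [← hz1, ← Scheme.Hom.comp_apply, hsg]⟩

end K410.BdryDim
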