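import Groth.Agent.CohqA.ChevGen
import Groth.Agent.Picfga.RegLocus
import Mathlib.FieldTheory.Minpoly.IsIntegrallyClosed

/-!
# Global functions on a finite cover of a normal scheme are integral over the global functions of the base
-/

set_option autoImplicit false
universe u
open CategoryTheory CategoryTheory.Limits AlgebraicGeometry TopologicalSpace

namespace K410.IntTop

open Groth.Agent.CohqA.ChevGen Groth.Agent.Picfga.RegLocus

/-- Let `f : Y ⟶ X` be an integral surjective morphism of integral schemes with `X` normal. Then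
`Γ(Y)` is integral over `Γ(X)`. -/
theorem isIntegralElem_appTop {X Y : Scheme.{u}} [IsIntegral X] [IsIntegral Y] (f : Y ⟶ X)
    [IsIntegralHom f] [Surjective f]
    (hX : ∀ x : X, IsIntegrallyClosed (X.presheaf.stalk x)) (b : Γ(Y, ⊤)) :
    f.appTop.hom.IsIntegralElem b := by
  have : Nonempty (⊤ : X.Opens) := ⟨⟨genericPoint X, trivial⟩⟩
  have : Nonempty (⊤ : Y.Opens) := ⟨⟨genericPoint Y, trivial⟩⟩
  have : Nonempty (f ⁻¹ᵁ ⊤ : Y.Opens) := ⟨⟨genericPoint Y, trivial⟩⟩
  let _ : Algebra X.functionField Y.functionField := (ffMap f).hom.toAlgebra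
  let β : Y.functionField := Y.germToFunctionField ⊤ b
  let p := minpoly X.functionField β
  -- the element is integral over every stalk
  have key : ∀ x : X, ∃ q : Polynomial (X.presheaf.stalk x), q.Monic ∧
      p = q.map (algebraMap (X.presheaf.stalk x) X.functionField) := by
    intro x
    have := hX x
    obtain ⟨_, ⟨V, hV, rfl⟩, hxV, -⟩ :=
      X.isBasis_affineOpens.exists_subset_of_mem_open (Set.mem_univ x) isOpen_univ
    have : Nonempty V := ⟨⟨_, hxV⟩⟩
    have := nonempty_preimage f V
    obtain ⟨r, hr, hr'⟩ := IsIntegralHom.isIntegral_app f V hV (Y.presheaf.map (homOfLE le_top).op b)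
    let _ : Algebra (X.presheaf.stalk x) Y.functionField :=
      ((algebraMap X.functionField Y.functionField).comp
        (algebraMap (X.presheaf.stalk x) X.functionField)).toAlgebra
    have : IsScalarTower (X.presheaf.stalk x) X.functionField Y.functionField :=
      IsScalarTower.of_algebraMap_eq fun _ => rfl
    have h1 : _root_.IsIntegral (X.presheaf.stalk x) β := by
      refine ⟨r.map (X.presheaf.germ V x hxV).hom, hr.map _, ?_⟩
      rw [Polynomial.eval₂_map]
      have h2 := congr(Y.germToFunctionField (f ⁻¹ᵁ V) $hr')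
      rw [map_zero] at h2
      rw [← h2]
      change _ = (Y.germToFunctionField (f ⁻¹ᵁ V)).hom _
      rw [Polynomial.hom_eval₂]
      congr 1
      · ext a
        change ffMap f (algebraMap (X.presheaf.stalk x) X.functionField (X.presheaf.germ V x hxV a)) =
          Y.germToFunctionField (f ⁻¹ᵁ V) (f.app V a)
        rw [Scheme.algebraMap_germ_eq_germToFunctionField, ffMap_germ]
      · change Y.germToFunctionField ⊤ b = Y.germToFunctionField (f ⁻¹ᵁ V) (Y.presheaf.map (homOfLE le_top).op b)
        rw [germ_res]
    exact ⟨minpoly _ β, minpoly.monic h1,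
      minpoly.isIntegrallyClosed_eq_field_fractions' X.functionField h1⟩
  have hmon : p.Monic := by
    obtain ⟨q, hq, hq'⟩ := key (genericPoint X)
    rw [hq']
    exact hq.map _
  have hlift : p ∈ Polynomial.lifts (X.germToFunctionField ⊤).hom := by
    rw [Polynomial.lifts_iff_coeff_lifts]
    intro n
    have h : reg (p.coeff n) = ⊤ := by
      ext x
      simp only [Opens.coe_top, Set.mem_univ, iff_true]
      obtain ⟨q, -, hq'⟩ := key x
      refine ⟨q.coeff n, ?_⟩
      rw [hq', Polynomial.coeff_map]
    obtain ⟨s, hs⟩ := exists_section (p.coeff n)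
    refine ⟨X.presheaf.map (homOfLE h.ge).op s, ?_⟩
    change X.germToFunctionField ⊤ (X.presheaf.map (homOfLE h.ge).op s) = _
    rw [germ_res]
    exact hs
  obtain ⟨q, hq, -, hqm⟩ := Polynomial.lifts_and_natDegree_eq_and_monic hlift hmon
  refine ⟨q, hqm, ?_⟩
  apply Scheme.germToFunctionField_injective Y ⊤
  rw [map_zero]
  have h1 : Polynomial.aeval β p = 0 := minpoly.aeval _ _
  rw [← hq] at h1
  rw [Polynomial.aeval_def, Polynomial.eval₂_map] at h1
  rw [← h1]
  change (Y.germToFunctionField ⊤).hom _ = _
  rw [Polynomial.hom_eval₂]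
  congr 1
  ext a
  exact (ffMap_germ f ⊤ a).symm

end K410.IntTop
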