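import Groth.Agent.AlgGrp.K410.BdryCoh
import Groth.Agent.S18068
import Groth.Agent.S1841

/-!
# Algebraic groups with a completion without boundary components of codimension one
-/

set_option autoImplicit false
universe u
open CategoryTheory MonoidalCategory CartesianMonoidalCategory MonObj GrpObj AlgebraicGeometry Limits

namespace K410.BdryMain

open Groth.Agent

theorem isNormalScheme_of_smooth {k : Type u} [Field k] {X : Scheme.{u}} [IsIntegral X]
    (a : X ⟶ Spec (CommRingCat.of k)) [Smooth a] : Pi1.IsNormalScheme X := fun x => by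
  have := Lefpen.H705.ClosedPoint.isRegularLocalRing_stalk a x
  exact ⟨inferInstance, CurvesC.RegNormal.isIntegrallyClosed _⟩

/-- A point outside a dense open subset of an irreducible scheme is not of codimension zero. -/
theorem mem_range_of_dim_zero {G Y : Scheme.{u}} [IrreducibleSpace Y] (j : G ⟶ Y) [IsOpenImmersion j]
    [Nonempty G] (y : Y) (hy : ringKrullDim (Y.presheaf.stalk y) = 0) : y ∈ Set.range j := by
  rw [ringKrullDim_stalk_eq_coheight] at hy
  have h0 : Order.coheight y = 0 := by
    exact WithBot.coe_injective hy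
  rw [Order.coheight_eq_zero] at h0
  have h1 : y ≤ genericPoint Y := (genericPoint_specializes y)
  have h2 : y ⤳ genericPoint Y := h0 h1
  have h3 : IsOpen (Set.range j) := j.isOpenEmbedding.isOpen_range
  have h4 : genericPoint Y ∈ Set.range j :=
    ((genericPoint_spec Y).mem_open_set_iff h3).2 ⟨_, trivial, ⟨Classical.arbitrary G, rfl⟩⟩
  exact h2.mem_open h3 h4

theorem finite_of_compHom {A B M : Type*} [CommRing A] [CommRing B] [AddCommGroup M] [Module B M]
    (φ : A →+* B) (h : @Module.Finite A M _ _ (Module.compHom _ φ)) : Module.Finite B M := by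
  let _ : Module A M := Module.compHom _ φ
  let _ : Algebra A B := φ.toAlgebra
  have : IsScalarTower A B M := IsScalarTower.of_algebraMap_smul fun _ _ => rfl
  exact Module.Finite.of_restrictScalars_finite A B M

theorem finite_of_comp {G Y S : Scheme.{u}} (g : G ⟶ Y) (b : Y ⟶ S) (a : G ⟶ S) (h : g ≫ b = a)
    (L : G.Modules)
    (hfin : Module.Finite Γ(S, ⊤)
      Γ((Scheme.Modules.pushforward b).obj ((Scheme.Modules.pushforward g).obj L), ⊤)) :
    @Module.Finite Γ(S, ⊤) Γ(L, ⊤) _ _ (Module.compHom _ a.appTop.hom) := by
  subst h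
  exact hfin

variable {k : Type u} [Field k] {G Y : Over (Spec (CommRingCat.of k))} [Smooth G.hom] [QuasiCompact G.hom]
    [IsIntegral G.left] [IsProper Y.hom] (j : G ⟶ Y) [IsOpenImmersion j.left]

/-- If `G` (smooth, integral) has a completion without boundary points of codimension one, then the sections of the invertible sheaves of `G` are finite-dimensional. -/
theorem finite_sections (hd : Dense (Set.range j.left))
    (hno : ∀ y : Y.left, y ∉ Set.range j.left → ringKrullDim (Y.left.presheaf.stalk y) ≠ 1)
    (L : G.left.Modules) (hL : PicF.IsInvertible L) :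
    @Module.Finite Γ(Spec (CommRingCat.of k), ⊤) Γ(L, ⊤) _ _
      (Module.compHom _ G.hom.appTop.hom) := by
  have hYn : IsLocallyNoetherian Y.left := LocallyOfFiniteType.isLocallyNoetherian Y.hom
  have hGn : IsLocallyNoetherian G.left := LocallyOfFiniteType.isLocallyNoetherian G.hom
  have hGc : CompactSpace G.left := (quasiCompact_iff_compactSpace G.hom).1 inferInstance
  have hGN : IsNoetherian G.left := {}
  have hjq : QuasiCompact j.left := inferInstance
  let ν := j.left.fromNormalization
  let g := j.left.toNormalization
  let _ : Y.left.Over (Spec (CommRingCat.of k)) := ⟨Y.hom⟩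
  let _ : G.left.Over (Spec (CommRingCat.of k)) := ⟨G.hom⟩
  have : j.left.IsOver (Spec (CommRingCat.of k)) := ⟨Over.w j⟩
  have h1 : LocallyOfFiniteType (Y.left ↘ (Spec (CommRingCat.of k))) := inferInstanceAs (LocallyOfFiniteType Y.hom)
  have h2 : LocallyOfFiniteType (G.left ↘ (Spec (CommRingCat.of k))) := inferInstanceAs (LocallyOfFiniteType G.hom)
  have hν : IsFinite ν := S7616.result k Y.left G.left j.left
  have hfinc : LocallyFinite (fun Z : ↥(irreducibleComponents ↥G.left) => (Z : Set ↥G.left)) := by
    have : Finite ↥(irreducibleComponents ↥G.left) :=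
      (TopologicalSpace.NoetherianSpace.finite_irreducibleComponents (α := G.left)).to_subtype
    exact locallyFinite_of_finite _
  have hnorm : Pi1.IsNormalScheme j.left.normalization :=
    (S9673.result j.left (isNormalScheme_of_smooth G.hom) hfinc).1
  have hYirr : IrreducibleSpace Y.left := by
    have hr : IsIrreducible (Set.range j.left) := by
      rw [← Set.image_univ]
      exact (IrreducibleSpace.isIrreducible_univ G.left).image _ j.left.continuous.continuousOn
    have hc : IsIrreducible (closure (Set.range j.left)) := hr.closure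
    rw [hd.closure_eq] at hc
    exact (irreducibleSpace_def _).2 hc
  have hdom : IsDominant ν := by
    have : IsDominant (g ≫ ν) := by
      rw [Scheme.Hom.toNormalization_fromNormalization]
      exact ⟨hd⟩
    exact IsDominant.of_comp g ν
  have hpr : IsProper (ν ≫ Y.hom) := inferInstance
  have hbd : ∀ y : j.left.normalization, y ∉ Set.range g →
      ¬ ringKrullDim (j.left.normalization.presheaf.stalk y) ≤ 1 := by
    intro y hy hle
    have hy' : ν y ∉ Set.range j.left := fun h => hy (K410.BdryDim.mem_range_toNormalization j.left y h)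
    rw [K410.BdryDim.ringKrullDim_stalk Y.hom ν y] at hle
    rcases eq_or_ne (ringKrullDim (Y.left.presheaf.stalk (ν y))) 1 with h | h
    · exact hno _ hy' h
    · refine hy' (mem_range_of_dim_zero j.left (ν y) ?_)
      have hlt : ringKrullDim (Y.left.presheaf.stalk (ν y)) < 1 := lt_of_le_of_ne hle h
      refine le_antisymm ?_ ringKrullDim_nonneg_of_nontrivial
      have h01 : (1 : WithBot ℕ∞) = ((0 : ℕ) : WithBot ℕ∞) + 1 := by norm_num
      rw [h01, ENat.WithBot.lt_add_one_iff] at hlt
      simpa using hlt
  have hfin := K410.BdryCoh.finite_sections (ν ≫ Y.hom) hnorm g hbd L hL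
  exact finite_of_comp g (ν ≫ Y.hom) G.hom (by
    rw [← Category.assoc, Scheme.Hom.toNormalization_fromNormalization, Over.w]) L hfin

/-- Such a group is anti-affine. -/
theorem isIso_appTop [GrpObj G] (hd : Dense (Set.range j.left))
    (hno : ∀ y : Y.left, y ∉ Set.range j.left → ringKrullDim (Y.left.presheaf.stalk y) ≠ 1) :
    IsIso G.hom.appTop := by
  have h1 := finite_sections j hd hno (Coh.structureModule G.left)
    (K246.Basic.isInvertible_structureModule G.left)
  have h2 : (G.hom.appTop.hom).Finite := h1
  have h3 : (((Scheme.ΓSpecIso (CommRingCat.of k)).inv ≫ G.hom.appTop).hom).Finite := by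
    rw [CommRingCat.hom_comp]
    refine h2.comp (RingHom.Finite.of_surjective _ ?_)
    exact (ConcreteCategory.bijective_of_isIso (Scheme.ΓSpecIso (CommRingCat.of k)).inv).2
  exact S18068.isIso_of_integral G (fun b => h3.to_isIntegral b)

/-- The sections of an invertible sheaf are finite over the functions. -/
theorem finite_sections' (hd : Dense (Set.range j.left))
    (hno : ∀ y : Y.left, y ∉ Set.range j.left → ringKrullDim (Y.left.presheaf.stalk y) ≠ 1)
    (L : G.left.Modules) (hL : PicF.IsInvertible L) :
    Module.Finite ↑(Γ(G.left, ⊤)) ↑(L.val.obj (Opposite.op ⊤)) := by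
  have h1 := finite_sections j hd hno L hL
  exact finite_of_compHom G.hom.appTop.hom h1

/-- The boundary of a completion, from the infinite-dimensionality of the sections of some ample sheaf on
non-proper anti-affine groups. -/
theorem main_of (k : Type u) [Field k]
    (h77 : ∀ (G : Over (Spec (CommRingCat.of k))) [GrpObj G] [Smooth G.hom] [QuasiCompact G.hom]
      [IsIntegral G.left], IsIso G.hom.appTop → ¬ IsProper G.hom →
      ∃ L : G.left.Modules, PicF.IsInvertible L ∧
        ¬ Module.Finite ↑(Γ(G.left, ⊤)) ↑(L.val.obj (Opposite.op ⊤)))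
    (G : Over (Spec (CommRingCat.of k))) [GrpObj G] [Smooth G.hom] [QuasiCompact G.hom] [ConnectedSpace ↥G.left]
    (Y : Over (Spec (CommRingCat.of k))) [IsProper Y.hom] (j : G ⟶ Y) [IsOpenImmersion j.left]
    (hd : Dense (Set.range ⇑j.left.base)) :
    Set.range ⇑j.left.base = Set.univ ∨
      ∃ y : ↥Y.left, y ∉ Set.range ⇑j.left.base ∧
        ringKrullDim ↑(Y.left.presheaf.stalk y) = ((1 : ℕ) : WithBot ℕ∞) := by
  by_contra hcon
  push Not at hcon
  obtain ⟨h1, h2⟩ := hcon
  have hint := K399.Basic.isIntegral G
  have h3 := isIso_appTop j hd h2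
  have h4 : ¬ IsProper G.hom := by
    intro hp
    have : IsProper (j.left ≫ Y.hom) := by rw [Over.w]; exact hp
    have : IsProper j.left := IsProper.of_comp j.left Y.hom
    have hc : IsClosed (Set.range j.left) := j.left.isClosedMap.isClosed_range
    exact h1 (hc.closure_eq ▸ hd.closure_eq)
  obtain ⟨L, hL, hfin⟩ := h77 G h3 h4
  exact hfin (finite_sections' j hd h2 L hL)

end K410.BdryMain
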