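import Groth.Agent.S0354
import Groth.Agent.S0355
import Groth.Agent.Lefpen.H705.ClosedPoint
import Groth.Agent.CalgA.RegBasic

/-!
# Closed immersions of smooth groups of the same dimension
-/

set_option autoImplicit false
universe u
open CategoryTheory MonoidalCategory CartesianMonoidalCategory MonObj GrpObj AlgebraicGeometry CategoryTheory.Limits

namespace K410.CompDim

open Groth.Agent

/-- A surjection from a domain onto a local ring of the same finite dimension is injective. -/
theorem injective_of_ringKrullDim_le {R S : Type u} [CommRing R] [IsDomain R] [CommRing S]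
    (f : R →+* S) (hf : Function.Surjective f) (h : ringKrullDim R ≤ ringKrullDim S)
    (hfin : ringKrullDim R ≠ ⊤) : Function.Injective f := by
  rw [injective_iff_map_eq_zero]
  intro r hr
  by_contra hr0
  have h1 : ringKrullDim (R ⧸ Ideal.span {r}) + 1 ≤ ringKrullDim R :=
    ringKrullDim_quotient_succ_le_of_nonZeroDivisor (mem_nonZeroDivisors_of_ne_zero hr0)
  have h2 : ringKrullDim S ≤ ringKrullDim (R ⧸ Ideal.span {r}) := by
    let g : R ⧸ Ideal.span {r} →+* S := Ideal.Quotient.lift _ f (fun a ha => by
      obtain ⟨b, rfl⟩ := Ideal.mem_span_singleton'.1 ha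
      rw [map_mul, hr, mul_zero])
    refine ringKrullDim_le_of_surjective g (fun s => ?_)
    obtain ⟨a, rfl⟩ := hf s
    exact ⟨Ideal.Quotient.mk _ a, by simp [g]⟩
  have h3 : ringKrullDim S + 1 ≤ ringKrullDim S := (add_le_add_left h2 1).trans (h1.trans h)
  have h4 : ringKrullDim S ≤ ringKrullDim R := ringKrullDim_le_of_surjective f hf
  have h5 : (0 : WithBot ℕ∞) ≤ ringKrullDim R := ringKrullDim_nonneg_of_nontrivial
  have h6 : ringKrullDim S = ringKrullDim R := le_antisymm h4 h
  rw [h6] at h3
  generalize ringKrullDim R = d at *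
  cases d with
  | bot => simp at h5
  | coe d =>
    cases d with
    | top => exact hfin rfl
    | coe n =>
      have : (n : WithBot ℕ∞) + 1 ≤ (n : WithBot ℕ∞) := h3
      have h7 : n + 1 ≤ n := by exact_mod_cast this
      omega

/-- If `u : X ⟶ Y` is a closed immersion such that `X` and `Y` have at `x`, `u(x)` the same finite dimension and `Y` is
integral at `u(x)`, then every point of `Y` specializing to `u x` comes from a point of `X` specializing to `x`. -/
theorem exists_of_specializes {X Y : Scheme.{u}} (u : X ⟶ Y) [IsClosedImmersion u] (x : X)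
    [IsDomain (Y.presheaf.stalk (u x))]
    (h : ringKrullDim (Y.presheaf.stalk (u x)) ≤ ringKrullDim (X.presheaf.stalk x))
    (hfin : ringKrullDim (Y.presheaf.stalk (u x)) ≠ ⊤) (y : Y) (hy : y ⤳ u x) :
    ∃ z : X, z ⤳ x ∧ u z = y := by
  have hsurj : Function.Surjective (u.stalkMap x).hom := u.stalkMap_surjective x
  have hinj := injective_of_ringKrullDim_le (u.stalkMap x).hom hsurj h hfin
  have hiso : IsIso (u.stalkMap x) := (ConcreteCategory.isIso_iff_bijective _).mpr ⟨hinj, hsurj⟩
  have hr : y ∈ Set.range (Y.fromSpecStalk (u x)) := by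
    rw [Scheme.range_fromSpecStalk]; exact hy
  obtain ⟨p, rfl⟩ := hr
  obtain ⟨q, rfl⟩ := (Spec.map (u.stalkMap x)).homeomorph.surjective p
  refine ⟨X.fromSpecStalk x q, ?_, ?_⟩
  · have : X.fromSpecStalk x q ∈ Set.range (X.fromSpecStalk x) := ⟨q, rfl⟩
    rw [Scheme.range_fromSpecStalk] at this
    exact this
  · have := congrArg (fun g => g q) (Scheme.SpecMap_stalkMap_fromSpecStalk (f := u) (x := x))
    dsimp only at this
    rw [← Scheme.Hom.comp_apply, ← this, Scheme.Hom.comp_apply]
    rfl

theorem image_connectedComponent {k : Type u} [Field k]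
    (G H : Over (Spec (CommRingCat.of k))) [GrpObj G] [GrpObj H]
    [Smooth G.hom] [Smooth H.hom] (u : G ⟶ H) [IsMonHom u] [IsClosedImmersion u.left]
    (hdim : topologicalKrullDim ↥G.left = topologicalKrullDim ↥H.left)
    (t : ↥((𝟙_ (Over (Spec (CommRingCat.of k)))).left)) :
    ⇑u.left.base '' connectedComponent (η[G].left.base t) = connectedComponent (η[H].left.base t) := by
  have ht : t = IsLocalRing.closedPoint k := Subsingleton.elim (α := PrimeSpectrum k) _ _
  subst ht
  have he : u.left (η[G].left (IsLocalRing.closedPoint k)) = η[H].left (IsLocalRing.closedPoint k) := by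
    rw [← Scheme.Hom.comp_apply, ← Over.comp_left, IsMonHom.one_hom]
  have hcl : ∀ (G : Over (Spec (CommRingCat.of k))) [GrpObj G],
      IsClosed ({η[G].left (IsLocalRing.closedPoint k)} : Set G.left) := by
    intro G _
    have h1 : IsClosed (Set.range η[G].left) := η[G].left.isClosedEmbedding.isClosed_range
    have h2 : Set.range η[G].left = {η[G].left (IsLocalRing.closedPoint k)} := by
      ext z
      constructor
      · rintro ⟨w, rfl⟩
        have : w = IsLocalRing.closedPoint k := Subsingleton.elim (α := PrimeSpectrum k) _ _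
        rw [this]; rfl
      · rintro rfl
        exact ⟨_, rfl⟩
    rwa [h2] at h1
  have hG := S0354.result k G (η[G].left (IsLocalRing.closedPoint k)) (hcl G)
  have hH := S0354.result k H (η[H].left (IsLocalRing.closedPoint k)) (hcl H)
  have hreg : IsRegularLocalRing (H.left.presheaf.stalk (u.left (η[G].left (IsLocalRing.closedPoint k)))) :=
    Lefpen.H705.ClosedPoint.isRegularLocalRing_stalk H.hom _
  have hdom : IsDomain (H.left.presheaf.stalk (u.left (η[G].left (IsLocalRing.closedPoint k)))) :=
    CalgA.RegBasic.isDomain _
  obtain ⟨hirr, -⟩ := S0355.result k H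
  obtain ⟨ξ, hξ⟩ := QuasiSober.sober hirr isClosed_connectedComponent
  have hξe : ξ ⤳ u.left (η[G].left (IsLocalRing.closedPoint k)) := by
    rw [specializes_iff_mem_closure]
    rw [isGenericPoint_def.1 hξ, he]
    exact mem_connectedComponent
  obtain ⟨z, hz, hzξ⟩ := exists_of_specializes u.left (η[G].left (IsLocalRing.closedPoint k))
    (by rw [hG, he, hH, hdim]) (by
      have : FiniteRingKrullDim (H.left.presheaf.stalk (u.left (η[G].left (IsLocalRing.closedPoint k)))) :=
        inferInstance
      exact ringKrullDim_ne_top) ξ hξe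
  apply subset_antisymm
  · refine _root_.IsPreconnected.subset_connectedComponent
      (isPreconnected_connectedComponent.image _ u.left.continuous.continuousOn) ?_
    exact ⟨_, mem_connectedComponent, he⟩
  · have h1 : IsClosed (u.left '' connectedComponent (η[G].left (IsLocalRing.closedPoint k))) :=
      u.left.isClosedEmbedding.isClosedMap _ isClosed_connectedComponent
    have h2 : z ∈ connectedComponent (η[G].left (IsLocalRing.closedPoint k)) := by
      have h3 : _root_.IsPreconnected (closure {z}) := isPreconnected_singleton.closure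
      have h4 := h3.subset_connectedComponent (hz.mem_closure)
      exact h4 (subset_closure rfl)
    have h5 : closure {ξ} = connectedComponent (η[H].left (IsLocalRing.closedPoint k)) := isGenericPoint_def.1 hξ
    change connectedComponent (η[H].left (IsLocalRing.closedPoint k)) ⊆ _
    rw [← h5]
    refine h1.closure_subset_iff.2 ?_
    rintro _ rfl
    exact ⟨z, h2, hzξ⟩

end K410.CompDim
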