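import Groth.Agent.Fdesc.GeomConn
import Mathlib.AlgebraicGeometry.Morphisms.Etale
import Mathlib.AlgebraicGeometry.Morphisms.QuasiFinite
import Mathlib.AlgebraicGeometry.Fiber
import Mathlib.CategoryTheory.Monoidal.Cartesian.Over
import Mathlib.RingTheory.Unramified.LocalStructure
import Mathlib.AlgebraicGeometry.Limits

/-!
# Schemes with a section and connected fibres; agreement of two maps into an étale scheme

* `geometricallyConnected_of_section`: a scheme over `S` with a section and connected fibres is geometrically connected.
* `eq_of_etale_of_section`: two morphisms `o c : P ⟶ X` with the same composite to `Y` along an étale `f : X ⟶ Y`, where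
  `π : P ⟶ T` is geometrically connected, the common composite `P ⟶ Y` factors through `π`, and `o`, `c` agree on a section
  of `π`, are equal.
-/

set_option autoImplicit false
universe u
open CategoryTheory CategoryTheory.Limits AlgebraicGeometry

namespace K410.ConnFib

theorem locallyQuasiFinite_of_etale {X Y : Scheme.{u}} (f : X ⟶ Y) [Etale f] :
    LocallyQuasiFinite f := by
  rw [HasRingHomProperty.eq_affineLocally (P := @LocallyQuasiFinite), affineLocally_iff_affineOpens_le]
  intro V W h
  have het : (f.appLE V W h).hom.Etale := HasRingHomProperty.appLE @Etale f inferInstance V W h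
  algebraize [(f.appLE V W h).hom]
  exact (RingHom.quasiFinite_algebraMap ..).mpr inferInstance

theorem eq_of_epi_pullback {F X Y : Scheme.{u}} (f : X ⟶ Y) (a b : F ⟶ X) (d : F ⟶ pullback f f)
    (hd1 : d ≫ pullback.fst f f = a) (hd2 : d ≫ pullback.snd f f = b)
    [Epi (pullback.snd (pullback.diagonal f) d)] : a = b := by
  have hc := pullback.condition (f := pullback.diagonal f) (g := d)
  rw [← cancel_epi (pullback.snd (pullback.diagonal f) d)]
  have h1 : pullback.snd (pullback.diagonal f) d ≫ a = pullback.fst (pullback.diagonal f) d := by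
    rw [← hd1, ← Category.assoc, ← hc, Category.assoc, pullback.diagonal_fst, Category.comp_id]
  have h2 : pullback.snd (pullback.diagonal f) d ≫ b = pullback.fst (pullback.diagonal f) d := by
    rw [← hd2, ← Category.assoc, ← hc, Category.assoc, pullback.diagonal_snd, Category.comp_id]
  rw [h1, h2]

/-- The locus where two maps `a b : F ⟶ X` (with the same composite along `f : X ⟶ Y`) agree, when it is an immersion of
a nonempty scheme which is open and closed in a connected `F`, is everything. -/
theorem eq_of_diagonal_clopen {F X Y Z : Scheme.{u}} [ConnectedSpace F]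
    (a b : F ⟶ X) (f : X ⟶ Y) [IsOpenImmersion (pullback.diagonal f)] [IsSeparated f] (h : a ≫ f = b ≫ f)
    [Nonempty Z] (p : Z ⟶ F) (hp : p ≫ a = p ≫ b) : a = b := by
  obtain ⟨d, hd1, hd2⟩ : ∃ d : F ⟶ pullback f f, d ≫ pullback.fst f f = a ∧ d ≫ pullback.snd f f = b :=
    ⟨pullback.lift a b h, pullback.lift_fst _ _ _, pullback.lift_snd _ _ _⟩
  let e := pullback.snd (pullback.diagonal f) d
  let l : Z ⟶ pullback (pullback.diagonal f) d := pullback.lift (p ≫ a) p (by
    apply pullback.hom_ext
    · simp only [Category.assoc, pullback.diagonal_fst, Category.comp_id, hd1]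
    · simp only [Category.assoc, pullback.diagonal_snd, Category.comp_id, hd2, hp])
  obtain ⟨z⟩ := (inferInstance : Nonempty Z)
  have hcl : IsClopen (Set.range e) := ⟨e.isClosedEmbedding.isClosed_range, e.isOpenEmbedding.isOpen_range⟩
  have huniv : Set.range e = Set.univ := hcl.eq_univ ⟨_, l z, rfl⟩
  have : Surjective e := ⟨Set.range_eq_univ.mp huniv⟩
  have : IsIso e := (isIso_iff_isOpenImmersion_and_surjective e).mpr ⟨inferInstance, inferInstance⟩
  exact eq_of_epi_pullback f a b d hd1 hd2

/-- Two maps from a connected scheme over a field into an étale scheme over that field (not assumed separated)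
that agree on a nonempty scheme are equal. -/
theorem eq_of_etale_field {k : Type u} [Field k] {F X Z : Scheme.{u}} [ConnectedSpace F]
    (a b : F ⟶ X) (π : X ⟶ Spec (.of k)) [Etale π] (h : a ≫ π = b ≫ π) [Nonempty Z] (p : Z ⟶ F)
    (hp : p ≫ a = p ≫ b) : a = b := by
  have := locallyQuasiFinite_of_etale π
  have hd : DiscreteTopology X := by
    have := π.isDiscrete_preimage_singleton (IsLocalRing.closedPoint k)
    rw [← isDiscrete_univ_iff]
    convert this
    ext x
    simp only [Set.mem_univ, Set.mem_preimage, Set.mem_singleton_iff, true_iff]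
    exact Subsingleton.elim _ _
  obtain ⟨z⟩ := (inferInstance : Nonempty Z)
  let x : X := a (p z)
  have hxb : b (p z) = x := by
    simp only [x]
    rw [← Scheme.Hom.comp_apply, ← Scheme.Hom.comp_apply, hp]
  have ha : ∀ q : F, a q = x := fun q ↦
    PreconnectedSpace.constant inferInstance a.continuous
  have hb : ∀ q : F, b q = x := fun q ↦ by
    rw [← hxb]
    exact PreconnectedSpace.constant inferInstance b.continuous
  let V : X.Opens := ⟨{x}, isOpen_discrete _⟩
  have hVf : Finite (V : Scheme.{u}) := Set.Finite.to_subtype (Set.finite_singleton x)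
  have hVd : DiscreteTopology (V : Scheme.{u}) := inferInstanceAs (DiscreteTopology (V : Set X))
  have hVa : IsAffine (V : Scheme.{u}) := inferInstance
  have hra : Set.range a ⊆ Set.range V.ι := by
    rintro _ ⟨q, rfl⟩
    rw [Scheme.Opens.range_ι]
    exact ha q
  have hrb : Set.range b ⊆ Set.range V.ι := by
    rintro _ ⟨q, rfl⟩
    rw [Scheme.Opens.range_ι]
    exact hb q
  let a' := IsOpenImmersion.lift V.ι a hra
  let b' := IsOpenImmersion.lift V.ι b hrb
  have ha' : a' ≫ V.ι = a := IsOpenImmersion.lift_fac _ _ _
  have hb' : b' ≫ V.ι = b := IsOpenImmersion.lift_fac _ _ _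
  have hp' : p ≫ a' = p ≫ b' := by
    rw [← cancel_mono V.ι, Category.assoc, Category.assoc, ha', hb', hp]
  suffices a' = b' by rw [← ha', ← hb', this]
  have : Etale (V.ι ≫ π) := inferInstance
  refine eq_of_diagonal_clopen a' b' (V.ι ≫ π) ?_ p hp'
  rw [← Category.assoc, ha', h, ← Category.assoc, hb']

theorem geometricallyConnected_id (Y : Scheme.{u}) : GeometricallyConnected (𝟙 Y) := by
  refine ⟨fun K _ y Z fst snd h ↦ ?_⟩
  have : IsIso snd := MorphismProperty.of_isPullback (P := MorphismProperty.isomorphisms Scheme.{u}) h
    (inferInstanceAs (IsIso (𝟙 Y)))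
  exact (Scheme.homeoOfIso (asIso snd)).symm.surjective.connectedSpace
    (Scheme.homeoOfIso (asIso snd)).symm.continuous

/-- A scheme over `S` with a section and connected fibres is geometrically connected. -/
theorem geometricallyConnected_of_section {G S : Scheme.{u}} (g : G ⟶ S) (e : S ⟶ G) (he : e ≫ g = 𝟙 S)
    (hconn : ∀ s : S, ConnectedSpace (g.fiber s)) : GeometricallyConnected g := by
  rw [GeometricallyConnected.iff_geometricallyConnected_fiber]
  intro s
  have := hconn s
  let σ : Spec (S.residueField s) ⟶ g.fiber s :=
    pullback.lift (S.fromSpecResidueField s ≫ e) (𝟙 _) (by rw [Category.assoc, he, Category.comp_id, Category.id_comp])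
  have hσ : σ ≫ g.fiberToSpecResidueField s = 𝟙 _ := pullback.lift_snd _ _ _
  have : GeometricallyConnected (σ ≫ g.fiberToSpecResidueField s) := by
    rw [hσ]
    exact geometricallyConnected_id _
  exact Groth.Agent.Fdesc.GeomConn.geometricallyConnected_of_hom (k := S.residueField s)
    (g.fiberToSpecResidueField s) σ

/-- Two maps into an étale `Y`-scheme whose common composite to `Y` is constant along a geometrically connected `P ⟶ T`
and which agree on a section are equal. -/
theorem eq_of_etale_of_section {P T X Y : Scheme.{u}} (π : P ⟶ T) [GeometricallyConnected π] (e : T ⟶ P)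
    (he : e ≫ π = 𝟙 T) (o c : P ⟶ X) (f : X ⟶ Y) [Etale f] (y : T ⟶ Y) (ho : o ≫ f = π ≫ y) (hc : c ≫ f = π ≫ y)
    (heq : e ≫ o = e ≫ c) : o = c := by
  obtain ⟨d, hd1, hd2⟩ : ∃ d : P ⟶ pullback f f, d ≫ pullback.fst f f = o ∧ d ≫ pullback.snd f f = c :=
    ⟨pullback.lift o c (ho.trans hc.symm), pullback.lift_fst _ _ _, pullback.lift_snd _ _ _⟩
  let i := pullback.snd (pullback.diagonal f) d
  have hsurj : Surjective i := by
    constructor
    intro p
    let t := π p
    let j := π.fiberι t
    have hoc : j ≫ o = j ≫ c := by
      let q : π.fiber t ⟶ Spec (T.residueField t) := π.fiberToSpecResidueField t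
      have hq : q ≫ T.fromSpecResidueField t = j ≫ π := (π.fiber_fac t).symm
      let z := T.fromSpecResidueField t ≫ y
      let a : π.fiber t ⟶ pullback f z := pullback.lift (j ≫ o) q (by
        rw [Category.assoc, ho, ← Category.assoc, ← hq, Category.assoc])
      let b : π.fiber t ⟶ pullback f z := pullback.lift (j ≫ c) q (by
        rw [Category.assoc, hc, ← Category.assoc, ← hq, Category.assoc])
      let σ : Spec (T.residueField t) ⟶ π.fiber t :=
        pullback.lift (T.fromSpecResidueField t ≫ e) (𝟙 _) (by
          rw [Category.assoc, he, Category.comp_id, Category.id_comp])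
      have hσ : σ ≫ j = T.fromSpecResidueField t ≫ e := pullback.lift_fst _ _ _
      have hab : a = b := by
        refine eq_of_etale_field (k := T.residueField t) a b (pullback.snd f z) ?_ σ ?_
        · rw [pullback.lift_snd, pullback.lift_snd]
        · apply pullback.hom_ext
          · rw [Category.assoc, Category.assoc, pullback.lift_fst, pullback.lift_fst, ← Category.assoc,
              ← Category.assoc, hσ, Category.assoc, Category.assoc, heq]
          · rw [Category.assoc, Category.assoc, pullback.lift_snd, pullback.lift_snd]
      have := congr($hab ≫ pullback.fst f z)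
      simpa only [a, b, pullback.lift_fst] using this
    let l : π.fiber t ⟶ pullback (pullback.diagonal f) d := pullback.lift (j ≫ o) j (by
      apply pullback.hom_ext
      · simp only [Category.assoc, pullback.diagonal_fst, Category.comp_id, hd1]
      · simp only [Category.assoc, pullback.diagonal_snd, Category.comp_id, hd2, hoc])
    have hl : l ≫ i = j := pullback.lift_snd _ _ _
    obtain ⟨w, hw⟩ : p ∈ Set.range (π.fiberι t) := by
      rw [Scheme.Hom.range_fiberι]
      rfl
    refine ⟨l w, ?_⟩
    rw [← Scheme.Hom.comp_apply, hl]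
    exact hw
  have : IsIso i := (isIso_iff_isOpenImmersion_and_surjective i).mpr ⟨inferInstance, inferInstance⟩
  exact eq_of_epi_pullback f o c d hd1 hd2

end K410.ConnFib
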