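import Groth.Agent.AlgGrp.K410.Data
import Groth.Agent.S14124
import Groth.Agent.Ega3B.SectExact

/-!
# Infinite-dimensionality of the sections of the pullbacks of ample sheaves
-/

set_option autoImplicit false
set_option linter.unusedSectionVars false
universe u
open CategoryTheory MonoidalCategory CartesianMonoidalCategory MonObj GrpObj AlgebraicGeometry Limits

namespace K410.Core

open Groth.Agent K410.LocSec K410.LocSys K410.Data
open Groth.Agent.Fdesc.LocGen

variable {k : Type u} [Field k]

theorem isField_top {G : Over (Spec (CommRingCat.of k))} (hG : IsIso G.hom.appTop) : IsField Γ(G.left, ⊤) := by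
  have h1 : IsIso ((Scheme.ΓSpecIso (CommRingCat.of k)).inv ≫ G.hom.appTop) := inferInstance
  have e := (asIso ((Scheme.ΓSpecIso (CommRingCat.of k)).inv ≫ G.hom.appTop)).commRingCatIsoToRingEquiv
  exact e.symm.toMulEquiv.isField (Field.toIsField k)

theorem surjective_top {G A : Over (Spec (CommRingCat.of k))} (q : G ⟶ A) (hG : IsIso G.hom.appTop) :
    Function.Surjective (q.left.app ⊤) := by
  intro a
  obtain ⟨b, hb⟩ := (ConcreteCategory.bijective_of_isIso G.hom.appTop).2 a
  refine ⟨A.hom.appTop b, ?_⟩
  rw [← hb]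
  have h : A.hom.appTop ≫ q.left.appTop = G.hom.appTop := by
    rw [← Scheme.Hom.comp_appTop, Over.w]
  exact congr($h b)

/-- The sections of the pullback of an ample sheaf are not finite-dimensional. -/
theorem core [IsAlgClosed k] {N G A : Over (Spec (CommRingCat.of k))} [GrpObj N] [GrpObj G] [GrpObj A]
    [Smooth G.hom] [QuasiCompact G.hom] (i : N ⟶ G) (q : G ⟶ A) [IsMonHom i] [IsClosedImmersion i.left]
    [IsAffine N.left] [Smooth N.hom] [ConnectedSpace N.left] [IsMonHom q] [Surjective q.left] [Flat q.left]
    (hk : AlgGrp.IsKernel i q) [IsProper A.hom] [Smooth A.hom] [ConnectedSpace A.left]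
    (hG : IsIso G.hom.appTop) (hF : HasFn N) {M : A.left.Modules} (hM : CohB1.IsAmple M) :
    ¬ Module.Finite Γ(G.left, ⊤) Γ((Scheme.Modules.pullback q.left).obj M, ⊤) := by
  have hb := (K414.AntiAffBC.bijective_iff G).2 hG
  obtain ⟨hconn, hcomm⟩ := S3293.result k G hb
  have hGi : IsIntegral G.left := K399.Basic.isIntegral G
  have hAi : IsIntegral A.left := K399.Basic.isIntegral A
  have hAg : GeometricallyIntegral A.hom := K399.Basic.geometricallyIntegral A
  have hAc : IsCommMonObj A := isCommMonObj_of_isProper_of_geometricallyIntegral A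
  have hm : Mono i := K414.Kit.mono_of_closed i
  have hNc : IsCommMonObj N := K399.CommSect.isCommMonObj_of_mono i
  have hcomp : CompactSpace A.left := (quasiCompact_iff_compactSpace A.hom).1 inferInstance
  obtain ⟨p, hp⟩ := LocEx.exists_ls i hk
  have hcov : ⨆ p : LS q, p.V = ⊤ := by
    have h1 := LocEx.iSup_tra p hp
    rw [eq_top_iff, ← h1]
    exact iSup_le fun y => le_iSup (fun p : LS q => p.V) (p.tra y)
  have hqc : QuasiCompact q.left := K414.Kit.quasiCompact_left q
  have hdom : IsSchemeTheoreticallyDominant q.left := IsSchemeTheoreticallyDominant.of_isDominant q.left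
  have hinj : ∀ U : A.left.Opens, Function.Injective (q.left.app U) := fun U => q.left.app_injective U
  have hgc : GeometricallyConnected A.hom := ⟨fun K _ y Z fst snd h => by
    have : IrreducibleSpace Z :=
      GeometricallyIrreducible.geometrically_irreducibleSpace (f := A.hom) y fst snd h
    infer_instance⟩
  obtain ⟨hvan, hnt⟩ := S14124.result k A M hM
  obtain ⟨x, hx⟩ := exists_ne (0 : Coh.HH A.left M 0)
  let s : Γ(M, ⊤) := Ega3B.SectExact.secEquiv M x
  have hs : s ≠ 0 := fun h => hx ((Ega3B.SectExact.secEquiv M).injective (h.trans (map_zero _).symm))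
  rcases hF with ⟨c, hc, hcu, hV⟩ | ⟨h0, c, hc, hV⟩
  · refine MulMain.main i hk hinj hc hcu hV hcov hM (homOf s) (fun h => hs ?_) (isField_top hG) (surjective_top q hG)
    have h2 := congrArg (fun t => sec t ⊤) h
    simp only [sec_homOf, res_refl] at h2
    exact h2
  · refine AddMain.main i hk hinj hc hV hcov (fun n => ?_) hM.1 (hvan 1 one_pos) s hs (isField_top hG)
      (surjective_top q hG)
    have h2 : IsUnit (((n + 1 : ℕ) : k)) := (Nat.cast_ne_zero.2 (Nat.succ_ne_zero n)).isUnit
    have h3 := h2.map ((Scheme.ΓSpecIso (CommRingCat.of k)).inv ≫ A.hom.appTop).hom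
    rwa [map_natCast] at h3

end K410.Core
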