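import Groth.Agent.AlgGrp.K410.AddMain
import Groth.Agent.AlgGrp.K399.HopfDom
import Groth.Agent.AlgGrp.K399.LiftComm
import Groth.Agent.HopfRep.K188.TrigUnip
import Groth.Agent.S3308
import Groth.Agent.S4141
import Groth.Agent.S14600
import Groth.Agent.S3293
import Groth.Agent.TateLoc.K620.HopfSeq

/-!
# Non-proper anti-affine groups over an algebraically closed field
-/

set_option autoImplicit false
set_option linter.unusedSectionVars false
universe u
open CategoryTheory MonoidalCategory CartesianMonoidalCategory MonObj GrpObj AlgebraicGeometry Limits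

namespace K410.Data

open Groth.Agent K410.LocSec K410.FnLaw K410.LocSys K410.FnVal
open Groth.Agent.Books.AffBridge Groth.Agent.Books.AffBridge2 Groth.Agent.Books.UnipExt

variable {k : Type u} [Field k]

/-- There is a nonconstant multiplicative function, or a nonconstant additive function in characteristic zero. -/
def HasFn (N : Over (Spec (CommRingCat.of k))) [GrpObj N] : Prop :=
  (∃ c : Γ(N.left, ⊤), IsMul c ∧ IsUnit c ∧
    (Set.range fun n : 𝟙_ (Over (Spec (CommRingCat.of k))) ⟶ N => evk n c).Infinite) ∨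
  (CharZero k ∧ ∃ c : Γ(N.left, ⊤), IsAdd c ∧
    (Set.range fun n : 𝟙_ (Over (Spec (CommRingCat.of k))) ⟶ N => evk n c).Infinite)

theorem hasFn_of_groupLike [IsAlgClosed k] {A : Type u} [CommRing A] [HopfAlgebra k A] [Algebra.FiniteType k A]
    [IsDomain A] {N : Over (Spec (CommRingCat.of k))} [GrpObj N] (e : N ≅ SpecOver k A) [IsMonHom e.hom] {g : A}
    (hg : IsGroupLikeElem k g) (hg1 : g ≠ 1) : HasFn N := by
  refine Or.inl ⟨fn e.hom g, isMul_fn e.hom hg, ?_, infinite_evk e g (ne_of_groupLike hg hg1)⟩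
  have h1 : IsUnit g := IsUnit.of_mul_eq_one _ hg.mul_antipode_cancel
  exact (h1.map (Scheme.ΓSpecIso (CommRingCat.of A)).inv.hom).map e.hom.left.appTop.hom

theorem hasFn_of_prim [IsAlgClosed k] [CharZero k] {A : Type u} [CommRing A] [HopfAlgebra k A] [Algebra.FiniteType k A]
    [IsDomain A] {N : Over (Spec (CommRingCat.of k))} [GrpObj N] (e : N ≅ SpecOver k A) [IsMonHom e.hom] {g : A}
    (hg : IsPrim k g) (hg1 : g ≠ 0) : HasFn N :=
  Or.inr ⟨inferInstance, fn e.hom g, isAdd_fn e.hom hg, infinite_evk e g (ne_of_prim hg hg1)⟩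

/-- A Hopf algebra whose augmentation ideal is zero is trivial. -/
theorem isIso_hom_of_ker {A : Type u} [CommRing A] [HopfAlgebra k A] {N : Over (Spec (CommRingCat.of k))}
    (e : N ≅ SpecOver k A) (h : (⊥ : Ideal A) = RingHom.ker (Bialgebra.counitAlgHom k A)) : IsIso N.hom := by
  have h1 : Function.Bijective (algebraMap k A) := by
    constructor
    · intro a b hab
      have h2 := congrArg (Bialgebra.counitAlgHom k A) hab
      simpa using h2
    · intro a
      refine ⟨Bialgebra.counitAlgHom k A a, ?_⟩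
      have h2 : a - algebraMap k A (Bialgebra.counitAlgHom k A a) ∈ RingHom.ker (Bialgebra.counitAlgHom k A) := by
        rw [RingHom.mem_ker, map_sub, AlgHom.commutes]
        simp
      rw [← h, Ideal.mem_bot, sub_eq_zero] at h2
      exact h2.symm
  have h3 : IsIso (CommRingCat.ofHom (algebraMap k A)) := (ConcreteCategory.isIso_iff_bijective _).2 h1
  have h4 : IsIso (SpecOver k A).hom := inferInstanceAs (IsIso (Spec.map (CommRingCat.ofHom (algebraMap k A))))
  have h5 : IsIso e.hom.left := inferInstanceAs (IsIso ((Over.forget _).map e.hom))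
  rw [← Over.w e.hom]
  infer_instance

/-- In characteristic zero, smooth connected commutative affine groups have nonconstant multiplicative or additive
functions. -/
theorem hasFn_charZero [IsAlgClosed k] [CharZero k] (N : Over (Spec (CommRingCat.of k))) [GrpObj N] [IsCommMonObj N]
    [Smooth N.hom] [ConnectedSpace N.left] [IsAffine N.left] (hN : ¬ IsIso N.hom) : HasFn N := by
  obtain ⟨A, _, _, _, e, he, hft⟩ := K620.HopfSeq.exists_model N
  have := hft inferInstance
  have hint := K399.Basic.isIntegral N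
  have hdom : IsDomain A := K399.HopfDom.isDomain_of_iso e
  by_cases hg : ∃ g : A, IsGroupLikeElem k g ∧ g ≠ 1
  · obtain ⟨g, hg, hg1⟩ := hg
    exact hasFn_of_groupLike e hg hg1
  · push Not at hg
    have hT := S3308.result k A
    have hU : HopfRep.IsUnipotent k A := K188.TrigUnip.isUnipotent_of_isTrigonalizable hT
      (BialgHom.id k A) Function.surjective_id (fun g h => hg g h)
    obtain ⟨T, hT0, hT⟩ := Sga7.H740.GaSub.exists_prim_of_isUnipotent hU (fun h => hN (isIso_hom_of_ker e h))
    exact hasFn_of_prim e hT hT0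

/-- A torus has nonconstant multiplicative functions. -/
theorem hasFn_torus [IsAlgClosed k] (N : Over (Spec (CommRingCat.of k))) [GrpObj N] (hT : Red.IsTorus N)
    (hN : ¬ IsIso N.hom) : HasFn N := by
  obtain ⟨n, e, he⟩ := Sga3B.RG.BrTorus.isTorus_iff.1 hT
  have hdom : IsDomain (Sga3B.RG.BrTorus.KZ k n) := inferInstance
  cases n with
  | zero =>
    refine absurd (isIso_hom_of_ker e ?_) hN
    symm
    rw [eq_bot_iff]
    intro x hx
    rw [RingHom.mem_ker] at hx
    have h1 : x = algebraMap k _ (x.coeff 1) := by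
      apply MonoidAlgebra.coeff_injective
      refine Finsupp.ext fun m => ?_
      have hm : m = 1 := Subsingleton.elim _ _
      subst hm
      simp [MonoidAlgebra.coe_algebraMap, MonoidAlgebra.coeff_single]
    rw [h1, AlgHom.commutes] at hx
    have hx' : x.coeff 1 = 0 := hx
    rw [h1, hx', map_zero]
    exact Submodule.zero_mem _
  | succ n =>
    refine hasFn_of_groupLike e (g := MonoidAlgebra.of k _ (Multiplicative.ofAdd (Pi.single (0 : Fin (n + 1)) (1 : ℤ))))
      (MonoidAlgebra.isGroupLikeElem_of _) ?_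
    intro h
    rw [← map_one (MonoidAlgebra.of k (Multiplicative (Fin (n + 1) → ℤ)))] at h
    have h1 := MonoidAlgebra.of_injective h
    have h2 := congrFun (congrArg Multiplicative.toAdd h1) 0
    simp at h2

theorem not_isIso_hom {N G A : Over (Spec (CommRingCat.of k))} [GrpObj N] [GrpObj G] [GrpObj A]
    (i : N ⟶ G) {q : G ⟶ A} [IsMonHom i] [IsMonHom q] (hk : AlgGrp.IsKernel i q) [IsProper A.hom]
    [LocallyOfFiniteType G.hom] [QuasiCompact G.hom] (h : ¬ IsProper G.hom) : ¬ IsIso N.hom := by
  intro hN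
  apply h
  have hsub : ∀ {T : Over (Spec (CommRingCat.of k))} (x y : T ⟶ N), x = y := by
    intro T x y
    ext1
    rw [← cancel_mono N.hom, Over.w, Over.w]
  have hm : Mono q := by
    refine ⟨fun {T} x y hxy => ?_⟩
    have h1 : (x * y⁻¹) ≫ q = 1 := by
      rw [MonObj.mul_comp, GrpObj.inv_comp, hxy, mul_inv_cancel]
    obtain ⟨n, hn⟩ := ker_lift hk (x * y⁻¹) h1
    rw [hsub n 1, MonObj.one_comp] at hn
    exact (mul_inv_eq_one.1 hn.symm)
  have hc : IsClosedImmersion q.left := Sga7.H783.GmSub.isClosedImmersion_of_mono q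
  rw [← Over.w q]
  infer_instance

/-- A presentation of a non-proper anti-affine group. -/
theorem exists_data [IsAlgClosed k] (G : Over (Spec (CommRingCat.of k))) [GrpObj G] [Smooth G.hom] [QuasiCompact G.hom]
    (hG : IsIso G.hom.appTop) (hnp : ¬ IsProper G.hom) :
    ∃ (N A : Over (Spec (CommRingCat.of k))) (_ : GrpObj N) (_ : GrpObj A) (i : N ⟶ G) (q : G ⟶ A),
      IsMonHom i ∧ IsClosedImmersion i.left ∧ IsAffine N.left ∧ Smooth N.hom ∧ ConnectedSpace N.left ∧
      IsMonHom q ∧ Surjective q.left ∧ Flat q.left ∧ AlgGrp.IsKernel i q ∧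
      IsProper A.hom ∧ Smooth A.hom ∧ ConnectedSpace A.left ∧ HasFn N := by
  have hb := (K414.AntiAffBC.bijective_iff G).2 hG
  obtain ⟨hconn, hcomm⟩ := S3293.result k G hb
  obtain ⟨p, hp⟩ := CharP.exists k
  rcases Nat.eq_zero_or_pos p with rfl | hpos
  · have : CharZero k := CharP.charP_to_charZero k
    obtain ⟨N, _, i, A, _, q, h1, h2, h3, h4, h5, -, h6, h7, h8, h9, h10, h11, h12, -⟩ := S4141.result k G
    have hm : Mono i := K414.Kit.mono_of_closed i
    have hNc : IsCommMonObj N := K399.CommSect.isCommMonObj_of_mono i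
    exact ⟨N, A, _, _, i, q, h1, h2, h3, h4, h5, h6, h7, h8, h9, h10, h11, h12,
      hasFn_charZero N (not_isIso_hom i h9 hnp)⟩
  · have : Fact p.Prime := ⟨(CharP.char_is_prime_or_zero k p).resolve_right hpos.ne'⟩
    obtain ⟨N, _, i, A, _, q, h1, h2, h3, h4, h5, h6, h7, h8, h9, h10⟩ := S14600.result k p G hb
    obtain ⟨n, e, he⟩ := Sga3B.RG.BrTorus.isTorus_iff.1 h3
    have hi : IsIso e.hom.left := inferInstanceAs (IsIso ((Over.forget _).map e.hom))
    have hi' : IsIso e.inv.left := inferInstanceAs (IsIso ((Over.forget _).map e.inv))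
    have ha : IsAffine (SpecOver k (Sga3B.RG.BrTorus.KZ k n)).left :=
      inferInstanceAs (IsAffine (Spec (CommRingCat.of (Sga3B.RG.BrTorus.KZ k n))))
    have hdom : IsDomain (Sga3B.RG.BrTorus.KZ k n) := inferInstance
    have hint : IsIntegral (SpecOver k (Sga3B.RG.BrTorus.KZ k n)).left :=
      inferInstanceAs (IsIntegral (Spec (CommRingCat.of (Sga3B.RG.BrTorus.KZ k n))))
    have hconn : ConnectedSpace N.left := e.inv.left.homeomorph.surjective.connectedSpace e.inv.left.continuous
    exact ⟨N, A, _, _, i, q, h1, h2, IsAffine.of_isIso e.hom.left, Sga3B.TorusAlgClosed.smooth_of_isTorus h3, hconn, h4, h5, h6,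
      h7, h8, h9, h10, hasFn_torus N h3 (not_isIso_hom i h7 hnp)⟩

end K410.Data
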