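import Groth.Agent.Localalg.GrpDim
import Groth.Agent.S0355

/-!
# Closed subgroups of the same dimension contain the neutral component
-/

set_option autoImplicit false
universe u
open CategoryTheory MonoidalCategory CartesianMonoidalCategory MonObj GrpObj AlgebraicGeometry

namespace K410.DimClosed

open Groth.Agent

/-- Let `m : M ⟶ G` be a closed immersion, `x` a point of `M` whose image has the same finite
codimension, and `ξ` a point of `G` such that every generization of `m x` is a specialization of `ξ`. Then `ξ` is in the range of `m`. -/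
theorem mem_range_of_coheight {M G : Scheme.{u}} (m : M ⟶ G) [IsClosedImmersion m] (x : M)
    (n : ℕ) (h1 : Order.coheight x = n) (h2 : Order.coheight (m x) = n) (ξ : G)
    (hξ : ∀ y : G, y ⤳ m x → ξ ⤳ y) : ξ ∈ Set.range m := by
  by_contra hcon
  obtain ⟨p, hp, hlen⟩ := Order.exists_series_of_le_coheight x h1.ge
  have hstrict : StrictMono m := by
    intro a b hab
    have h3 : m a ≤ m b := (show b ⤳ a from hab.le).map m.continuous
    refine lt_of_le_not_ge h3 fun h4 => ?_
    have h5 : m a ⤳ m b := h4
    exact hab.not_ge (m.isClosedEmbedding.isInducing.specializes_iff.mp h5)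
  have hlast : (p.map m hstrict).last < ξ := by
    have h3 : x ≤ p.last := by
      rw [← hp]
      exact p.head_le_last
    have h4 : (p.map m hstrict).last = m p.last := by simp
    rw [h4]
    have h5 : m p.last ⤳ m x := (show p.last ⤳ x from h3).map m.continuous
    have h6 : m p.last ≤ ξ := hξ _ h5
    refine lt_of_le_not_ge h6 fun h7 => hcon ?_
    have h8 : m p.last ⤳ ξ := h7
    exact h8.mem_closed m.isClosedEmbedding.isClosed_range ⟨_, rfl⟩
  let q := (p.map m hstrict).snoc ξ hlast
  have hq : (q.length : ℕ∞) ≤ Order.coheight (m x) := by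
    refine Order.length_le_coheight ?_
    have : q.head = m x := by simp [q, hp]
    exact this.ge
  have hq2 : q.length = n + 1 := by simp [q, hlen]
  rw [h2, hq2] at hq
  have : n + 1 ≤ n := by exact_mod_cast hq
  omega

/-- A closed subgroup of the same dimension contains the neutral component. -/
theorem connectedComponent_subset_range {k : Type u} [Field k] {M G : Over (Spec (CommRingCat.of k))}
    [GrpObj M] [GrpObj G] [LocallyOfFiniteType G.hom] (m : M ⟶ G) [IsMonHom m] [IsClosedImmersion m.left]
    (hdim : topologicalKrullDim M.left = topologicalKrullDim G.left) :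
    connectedComponent (η[G].left (IsLocalRing.closedPoint k)) ⊆ Set.range m.left := by
  have hM : LocallyOfFiniteType M.hom := by rw [← Over.w m]; infer_instance
  have he : m.left (η[M].left (IsLocalRing.closedPoint k)) = η[G].left (IsLocalRing.closedPoint k) := by
    rw [← Scheme.Hom.comp_apply, ← Over.comp_left, IsMonHom.one_hom]
  have hcl : ∀ (G : Over (Spec (CommRingCat.of k))) [GrpObj G],
      IsClosed ({η[G].left (IsLocalRing.closedPoint k)} : Set G.left) := by
    intro G _
    have h1 : IsClosed (Set.range η[G].left) := η[G].left.isClosedEmbedding.isClosed_range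
    have h2 : Set.range η[G].left = {η[G].left (IsLocalRing.closedPoint k)} := by
      ext z
      constructor
      · rintro ⟨w, rfl⟩
        have : w = IsLocalRing.closedPoint k := Subsingleton.elim (α := PrimeSpectrum k) _ _
        rw [this]; rfl
      · rintro rfl
        exact ⟨_, rfl⟩
    rwa [h2] at h1
  have g1 : GrpObj (Over.mk G.hom) := inferInstanceAs (GrpObj G)
  have g2 : GrpObj (Over.mk M.hom) := inferInstanceAs (GrpObj M)
  have d1 := Localalg.GrpDim.ringKrullDim_stalk G.hom _ (hcl G)
  have d2 := Localalg.GrpDim.ringKrullDim_stalk M.hom _ (hcl M)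
  have hn1 : IsLocallyNoetherian G.left := LocallyOfFiniteType.isLocallyNoetherian G.hom
  have hfin : ringKrullDim (G.left.presheaf.stalk (η[G].left (IsLocalRing.closedPoint k))) ≠ ⊤ := by
    have : FiniteRingKrullDim (G.left.presheaf.stalk (η[G].left (IsLocalRing.closedPoint k))) := inferInstance
    exact ringKrullDim_ne_top
  rw [← hdim, ← d2] at d1
  rw [d1] at hfin
  rw [ringKrullDim_stalk_eq_coheight, ringKrullDim_stalk_eq_coheight] at d1
  rw [ringKrullDim_stalk_eq_coheight] at hfin
  obtain ⟨n, hn⟩ : ∃ n : ℕ, Order.coheight (η[M].left (IsLocalRing.closedPoint k)) = n := by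
    have : Order.coheight (η[M].left (IsLocalRing.closedPoint k)) ≠ ⊤ := fun h => hfin (by rw [h]; rfl)
    exact ⟨_, (ENat.natCast_toNat this).symm⟩
  have hn' : Order.coheight (m.left (η[M].left (IsLocalRing.closedPoint k))) = n := by
    rw [he, ← hn]
    exact WithBot.coe_injective d1
  obtain ⟨hirr, -⟩ := S0355.result k G
  obtain ⟨ξ, hξ⟩ := QuasiSober.sober hirr isClosed_connectedComponent
  have h5 : closure {ξ} = connectedComponent (η[G].left (IsLocalRing.closedPoint k)) := isGenericPoint_def.1 hξ
  have h6 : ξ ∈ Set.range m.left := by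
    refine mem_range_of_coheight m.left _ n hn hn' ξ fun y hy => ?_
    rw [specializes_iff_mem_closure, h5]
    rw [he] at hy
    have h3 : _root_.IsPreconnected (closure {y}) := isPreconnected_singleton.closure
    exact h3.subset_connectedComponent (hy.mem_closure) (subset_closure rfl)
  rw [← h5]
  refine m.left.isClosedEmbedding.isClosed_range.closure_subset_iff.2 ?_
  rintro _ rfl
  exact h6

end K410.DimClosed
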