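import Groth.Agent.AlgGrp.K410.DimClosed
import Groth.Agent.AlgGrp.K411.GenClos
import Groth.Agent.AlgGrp.K411.DimPt
import Groth.Agent.AlgGrp.K414.RedNorm
import Groth.Agent.AlgGrp.K414.Hull
import Groth.Agent.S3023
import Groth.Agent.S4109
import Groth.Agent.S3293
import Groth.Agent.S5322
import Groth.Agent.S0440
import Groth.Agent.Sga3.H778.NeutralOpen
import Groth.Agent.AGF.K495.OpenSub
import Groth.Agent.Sga3.H821.ExtAffine
import Groth.Agent.AlgGrp.K399.Const
import Groth.Prelude.Def_AutSch

/-!
# Group schemes over a discrete valuation ring with affine generic fibre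
-/

set_option autoImplicit false
universe u
open CategoryTheory MonoidalCategory CartesianMonoidalCategory MonObj GrpObj AlgebraicGeometry CategoryTheory.Limits

namespace K410.DvrAff

open Groth.Agent Groth.Agent.Sga7.H116.L1

/-- A group of finite type over a field is affine as soon as it has an affine closed subgroup containing
(topologically) the neutral component. -/
theorem isAffine_of_closed {k : Type u} [Field k] {M G : Over (Spec (CommRingCat.of k))}
    [GrpObj M] [GrpObj G] [LocallyOfFiniteType G.hom] [QuasiCompact G.hom] (m : M ⟶ G) [IsMonHom m]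
    [IsClosedImmersion m.left] [IsAffine M.left]
    (h : connectedComponent (η[G].left (IsLocalRing.closedPoint k)) ⊆ Set.range m.left) : IsAffine G.left := by
  obtain ⟨Q, _, ρ, N, _, j, h1, h2, h3, h4, h5, h6, h7, h8, h9, h10, h11, -, -⟩ := K414.Hull.exists_hull G
  obtain ⟨hconn, -⟩ := S3293.result k N K399.Const.bijective_of_isIso
  have hr : Set.range j.left ⊆ Set.range m.left := by
    refine subset_trans ?_ h
    refine _root_.IsPreconnected.subset_connectedComponent (isPreconnected_range j.left.continuous) ?_
    refine ⟨η[N].left (IsLocalRing.closedPoint k), ?_⟩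
    rw [← Scheme.Hom.comp_apply, ← Over.comp_left, IsMonHom.one_hom]
  have hs : Surjective (pullback.fst j.left m.left) := by
    refine ⟨fun x => ?_⟩
    obtain ⟨y, hy⟩ := hr ⟨x, rfl⟩
    obtain ⟨z, hz, -⟩ := Scheme.exists_preimage_of_isPullback (IsPullback.of_hasPullback j.left m.left) x y hy.symm
    exact ⟨z, hz⟩
  have ha : IsAffine (pullback j.left m.left) := isAffine_of_isAffineHom (pullback.snd j.left m.left)
  have hN : IsAffine N.left := S0440.result (pullback.fst j.left m.left) hs.surj
  exact Sga3.H821.ExtAffine.isAffine_of_extension k j ρ h8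

variable (A K : Type u) [CommRing A] [IsDomain A] [IsDiscreteValuationRing A] [Field K] [Algebra A K]
  [IsFractionRing A K]

/-- the closed point of the spectrum -/
noncomputable abbrev sp : Spec (CommRingCat.of (IsLocalRing.ResidueField A)) ⟶ Spec (CommRingCat.of A) :=
  Spec.map (CommRingCat.ofHom (algebraMap A (IsLocalRing.ResidueField A)))

instance : IsClosedImmersion (sp A) :=
  IsClosedImmersion.spec_of_surjective _ IsLocalRing.residue_surjective

theorem mem_range (x : Spec (CommRingCat.of A)) : x ∈ Set.range (gen A K) ∨ x ∈ Set.range (sp A) := by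
  by_cases hx : x.asIdeal = ⊥
  · left
    refine ⟨IsLocalRing.closedPoint K, ?_⟩
    apply PrimeSpectrum.ext
    rw [hx]
    change Ideal.comap (algebraMap A K) (IsLocalRing.maximalIdeal K) = ⊥
    rw [IsLocalRing.maximalIdeal_eq_bot]
    exact Ideal.comap_bot_of_injective _ (IsFractionRing.injective A K)
  · right
    refine ⟨IsLocalRing.closedPoint _, ?_⟩
    apply PrimeSpectrum.ext
    change Ideal.comap (algebraMap A (IsLocalRing.ResidueField A)) (IsLocalRing.maximalIdeal _) = _
    rw [IsLocalRing.maximalIdeal_eq_bot]
    have h1 : Ideal.comap (algebraMap A (IsLocalRing.ResidueField A)) ⊥ = IsLocalRing.maximalIdeal A :=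
      IsLocalRing.ker_residue
    rw [h1]
    have h2 : x.asIdeal.IsMaximal := x.2.isMaximal hx
    exact (IsLocalRing.eq_maximalIdeal h2).symm

/-- If the generic fibre is connected, the union of the neutral components of the fibres is open. -/
theorem isOpen_neutralSet (N : Over (Spec (CommRingCat.of A))) [GrpObj N] [LocallyOfFiniteType N.hom]
    (hconn : ConnectedSpace (Red.bc (gen A K) N).left) : IsOpen (SGA3x.neutralSet N) := by
  have hcl : IsClosedImmersion (pullback.fst N.hom (sp A)) := inferInstance
  have e1 := S5322.result _ _ (sp A) N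
  have e2 := S5322.result _ _ (gen A K) N
  have hgenuniv : SGA3x.neutralSet (Red.bc (gen A K) N) = Set.univ := by
    rw [AutSch.neutralSet_eq_connectedComponent]
    exact PreconnectedSpace.connectedComponent_eq_univ _
  have hlft : LocallyOfFiniteType (Red.bc (sp A) N).hom :=
    Groth.Agent.AlgGrp.K411.Bc.hom_mem (P := @LocallyOfFiniteType) (sp A) ‹_›
  have hopen : IsOpen (SGA3x.neutralSet (Red.bc (sp A) N)) := by
    rw [AutSch.neutralSet_eq_connectedComponent]
    obtain ⟨N0, _, i0, _, hcl0, hfl0, hr0⟩ := S3023.result _ (Red.bc (sp A) N)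
    have h1 : IsLocallyNoetherian (Red.bc (sp A) N).left := LocallyOfFiniteType.isLocallyNoetherian (Red.bc (sp A) N).hom
    have h2 : LocallyOfFinitePresentation i0.left := inferInstance
    have h4 := hr0 (IsLocalRing.closedPoint _)
    have h5 : Set.range i0.left = connectedComponent (AutSch.unitPt (Red.bc (sp A) N)) := h4
    rw [← h5]
    exact i0.left.isOpenMap.isOpen_range
  have key : (SGA3x.neutralSet N)ᶜ = pullback.fst N.hom (sp A) '' (SGA3x.neutralSet (Red.bc (sp A) N))ᶜ := by
    ext x
    constructor
    · intro hx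
      rcases mem_range A K (N.hom x) with h | h
      · exfalso
        obtain ⟨y, hy⟩ := h
        obtain ⟨z, hz, -⟩ := Scheme.exists_preimage_of_isPullback (IsPullback.of_hasPullback N.hom (gen A K)) x y hy.symm
        apply hx
        have h1 : z ∈ SGA3x.neutralSet (Red.bc (gen A K) N) := by rw [hgenuniv]; trivial
        rw [e2] at h1
        rw [← hz]
        exact h1
      · obtain ⟨y, hy⟩ := h
        obtain ⟨z, hz, -⟩ := Scheme.exists_preimage_of_isPullback (IsPullback.of_hasPullback N.hom (sp A)) x y hy.symm
        refine ⟨z, fun h1 => hx ?_, hz⟩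
        rw [e1] at h1
        rw [← hz]
        exact h1
    · rintro ⟨z, hz, rfl⟩ h1
      apply hz
      rw [e1]
      exact h1
  rw [← isClosed_compl_iff, key]
  exact (pullback.fst N.hom (sp A)).isClosedEmbedding.isClosedMap _ hopen.isClosed_compl

open Groth.Agent.Sga3.H778.NeutralOpen in
theorem main_aux (G : Over (Spec (CommRingCat.of A))) [GrpObj G] [Flat G.hom] [LocallyOfFinitePresentation G.hom]
    [QuasiCompact G.hom] (N : Over (Spec (CommRingCat.of A))) [GrpObj N] (i : N ⟶ G) [IsMonHom i]
    [IsClosedImmersion i.left] [Flat N.hom] (hNaff : IsAffine (Red.bc (gen A K) N).left)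
    (hNconn : ConnectedSpace (Red.bc (gen A K) N).left)
    (hdim : topologicalKrullDim (Red.bc (gen A K) N).left = topologicalKrullDim (Red.bc (gen A K) G).left) :
    IsAffine (Red.bc (sp A) G).left := by
  have hps : PreconnectedSpace ↥(Spec (CommRingCat.of A)) :=
    inferInstanceAs (PreconnectedSpace (PrimeSpectrum A))
  have hGk : LocallyOfFiniteType (Red.bc (sp A) G).hom :=
    Groth.Agent.AlgGrp.K411.Bc.hom_mem (P := @LocallyOfFiniteType) (sp A) inferInstance
  have hGkq : QuasiCompact (Red.bc (sp A) G).hom :=
    Groth.Agent.AlgGrp.K411.Bc.hom_mem (P := @QuasiCompact) (sp A) inferInstance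
  have hNlft : LocallyOfFiniteType N.hom := by rw [← Over.w i]; infer_instance
  have h := isOpen_neutralSet A K N hNconn
  obtain ⟨hgrp, hmon⟩ := Groth.Agent.Sga3.H778.NeutralOpen.exists_grpObj N h
  have hfib := Groth.Agent.Sga3.H778.NeutralOpen.isConnected_fibre N h
  obtain ⟨M, c, hMgrp, hcmon, hcop, hcr, hfib⟩ : ∃ (M : Over (Spec (CommRingCat.of A))) (c : M ⟶ N) (_ : GrpObj M),
      IsMonHom c ∧ IsOpenImmersion c.left ∧ Set.range c.left = SGA3x.neutralSet N ∧
      ∀ s, _root_.IsConnected (M.hom ⁻¹' {s}) :=
    ⟨opn N (neutral N h), opnι N (neutral N h), hgrp, hmon, inferInstance, by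
      change Set.range (neutral N h).ι = _
      rw [Scheme.Opens.range_ι]
      rfl, hfib⟩
  have hNlfp : LocallyOfFinitePresentation N.hom := by
    have : IsLocallyNoetherian (Spec (CommRingCat.of A)) := inferInstance
    infer_instance
  have hMfl : Flat M.hom := by rw [← Over.w c]; infer_instance
  have hMlfp : LocallyOfFinitePresentation M.hom := by rw [← Over.w c]; infer_instance
  obtain ⟨hMsep, hMqc⟩ := S3025.result _ M hfib
  -- the generic fibre of `M` is that of `N`
  let cK := (Over.pullback (gen A K)).map c
  have hcK : IsOpenImmersion cK.left := Groth.Agent.AlgGrp.K411.Bc.map_left_mem (P := @IsOpenImmersion) (gen A K) c hcop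
  have hcKs : Surjective cK.left := by
    refine ⟨fun y => ?_⟩
    have h1 : pullback.fst N.hom (gen A K) y ∈ SGA3x.neutralSet N := by
      have h2 : y ∈ SGA3x.neutralSet (Red.bc (gen A K) N) := by
        rw [AutSch.neutralSet_eq_connectedComponent, PreconnectedSpace.connectedComponent_eq_univ]
        trivial
      rw [S5322.result] at h2
      exact h2
    rw [← hcr] at h1
    obtain ⟨x, hx⟩ := h1
    obtain ⟨z, -, hz⟩ := Scheme.exists_preimage_of_isPullback
      (Groth.Agent.AlgGrp.K411.Bc.isPullback_map_left (gen A K) c) x y hx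
    exact ⟨z, hz⟩
  have hcKi : IsIso cK.left := (isIso_iff_isOpenImmersion_and_surjective _).2 ⟨hcK, hcKs⟩
  have hMKaff : IsAffine (Red.bc (gen A K) M).left := IsAffine.of_isIso cK.left
  have hMaff : IsAffine M.left := S4109.result A K M hMKaff
  have hMkaff : IsAffine (Red.bc (sp A) M).left := isAffine_of_isAffineHom (pullback.fst M.hom (sp A))
  -- the special fibre
  have hck : IsClosedImmersion ((Over.pullback (sp A)).map c).left := by
    have h1 : IsOpenImmersion ((Over.pullback (sp A)).map c).left :=
      Groth.Agent.AlgGrp.K411.Bc.map_left_mem (P := @IsOpenImmersion) (sp A) c hcop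
    have h2 : @IsMonHom _ _ _ (Red.bc (sp A) M) (Red.bc (sp A) N) _ _ ((Over.pullback (sp A)).map c) := inferInstance
    exact K495.OpenSub.isClosedImmersion_of_open (G := Red.bc (sp A) N) (H := Red.bc (sp A) M)
      ((Over.pullback (sp A)).map c)
  have hik : IsClosedImmersion ((Over.pullback (sp A)).map i).left :=
    Groth.Agent.AlgGrp.K411.Bc.map_left_mem (P := @IsClosedImmersion) (sp A) i ‹_›
  let m : Red.bc (sp A) M ⟶ Red.bc (sp A) G := (Over.pullback (sp A)).map c ≫ (Over.pullback (sp A)).map i
  have hm1 : IsMonHom m := by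
    have h1 : @IsMonHom _ _ _ (Red.bc (sp A) M) (Red.bc (sp A) N) _ _ ((Over.pullback (sp A)).map c) := inferInstance
    have h2 : @IsMonHom _ _ _ (Red.bc (sp A) N) (Red.bc (sp A) G) _ _ ((Over.pullback (sp A)).map i) := inferInstance
    exact inferInstanceAs (IsMonHom (_ ≫ _))
  have hm2 : IsClosedImmersion m.left := by
    change IsClosedImmersion (((Over.pullback (sp A)).map c).left ≫ ((Over.pullback (sp A)).map i).left)
    infer_instance
  refine isAffine_of_closed m (DimClosed.connectedComponent_subset_range m ?_)
  rw [Groth.Agent.AlgGrp.K411.DimPt.dim_bc_eq M (sp A) (gen A K), Groth.Agent.AlgGrp.K411.DimPt.dim_bc_eq G (sp A) (gen A K),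
    ← hdim]
  exact IsHomeomorph.topologicalKrullDim_eq _ (Scheme.homeoOfIso (asIso cK.left)).isHomeomorph

/-- Over a discrete valuation ring, a flat group of finite presentation (not assumed separated) with affine
generic fibre has an affine special fibre. -/
theorem main (G : Over (Spec (CommRingCat.of A))) [GrpObj G] [Flat G.hom] [LocallyOfFinitePresentation G.hom]
    [QuasiCompact G.hom] (haff : IsAffine (Red.bc (gen A K) G).left) : IsAffine (Red.bc (sp A) G).left := by
  have hGK : LocallyOfFiniteType (Red.bc (gen A K) G).hom :=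
    Groth.Agent.AlgGrp.K411.Bc.hom_mem (P := @LocallyOfFiniteType) (gen A K) inferInstance
  -- the neutral component of the generic fibre
  obtain ⟨H, _, j, hj, hjcl, hjfl, hjr⟩ := S3023.result K (Red.bc (gen A K) G)
  have hjr' : Set.range j.left = connectedComponent (Books.AlgPts.pt η[Red.bc (gen A K) G]) :=
    hjr (IsLocalRing.closedPoint K)
  have hHconn : ConnectedSpace H.left := by
    have h1 : _root_.IsConnected (Set.range j.left) := by
      rw [hjr']; exact isConnected_connectedComponent
    rw [← Set.image_univ] at h1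
    have h2 := (j.left.isClosedEmbedding.isInducing.isPreconnected_image).1 h1.2
    exact { toPreconnectedSpace := ⟨h2⟩, toNonempty := ⟨η[H].left (IsLocalRing.closedPoint K)⟩ }
  have hHaff : IsAffine H.left := isAffine_of_isAffineHom j.left
  -- its closure
  obtain ⟨N, _, i, e, hi, hicl, hNfl, hemon, hei⟩ := Groth.Agent.AlgGrp.K411.GenClos.exists_closure A K G j
  have heiso : IsIso e.hom.left := inferInstanceAs (IsIso ((Over.forget _).mapIso e).hom)
  have hNconn : ConnectedSpace (Red.bc (gen A K) N).left :=
    (Scheme.homeoOfIso (asIso e.hom.left)).symm.connectedSpace_iff.mp hHconn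
  have hNaff : IsAffine (Red.bc (gen A K) N).left := IsAffine.of_isIso e.hom.left
  refine main_aux A K G N i hNaff hNconn ?_
  rw [← K414.RedNorm.dim_eq_of_connectedComponent j hjr']
  exact IsHomeomorph.topologicalKrullDim_eq _ (Scheme.homeoOfIso (asIso e.hom.left)).isHomeomorph

end K410.DvrAff
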