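import Mathlib.AlgebraicGeometry.GammaSpecAdjunction
import Mathlib.AlgebraicGeometry.Pullbacks
import Mathlib.AlgebraicGeometry.Cover.Open
import Mathlib.AlgebraicGeometry.AffineScheme

/-!
# Morphisms to an affine scheme and closed subschemes

* `hom_eq`: a morphism `t : T ⟶ Spec A` is determined by `glob t : A →+* Γ(T, ⊤)`.
* `exists_factor_iff`: `t` factors through `Spec (A/I)` iff `glob t` kills `I`.
* `factor_locus_iff`: let `A → B` be a ring map, `I ⊆ A` and `J ⊆ B` ideals such that for every `A`-algebra `A'` the ideal `J`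
  vanishes in `A' ⊗ B` iff `I A' = 0`. Then `t : T ⟶ Spec A` factors through `Spec (A/I)` iff
  `Spec B ×_{Spec A} T ⟶ Spec B` factors through `Spec (B/J)`.
-/

set_option autoImplicit false
universe u
open CategoryTheory CategoryTheory.Limits AlgebraicGeometry TensorProduct

namespace K410.FactorLocus

/-- The ring map `A → Γ(T, ⊤)` of a morphism `T ⟶ Spec A`. -/
noncomputable def glob {A : Type u} [CommRing A] {T : Scheme.{u}} (t : T ⟶ Spec (.of A)) : A →+* Γ(T, ⊤) :=
  ((Scheme.ΓSpecIso (.of A)).inv ≫ t.appTop).hom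

theorem hom_eq {A : Type u} [CommRing A] {T : Scheme.{u}} (t : T ⟶ Spec (.of A)) :
    T.toSpecΓ ≫ Spec.map (CommRingCat.ofHom (glob t)) = t := by
  change T.toSpecΓ ≫ Spec.map ((Scheme.ΓSpecIso (.of A)).inv ≫ t.appTop) = t
  rw [Spec.map_comp, ← Category.assoc, ← Scheme.toSpecΓ_naturality, Category.assoc,
    toSpecΓ_SpecMap_ΓSpecIso_inv, Category.comp_id]

theorem glob_toSpec {A : Type u} [CommRing A] {T : Scheme.{u}} (φ : A →+* Γ(T, ⊤)) :
    glob (T.toSpecΓ ≫ Spec.map (CommRingCat.ofHom φ)) = φ := by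
  have : (Scheme.ΓSpecIso (.of A)).inv ≫ (T.toSpecΓ ≫ Spec.map (CommRingCat.ofHom φ)).appTop = CommRingCat.ofHom φ := by
    rw [Scheme.Hom.comp_appTop, ← Category.assoc, ← Scheme.ΓSpecIso_inv_naturality, Category.assoc,
      Scheme.toSpecΓ_appTop, Iso.inv_hom_id, Category.comp_id]
  exact congrArg CommRingCat.Hom.hom this

theorem glob_comp {A : Type u} [CommRing A] {T T' : Scheme.{u}} (g : T' ⟶ T) (t : T ⟶ Spec (.of A)) :
    glob (g ≫ t) = g.appTop.hom.comp (glob t) := by
  have : (Scheme.ΓSpecIso (.of A)).inv ≫ (g ≫ t).appTop = ((Scheme.ΓSpecIso (.of A)).inv ≫ t.appTop) ≫ g.appTop := by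
    rw [Scheme.Hom.comp_appTop, Category.assoc]
  exact congrArg CommRingCat.Hom.hom this

theorem glob_comp_SpecMap {A A' : Type u} [CommRing A] [CommRing A'] {T : Scheme.{u}} (t : T ⟶ Spec (.of A'))
    (φ : A →+* A') : glob (t ≫ Spec.map (CommRingCat.ofHom φ)) = (glob t).comp φ := by
  have : (Scheme.ΓSpecIso (.of A)).inv ≫ (t ≫ Spec.map (CommRingCat.ofHom φ)).appTop =
      CommRingCat.ofHom φ ≫ (Scheme.ΓSpecIso (.of A')).inv ≫ t.appTop := by
    rw [Scheme.Hom.comp_appTop, ← Category.assoc, ← Scheme.ΓSpecIso_inv_naturality, Category.assoc]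
  exact congrArg CommRingCat.Hom.hom this

theorem hom_ext {A : Type u} [CommRing A] {T : Scheme.{u}} {t t' : T ⟶ Spec (.of A)} (h : glob t = glob t') :
    t = t' := by
  rw [← hom_eq t, ← hom_eq t', h]

theorem glob_SpecMap {A A' : Type u} [CommRing A] [CommRing A'] (φ : A →+* A') :
    glob (Spec.map (CommRingCat.ofHom φ)) = ((Scheme.ΓSpecIso (.of A')).inv.hom).comp φ := by
  have := glob_comp_SpecMap (𝟙 (Spec (.of A'))) φ
  rw [Category.id_comp] at this
  rw [this]
  congr 1

/-- A morphism to `Spec A` factors through `Spec (A/I)` iff its ring map kills `I`. -/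
theorem exists_factor_iff {A : Type u} [CommRing A] (I : Ideal A) {T : Scheme.{u}} (t : T ⟶ Spec (.of A)) :
    (∃ h : T ⟶ Spec (.of (A ⧸ I)), h ≫ Spec.map (CommRingCat.ofHom (Ideal.Quotient.mk I)) = t) ↔
      ∀ x ∈ I, glob t x = 0 := by
  constructor
  · rintro ⟨h, rfl⟩ x hx
    rw [glob_comp_SpecMap, RingHom.comp_apply, Ideal.Quotient.eq_zero_iff_mem.mpr hx, map_zero]
  · intro H
    refine ⟨T.toSpecΓ ≫ Spec.map (CommRingCat.ofHom (Ideal.Quotient.lift I (glob t) H)), ?_⟩
    apply hom_ext
    rw [glob_comp_SpecMap, glob_toSpec]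
    ext x
    rfl

/-- Vanishing of a global section may be checked on the affine cover. -/
theorem eq_zero_of_affineCover {T : Scheme.{u}} (s : Γ(T, ⊤))
    (h : ∀ j : T.affineCover.I₀, (T.affineCover.f j).appTop.hom s = 0) : s = 0 :=
  Scheme.zero_of_zero_cover s T.affineCover h

theorem factor_locus_iff {A B : Type u} [CommRing A] [CommRing B] [Algebra A B] (I : Ideal A) (J : Ideal B)
    (hIJ : ∀ (A' : Type u) [CommRing A'] [Algebra A A'],
      (∀ b ∈ J, (1 : A') ⊗ₜ[A] b = 0) ↔ I.map (algebraMap A A') = ⊥)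
    {T : Scheme.{u}} (t : T ⟶ Spec (.of A)) :
    (∃ h : T ⟶ Spec (.of (A ⧸ I)), h ≫ Spec.map (CommRingCat.ofHom (Ideal.Quotient.mk I)) = t) ↔
      ∃ l : pullback (Spec.map (CommRingCat.ofHom (algebraMap A B))) t ⟶ Spec (.of (B ⧸ J)),
        l ≫ Spec.map (CommRingCat.ofHom (Ideal.Quotient.mk J)) = pullback.fst _ _ := by
  rw [exists_factor_iff, exists_factor_iff]
  set q := Spec.map (CommRingCat.ofHom (algebraMap A B)) with hq
  constructor
  · intro H b hb
    -- the ring of global sections of the pullback as an `A`-algebra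
    let R' : Type u := Γ(pullback q t, ⊤)
    let φA : A →+* R' := (glob (pullback.fst q t)).comp (algebraMap A B)
    have hφA : φA = (pullback.snd q t).appTop.hom.comp (glob t) := by
      rw [← glob_comp, ← pullback.condition, glob_comp_SpecMap]
    let _ : Algebra A R' := φA.toAlgebra
    have h1 : I.map (algebraMap A R') = ⊥ := by
      rw [Ideal.map_eq_bot_iff_le_ker]
      intro x hx
      rw [RingHom.mem_ker]
      change φA x = 0
      rw [hφA, RingHom.comp_apply, H x hx, map_zero]
    have h2 := (hIJ R').mpr h1 b hb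
    let β : B →ₐ[A] R' := { glob (pullback.fst q t) with commutes' := fun _ ↦ rfl }
    have h3 := congrArg (Algebra.TensorProduct.lift (AlgHom.id A R') β (fun _ _ ↦ Commute.all _ _)) h2
    rw [map_zero, Algebra.TensorProduct.lift_tmul, map_one, one_mul] at h3
    exact h3
  · intro H x hx
    apply eq_zero_of_affineCover
    intro j
    let 𝒰 := T.affineCover
    let R : CommRingCat.{u} := (T.affineOpenCover.X j)
    let f : Spec R ⟶ T := T.affineOpenCover.f j
    let φ : A →+* R := ((Scheme.ΓSpecIso R).hom.hom).comp (glob (f ≫ t))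
    let _ : Algebra A R := φ.toAlgebra
    have hft : f ≫ t = Spec.map (CommRingCat.ofHom (algebraMap A R)) := by
      apply hom_ext
      rw [glob_SpecMap]
      ext a
      change glob (f ≫ t) a = (Scheme.ΓSpecIso R).inv.hom ((Scheme.ΓSpecIso R).hom.hom (glob (f ≫ t) a))
      have : (Scheme.ΓSpecIso R).hom ≫ (Scheme.ΓSpecIso R).inv = 𝟙 _ := Iso.hom_inv_id _
      have := congr($(this).hom (glob (f ≫ t) a))
      exact this.symm
    -- the map from `Spec (R ⊗ B)`
    let m : Spec (.of (R ⊗[A] B)) ⟶ pullback q t :=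
      pullback.lift (Spec.map (CommRingCat.ofHom
          (Algebra.TensorProduct.includeRight (R := A) (A := R) (B := B)).toRingHom))
        (Spec.map (CommRingCat.ofHom (algebraMap R (R ⊗[A] B))) ≫ f) (by
          rw [hq, Category.assoc, hft, ← Spec.map_comp, ← Spec.map_comp, ← CommRingCat.ofHom_comp,
            ← CommRingCat.ofHom_comp]
          congr 2
          ext a
          exact (Algebra.TensorProduct.tmul_one_eq_one_tmul a).symm)
    have hm : m ≫ pullback.fst q t = Spec.map (CommRingCat.ofHom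
          (Algebra.TensorProduct.includeRight (R := A) (A := R) (B := B)).toRingHom) := pullback.lift_fst _ _ _
    have h1 : ∀ b ∈ J, (1 : R) ⊗ₜ[A] b = 0 := by
      intro b hb
      have h2 := H b hb
      have h3 : glob (m ≫ pullback.fst q t) b = 0 := by
        rw [glob_comp, RingHom.comp_apply, h2, map_zero]
      rw [hm, glob_SpecMap] at h3
      have h4 : (Scheme.ΓSpecIso (.of (R ⊗[A] B))).inv.hom ((1 : R) ⊗ₜ[A] b) = 0 := h3
      have h5 : Function.Injective (Scheme.ΓSpecIso (.of (R ⊗[A] B))).inv.hom :=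
        (ConcreteCategory.bijective_of_isIso (Scheme.ΓSpecIso (.of (R ⊗[A] B))).inv).1
      exact h5 (h4.trans (map_zero _).symm)
    have h6 := (hIJ R).mp h1
    rw [Ideal.map_eq_bot_iff_le_ker] at h6
    have h7 : φ x = 0 := h6 hx
    have h8 : glob (f ≫ t) x = 0 := by
      have h9 : Function.Injective (Scheme.ΓSpecIso R).hom.hom :=
        (ConcreteCategory.bijective_of_isIso (Scheme.ΓSpecIso R).hom).1
      exact h9 (h7.trans (map_zero _).symm)
    rw [glob_comp] at h8
    exact h8

end K410.FactorLocus
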