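import Groth.Prelude.Def_AlgGrp
import Groth.Agent.Sga3C.CWGroup2
import Groth.Agent.Models2.QuoRep
import Mathlib.AlgebraicGeometry.Sites.Fpqc

/-!
# Fixed points of a group action: the functor

* `Fixed a x`: the `T`-point `x` of `X` is fixed by every point of `G` after every base change.
* `fixed_iff`: `x` is fixed iff the orbit map `T ⊗ G ⟶ X` is constant.
* `Fixed.comp`, `fixed_of_etCov`: stability under base change, étale locality.
* `fixed_of_open`: for `G` flat, locally of finite presentation and geometrically irreducible, it is enough that the orbit map be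
  constant on a flat `W ⟶ T ⊗ G` meeting every fibre.
-/

set_option autoImplicit false
universe u
open CategoryTheory MonoidalCategory CartesianMonoidalCategory MonObj GrpObj AlgebraicGeometry
open AlgGrp

namespace K410.FixBasic

variable {S : Scheme.{u}} {G X : Over S} [GrpObj G] (a : AlgGrp.Action G X)

/-- `x` is fixed by all points of `G` after every base change. -/
def Fixed {T : Over S} (x : T ⟶ X) : Prop :=
  ∀ (T' : Over S) (t : T' ⟶ T) (g : T' ⟶ G), lift g (t ≫ x) ≫ a.act = t ≫ x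

/-- `(t, g) ↦ g · x(t)`. -/
noncomputable def orb {T : Over S} (x : T ⟶ X) : T ⊗ G ⟶ X := lift (snd T G) (fst T G ≫ x) ≫ a.act

theorem lift_orb {T T' : Over S} (x : T ⟶ X) (t : T' ⟶ T) (g : T' ⟶ G) :
    lift t g ≫ orb a x = lift g (t ≫ x) ≫ a.act := by
  rw [orb, ← Category.assoc]
  congr 1
  ext1 <;> simp

theorem fixed_iff {T : Over S} (x : T ⟶ X) : Fixed a x ↔ orb a x = fst T G ≫ x := by
  constructor
  · intro h
    exact h (T ⊗ G) (fst T G) (snd T G)
  · intro h T' t g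
    rw [← lift_orb, h, lift_fst_assoc]

variable {a}

theorem Fixed.comp {T T' : Over S} (g : T' ⟶ T) (x : T ⟶ X) (h : Fixed a x) : Fixed a (g ≫ x) := by
  intro T'' t g'
  have := h T'' (t ≫ g) g'
  simpa only [Category.assoc] using this

theorem act_mul {T : Over S} (g h : T ⟶ G) (x : T ⟶ X) :
    lift (g * h) x ≫ a.act = lift g (lift h x ≫ a.act) ≫ a.act := by
  have h1 := lift (lift g h) x ≫= a.mul_act
  have h2 : lift (lift g h) x ≫ (μ[G] ▷ X) = lift (g * h) x := by
    ext1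
    · simp [Hom.mul_def]
    · simp
  have h3 : lift (lift g h) x ≫ (α_ G G X).hom ≫ (G ◁ a.act) = lift g (lift h x ≫ a.act) := by
    rw [lift_lift_associator_hom_assoc]
    ext1 <;> simp
  calc lift (g * h) x ≫ a.act = lift (lift g h) x ≫ (μ[G] ▷ X) ≫ a.act := by rw [← h2, Category.assoc]
    _ = lift (lift g h) x ≫ (α_ G G X).hom ≫ (G ◁ a.act) ≫ a.act := h1
    _ = lift g (lift h x ≫ a.act) ≫ a.act := by rw [← h3]; simp only [Category.assoc]

theorem act_one {T : Over S} (x : T ⟶ X) : lift (1 : T ⟶ G) x ≫ a.act = x := by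
  have h1 := lift (toUnit T) x ≫= a.one_act
  have h2 : lift (toUnit T) x ≫ (η[G] ▷ X) = lift (1 : T ⟶ G) x := by
    ext1
    · simp [Hom.one_def]
    · simp
  rw [← h2, Category.assoc, h1]
  simp

open Groth.Agent.Models2.QuoRep in
/-- Being fixed is étale local. -/
theorem fixed_of_etCov {T : Over S} (𝒰 : EtCov T) (x : T ⟶ X) (h : ∀ i, Fixed a (𝒰.j i ≫ x)) : Fixed a x := by
  intro T' t g
  apply hom_ext_etCov (𝒰.pull t)
  intro i
  have h1 := h i _ (𝒰.snd t i) ((𝒰.pull t).j i ≫ g)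
  have h2 : (𝒰.pull t).j i ≫ t ≫ x = 𝒰.snd t i ≫ 𝒰.j i ≫ x := by
    rw [← Category.assoc, EtCov.condition, Category.assoc]
  calc (𝒰.pull t).j i ≫ lift g (t ≫ x) ≫ a.act
      = lift ((𝒰.pull t).j i ≫ g) ((𝒰.pull t).j i ≫ t ≫ x) ≫ a.act := by
        rw [← Category.assoc, comp_lift]
    _ = lift ((𝒰.pull t).j i ≫ g) (𝒰.snd t i ≫ 𝒰.j i ≫ x) ≫ a.act := by rw [h2]
    _ = 𝒰.snd t i ≫ 𝒰.j i ≫ x := h1
    _ = (𝒰.pull t).j i ≫ t ≫ x := h2.symm

open Groth.Agent.Sga3C.CWGroup in
/-- It is enough that the orbit map be constant on a flat `W ⟶ T ⊗ G` meeting every fibre. -/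
theorem fixed_of_open [Flat G.hom] [LocallyOfFinitePresentation G.hom] [GeometricallyIrreducible G.hom]
    {T W : Over S} (w : W ⟶ T ⊗ G) [Flat w.left] [LocallyOfFinitePresentation w.left]
    (hw : ∀ t : T.left, ∃ z : W.left, (w ≫ fst T G).left z = t) (x : T ⟶ X)
    (h : w ≫ orb a x = w ≫ fst T G ≫ x) : Fixed a x := by
  rw [fixed_iff]
  obtain ⟨f1, f2⟩ := flat_m' w
  have f3 := surjective_m' w hw
  have hepi : Epi (m w).left := inferInstance
  have key : m w ≫ orb a x = m w ≫ fst T G ≫ x := by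
    have e2 : z1 w ≫ w ≫ orb a x = z1 w ≫ w ≫ fst T G ≫ x := by rw [h]
    have e3 : z2 w ≫ w ≫ orb a x = z2 w ≫ w ≫ fst T G ≫ x := by rw [h]
    have hw' : w = lift (w ≫ fst T G) (w ≫ snd T G) := by ext1 <;> simp
    have e4 : w ≫ orb a x = lift (w ≫ snd T G) ((w ≫ fst T G) ≫ x) ≫ a.act := by
      conv_lhs => rw [hw']
      rw [lift_orb]
    rw [e4, comp_lift_assoc] at e2 e3
    have e5 : z1 w ≫ (w ≫ fst T G) ≫ x = z2 w ≫ (w ≫ fst T G) ≫ x := by
      rw [← Category.assoc, z_cond w, Category.assoc]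
    rw [m, lift_orb, act_mul]
    have e6 : lift (z2 w ≫ w ≫ snd T G) ((z1 w ≫ w ≫ fst T G) ≫ x) ≫ a.act = (z1 w ≫ w ≫ fst T G) ≫ x := by
      rw [Category.assoc, e5, e3]
      simpa only [Category.assoc] using e5.symm
    rw [e6]
    have e7 : lift (z1 w ≫ w ≫ snd T G) ((z1 w ≫ w ≫ fst T G) ≫ x) ≫ a.act = (z1 w ≫ w ≫ fst T G) ≫ x := by
      rw [Category.assoc, e2]
      simp only [Category.assoc]
    rw [e7, lift_fst_assoc]
  ext1
  rw [← cancel_epi (m w).left]
  exact congrArg CommaMorphism.left key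

end K410.FixBasic
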