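import Groth.Agent.AlgGrp.K410.FixCore

/-!
# Affine charts for the fixed point locus

`exists_chart`: near each point of `X` the fixed points of a flat finitely presented group with geometrically irreducible fibres
are given by a closed subscheme of finite presentation.
-/

set_option autoImplicit false
universe u
open CategoryTheory MonoidalCategory CartesianMonoidalCategory MonObj GrpObj AlgebraicGeometry
open AlgGrp

namespace K410.FixChart

open K410.FixBasic K410.FixCore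

variable {S : Scheme.{u}} {G X : Over S} [GrpObj G]

/-- The ideal of differences of two algebra maps from a finite type algebra is finitely generated. -/
theorem fg_span_sub {R B C : Type u} [CommRing R] [CommRing B] [CommRing C] (r : R →+* C) (hr : r.FiniteType)
    (α β : C →+* B) (h : α.comp r = β.comp r) : (Ideal.span (Set.range fun c ↦ α c - β c)).FG := by
  classical
  algebraize [r, α.comp r]
  have : Algebra.FiniteType R C := hr
  obtain ⟨s, hs⟩ := this.out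
  refine ⟨s.image (fun c ↦ α c - β c), le_antisymm ?_ ?_⟩
  · rw [Ideal.span_le]
    intro x hx
    simp only [Finset.coe_image, Set.mem_image] at hx
    obtain ⟨c, -, rfl⟩ := hx
    exact Ideal.subset_span ⟨c, rfl⟩
  · rw [Ideal.span_le]
    rintro _ ⟨c, rfl⟩
    let J : Ideal B := Ideal.span (s.image (fun c ↦ α c - β c) : Finset B)
    let π := Ideal.Quotient.mkₐ R J
    let α' : C →ₐ[R] B := { α with commutes' := fun _ ↦ rfl }
    let β' : C →ₐ[R] B := { β with commutes' := fun x ↦ (congr($h x)).symm }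
    have h1 : AlgHom.equalizer (π.comp α') (π.comp β') = ⊤ := by
      rw [eq_top_iff, ← hs, Algebra.adjoin_le_iff]
      intro c hc
      change Ideal.Quotient.mk J (α c) = Ideal.Quotient.mk J (β c)
      rw [Ideal.Quotient.eq]
      exact Ideal.subset_span (by simpa using ⟨c, hc, rfl⟩)
    have h2 : c ∈ AlgHom.equalizer (π.comp α') (π.comp β') := by rw [h1]; trivial
    have h3 : Ideal.Quotient.mk J (α c) = Ideal.Quotient.mk J (β c) := h2
    rwa [Ideal.Quotient.eq] at h3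

theorem whiskerRight_orb (a : AlgGrp.Action G X) {T T' : Over S} (i : T' ⟶ T) (x : T ⟶ X) :
    i ▷ G ≫ orb a x = orb a (i ≫ x) := by
  rw [orb, orb, ← Category.assoc]
  congr 1
  ext1
  · simp
  · simp

omit [GrpObj G] in
theorem isPullback_whiskerRight {T T' : Over S} (i : T' ⟶ T) :
    IsPullback (i ▷ G) (fst T' G) (fst T G) i := by
  refine IsPullback.of_isLimit' ⟨whiskerRight_fst _ _⟩ (Limits.PullbackCone.IsLimit.mk _
    (fun s ↦ lift s.snd (s.fst ≫ snd T G)) ?_ ?_ ?_)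
  · intro s
    ext1
    · rw [Category.assoc, whiskerRight_fst, lift_fst_assoc, s.condition]
    · rw [Category.assoc, whiskerRight_snd, lift_snd]
  · intro s
    exact lift_fst _ _
  · intro s l h1 h2
    ext1
    · rw [lift_fst, h2]
    · rw [lift_snd, ← h1, Category.assoc, whiskerRight_snd]

omit [GrpObj G] in
theorem isOpenImmersion_whiskerRight {T T' : Over S} (i : T' ⟶ T) [IsOpenImmersion i.left] :
    IsOpenImmersion (i ▷ G).left :=
  MorphismProperty.of_isPullback (P := @IsOpenImmersion)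
    (Groth.Agent.Sga3C.CWGroup.isPullback_left (isPullback_whiskerRight (G := G) i)).flip inferInstance

theorem ideal_of_data [Flat G.hom] [LocallyOfFinitePresentation G.hom] [GeometricallyIrreducible G.hom]
    (a : AlgGrp.Action G X) {A B C R : CommRingCat.{u}} (fC : Spec C ⟶ X.left) [IsOpenImmersion fC]
    (jA : Spec A ⟶ Spec C) [IsOpenImmersion jA] (φ : A ⟶ B)
    (fB : Spec B ⟶ (Over.mk (fC ≫ X.hom) ⊗ G).left) [IsOpenImmersion fB]
    (hφ : Spec.map φ ≫ jA = fB ≫ (fst (Over.mk (fC ≫ X.hom)) G).left)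
    (hsurj : Surjective (Spec.map φ)) (fR : Spec R ⟶ S) [Mono fR] (r : R ⟶ C) (hr : r.hom.FiniteType)
    (hr' : Spec.map r ≫ fR = fC ≫ X.hom)
    (hrange : Set.range (fB ≫ (orb a (Over.homMk fC rfl : Over.mk (fC ≫ X.hom) ⟶ X)).left) ⊆ Set.range fC) :
    ∃ I : Ideal A, I.FG ∧ ∀ (T : Over S) (t : T ⟶ Over.mk (jA ≫ fC ≫ X.hom)),
      Fixed a (t ≫ (Over.homMk (jA ≫ fC) (Category.assoc _ _ _) : Over.mk (jA ≫ fC ≫ X.hom) ⟶ X)) ↔
        ∃ h : T.left ⟶ Spec (.of (A ⧸ I)), h ≫ Spec.map (CommRingCat.ofHom (Ideal.Quotient.mk I)) = t.left := by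
  let V' : Over S := Over.mk (fC ≫ X.hom)
  let j₀ : V' ⟶ X := Over.homMk fC rfl
  let v : Spec A ⟶ S := jA ≫ fC ≫ X.hom
  let b : Spec B ⟶ S := fB ≫ (V' ⊗ G).hom
  let i₁ : Over.mk v ⟶ V' := Over.homMk jA rfl
  let j₁ : Over.mk v ⟶ X := Over.homMk (jA ≫ fC) (Category.assoc _ _ _)
  have hj₁ : j₁ = i₁ ≫ j₀ := by ext1; rfl
  let g₂ : Over.mk b ⟶ V' ⊗ G := Over.homMk fB rfl
  have hprw : (fst V' G).left ≫ V'.hom = (V' ⊗ G).hom := Over.w (fst V' G)
  have hqw : Spec.map φ ≫ v = b := by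
    change Spec.map φ ≫ jA ≫ V'.hom = fB ≫ (V' ⊗ G).hom
    rw [← hprw, ← Category.assoc, hφ, Category.assoc]
  let q : Over.mk b ⟶ Over.mk v := Over.homMk (Spec.map φ) hqw
  have hq : q ≫ i₁ = g₂ ≫ fst V' G := by
    ext1
    exact hφ
  let w : Over.mk b ⟶ Over.mk v ⊗ G := lift q (g₂ ≫ snd V' G)
  have hw : w ≫ i₁ ▷ G = g₂ := by
    ext1
    · rw [Category.assoc, whiskerRight_fst, lift_fst_assoc, hq]
    · rw [Category.assoc, whiskerRight_snd, lift_snd]
  have hi₁ : IsOpenImmersion i₁.left := inferInstanceAs (IsOpenImmersion jA)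
  have hi₁o : IsOpenImmersion (i₁ ▷ G).left := isOpenImmersion_whiskerRight i₁
  have hwo : IsOpenImmersion w.left := by
    have h1 : IsOpenImmersion (w.left ≫ (i₁ ▷ G).left) := by
      rw [← Over.comp_left, hw]
      exact inferInstanceAs (IsOpenImmersion fB)
    exact IsOpenImmersion.of_comp _ (i₁ ▷ G).left
  have hwfst : w ≫ fst (Over.mk v) G = q := lift_fst _ _
  have hworb : w ≫ orb a j₁ = g₂ ≫ orb a j₀ := by
    rw [hj₁, ← whiskerRight_orb, ← Category.assoc, hw]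
  -- the two maps to `Spec C`
  have hrα : Set.range (w ≫ orb a j₁).left ⊆ Set.range fC := by
    rw [hworb]
    exact hrange
  let α₀ : Spec B ⟶ Spec C := IsOpenImmersion.lift fC (w ≫ orb a j₁).left hrα
  have hα₀ : α₀ ≫ fC = (w ≫ orb a j₁).left := IsOpenImmersion.lift_fac _ _ _
  let β₀ : Spec B ⟶ Spec C := Spec.map φ ≫ jA
  have hβ₀ : β₀ ≫ fC = (w ≫ fst (Over.mk v) G ≫ j₁).left := by
    rw [← Category.assoc, hwfst]
    exact Category.assoc _ _ _
  obtain ⟨α, hα⟩ := Spec.map_surjective α₀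
  obtain ⟨β, hβ⟩ := Spec.map_surjective β₀
  have hαβ : r ≫ α = r ≫ β := by
    apply Spec.map_injective
    rw [← cancel_mono fR, Spec.map_comp, Spec.map_comp, Category.assoc, Category.assoc, hr', hα, hβ,
      ← Category.assoc, ← Category.assoc, hα₀, hβ₀]
    exact (Over.w (w ≫ orb a j₁)).trans (Over.w (w ≫ fst (Over.mk v) G ≫ j₁)).symm
  have hJ := fg_span_sub r.hom hr α.hom β.hom (congrArg CommRingCat.Hom.hom hαβ)
  let _ : Algebra A B := φ.hom.toAlgebra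
  have hφ' : (w ≫ fst (Over.mk v) G).left = Spec.map (CommRingCat.ofHom (algebraMap A B)) := by
    rw [hwfst]
    rfl
  have hα' : Spec.map (CommRingCat.ofHom α.hom) ≫ fC = (w ≫ orb a j₁).left := by
    rw [← hα₀, ← hα]
    rfl
  have hβ' : Spec.map (CommRingCat.ofHom β.hom) ≫ fC = (w ≫ fst (Over.mk v) G ≫ j₁).left := by
    rw [← hβ₀, ← hβ]
    rfl
  exact exists_ideal_fixed (A := A) (B := B) (C := C) a v b j₁ w hφ' hsurj fC α.hom β.hom hα' hβ' hJ

/-- Choice of affine opens: given a section `e` of `pr : P ⟶ Y`, `Y` affine, and an open `W₀` of `P` containing `e y`, there are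
affine opens `V₁ ∋ y` of `Y` and `W₂ ⊆ W₀ ∩ pr⁻¹ V₁` mapping onto `V₁`. -/
theorem exists_opens {P Y : Scheme.{u}} [IsAffine Y] (pr : P ⟶ Y) (e : Y ⟶ P) (he : e ≫ pr = 𝟙 Y) (W₀ : P.Opens) (y : Y)
    (hy : e y ∈ W₀) : ∃ (A B : CommRingCat.{u}) (jA : Spec A ⟶ Y) (fB : Spec B ⟶ P) (φ : A ⟶ B),
      IsOpenImmersion jA ∧ IsOpenImmersion fB ∧ y ∈ Set.range jA ∧ Set.range fB ⊆ W₀ ∧
      Spec.map φ ≫ jA = fB ≫ pr ∧ Surjective (Spec.map φ) := by
  obtain ⟨W₁, hW₁, heW₁, hW₁₀⟩ := exists_isAffineOpen_mem_and_subset (x := e y) (U := W₀) hy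
  obtain ⟨V₁, hV₁, hyV₁, hVW₁⟩ := exists_isAffineOpen_mem_and_subset (x := y) (U := e ⁻¹ᵁ W₁) heW₁
  let fW₁ : Spec Γ(P, W₁) ⟶ P := hW₁.fromSpec
  let q₁ : Spec Γ(P, W₁) ⟶ Y := fW₁ ≫ pr
  have hW₂ : IsAffineOpen (q₁ ⁻¹ᵁ V₁) := hV₁.preimage q₁
  refine ⟨Γ(Y, V₁), Γ(Spec Γ(P, W₁), q₁ ⁻¹ᵁ V₁), hV₁.fromSpec, hW₂.fromSpec ≫ fW₁,
    q₁.appLE V₁ (q₁ ⁻¹ᵁ V₁) le_rfl, inferInstance, inferInstance, ?_, ?_, ?_, ?_⟩
  · rw [hV₁.range_fromSpec]
    exact hyV₁
  · rintro _ ⟨z, rfl⟩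
    apply hW₁₀
    have : (hW₂.fromSpec ≫ fW₁) z ∈ Set.range fW₁ := ⟨hW₂.fromSpec z, by rw [← Scheme.Hom.comp_apply]⟩
    rwa [hW₁.range_fromSpec] at this
  · rw [hV₁.SpecMap_appLE_fromSpec q₁ hW₂ le_rfl]
    simp only [q₁, Category.assoc]
  · refine ⟨fun x ↦ ?_⟩
    have hx : hV₁.fromSpec x ∈ V₁ := by
      have : hV₁.fromSpec x ∈ Set.range hV₁.fromSpec := ⟨x, rfl⟩
      rwa [hV₁.range_fromSpec] at this
    have h1 : e (hV₁.fromSpec x) ∈ W₁ := hVW₁ hx
    obtain ⟨y', hy'⟩ : e (hV₁.fromSpec x) ∈ Set.range fW₁ := by rw [hW₁.range_fromSpec]; exact h1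
    have hy1 : q₁ y' = hV₁.fromSpec x := by
      change (fW₁ ≫ pr) y' = _
      rw [Scheme.Hom.comp_apply, hy', ← Scheme.Hom.comp_apply, he]
      rfl
    have hy2 : y' ∈ (q₁ ⁻¹ᵁ V₁ : (Spec Γ(P, W₁)).Opens) := by
      change q₁ y' ∈ V₁
      rw [hy1]
      exact hx
    obtain ⟨z, hz⟩ : y' ∈ Set.range hW₂.fromSpec := by rw [hW₂.range_fromSpec]; exact hy2
    refine ⟨z, hV₁.fromSpec.isOpenEmbedding.injective ?_⟩
    rw [← Scheme.Hom.comp_apply, hV₁.SpecMap_appLE_fromSpec q₁ hW₂ le_rfl, Scheme.Hom.comp_apply, hz, hy1]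

/-- Near each point of `X` the fixed points are given by a finitely generated ideal. -/
theorem exists_chart [Flat G.hom] [LocallyOfFinitePresentation G.hom] [GeometricallyIrreducible G.hom]
    [LocallyOfFiniteType X.hom] (a : AlgGrp.Action G X) (κ : X.left) :
    ∃ (A : CommRingCat.{u}) (v : Spec A ⟶ S) (j : Over.mk v ⟶ X) (I : Ideal A),
      IsOpenImmersion j.left ∧ κ ∈ Set.range j.left ∧ I.FG ∧
      ∀ (T : Over S) (t : T ⟶ Over.mk v), Fixed a (t ≫ j) ↔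
        ∃ h : T.left ⟶ Spec (.of (A ⧸ I)), h ≫ Spec.map (CommRingCat.ofHom (Ideal.Quotient.mk I)) = t.left := by
  -- affine opens
  obtain ⟨U, hU, hκU, -⟩ := exists_isAffineOpen_mem_and_subset (x := X.hom κ) (U := ⊤) trivial
  obtain ⟨V₀, hV₀, hκV₀, hVU⟩ := exists_isAffineOpen_mem_and_subset (x := κ) (U := X.hom ⁻¹ᵁ U) hκU
  obtain ⟨κ', hκ'⟩ : κ ∈ Set.range hV₀.fromSpec := by rw [hV₀.range_fromSpec]; exact hκV₀
  have hr := X.hom.finiteType_appLE hU hV₀ hVU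
  have hr' := hU.SpecMap_appLE_fromSpec X.hom hV₀ hVU
  have hmono : Mono hU.fromSpec := inferInstance
  have hopen : IsOpenImmersion hV₀.fromSpec := inferInstance
  have hran : Set.range hV₀.fromSpec = V₀ := hV₀.range_fromSpec
  generalize hU.fromSpec = fR at *
  generalize hV₀.fromSpec = fC at *
  generalize X.hom.appLE U V₀ hVU = r at *
  generalize Γ(X.left, V₀) = C at *
  generalize Γ(S, U) = R at *
  let V' : Over S := Over.mk (fC ≫ X.hom)
  let j₀ : V' ⟶ X := Over.homMk fC rfl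
  let e₀ : V' ⟶ V' ⊗ G := lift (𝟙 V') 1
  have he₀ : e₀ ≫ orb a j₀ = j₀ := by
    rw [lift_orb, Category.id_comp, act_one]
  have he₀' : e₀ ≫ fst V' G = 𝟙 V' := lift_fst _ _
  have heW₀ : e₀.left κ' ∈ (orb a j₀).left ⁻¹ᵁ V₀ := by
    change (orb a j₀).left (e₀.left κ') ∈ V₀
    rw [← Scheme.Hom.comp_apply, ← Over.comp_left, he₀]
    change fC κ' ∈ V₀
    rw [hκ']
    exact hκV₀
  have : IsAffine V'.left := inferInstanceAs (IsAffine (Spec C))
  obtain ⟨A, B, jA, fB, φ, hjA, hfB, hκA, hfBW, hφ, hsurj⟩ := exists_opens (fst V' G).left e₀.left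
    (by rw [← Over.comp_left, he₀']; rfl) ((orb a j₀).left ⁻¹ᵁ V₀) κ' heW₀
  obtain ⟨I, hI, hiff⟩ := ideal_of_data a fC jA φ fB hφ hsurj fR r hr hr' (by
    rintro _ ⟨z, rfl⟩
    rw [hran]
    have h1 : fB z ∈ ((orb a j₀).left ⁻¹ᵁ V₀ : (V' ⊗ G).left.Opens) := hfBW ⟨z, rfl⟩
    exact h1)
  refine ⟨A, jA ≫ fC ≫ X.hom, Over.homMk (jA ≫ fC) (Category.assoc _ _ _), I, ?_, ?_, hI, hiff⟩
  · exact inferInstanceAs (IsOpenImmersion (jA ≫ fC))
  · obtain ⟨x, hx⟩ := hκA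
    refine ⟨x, ?_⟩
    change (jA ≫ fC) x = κ
    rw [Scheme.Hom.comp_apply, hx, hκ']

end K410.FixChart
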