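import Groth.Agent.S1223
import Groth.Agent.S1228

/-!
# Flat algebras whose fibres have a primary zero ideal are universally pure

* `Prim R`: `R` is nonzero and every zero divisor of `R` is nilpotent (the zero ideal is primary).
* `isUnivPure_of_prim`: a flat `A`-algebra `B` such that `K ⊗[A] B` is primary for every field `K` over `A` is
  universally pure.
* `exists_ideal_of_prim`: for such a finitely presented `B` and a finitely generated ideal `J` of `B`, there is a finitely
  generated ideal `I` of `A` such that `J` vanishes in `A' ⊗[A] B` iff `I A' = 0`.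
-/

set_option autoImplicit false
universe u

namespace K410.PureIrr

open TensorProduct Groth.Agent.Flat2A.Fiber Groth.Agent.Flat2A.FiberAss Groth.Agent.Flat2A.GeomInt

/-- A nonzero ring all of whose zero divisors are nilpotent. -/
def Prim (R : Type*) [CommRing R] : Prop :=
  Nontrivial R ∧ ∀ x y : R, x * y = 0 → y ≠ 0 → IsNilpotent x

theorem Prim.of_equiv {R R' : Type*} [CommRing R] [CommRing R'] (e : R ≃+* R') (h : Prim R) : Prim R' := by
  obtain ⟨h1, h2⟩ := h
  refine ⟨e.symm.toEquiv.nontrivial, fun x y hxy hy ↦ ?_⟩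
  have := h2 (e.symm x) (e.symm y) (by rw [← map_mul, hxy, map_zero])
    (by rwa [Ne, EmbeddingLike.map_eq_zero_iff])
  have h3 := this.map e
  rwa [RingEquiv.apply_symm_apply] at h3

/-- `A ⟶ B` has primary fibres, universally. -/
def PrimFibres (A B : Type u) [CommRing A] [CommRing B] [Algebra A B] : Prop :=
  ∀ (K : Type u) [Field K] [Algebra A K], Prim (K ⊗[A] B)

theorem PrimFibres.baseChange {A B : Type u} [CommRing A] [CommRing B] [Algebra A B] (h : PrimFibres A B)
    (A' B' : Type u) [CommRing A'] [CommRing B'] [Algebra A A'] [Algebra B B'] [Algebra A' B'] [Algebra A B']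
    [IsScalarTower A B B'] [IsScalarTower A A' B'] [Algebra.IsPushout A B A' B'] : PrimFibres A' B' := by
  intro K _ _
  let _ : Algebra A K := ((algebraMap A' K).comp (algebraMap A A')).toAlgebra
  have : IsScalarTower A A' K := IsScalarTower.of_algebraMap_eq fun _ ↦ rfl
  have hp : Algebra.IsPushout A A' B B' := Algebra.IsPushout.symm inferInstance
  let e : B' ≃ₐ[A'] A' ⊗[A] B := (Algebra.IsPushout.equiv A A' B B').symm
  let e1 : K ⊗[A'] B' ≃ₐ[K] K ⊗[A'] (A' ⊗[A] B) := Algebra.TensorProduct.congr AlgEquiv.refl e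
  let e2 : K ⊗[A'] (A' ⊗[A] B) ≃ₐ[K] K ⊗[A] B := Algebra.TensorProduct.cancelBaseChange A A' K K B
  exact (h K).of_equiv (e1.trans e2).symm.toRingEquiv

theorem isUnivPure_of_prim {A B : Type u} [CommRing A] [CommRing B] [Algebra A B] [Module.Flat A B]
    (h : PrimFibres A B) : FlatCA.IsUnivPure A B B := by
  intro p _ A' B' N' _ _ _ _ _ _ _ _ _ _ _ _ _ _ f t' t _ _ P _ himp
  obtain ⟨hpush, hbc, hle, -, hPt', hass, hno⟩ := himp
  have hflat : Module.Flat A' B' := by
    have : Algebra.IsPushout A A' B B' := hpush.symm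
    exact Module.Flat.isBaseChange A A' B B' this.out
  have hgi : PrimFibres A' B' := h.baseChange A' B'
  have hprim' : Prim (t'.Fiber B') := hgi t'.ResidueField
  have hprim : Prim (t.Fiber B') := hgi t.ResidueField
  have := hprim.1
  -- identify `N'` with `B'`
  let eN : N' ≃ₗ[B'] B' := hbc.equiv.symm ≪≫ₗ TensorProduct.AlgebraTensorModule.rid B B' B'
  obtain ⟨e⟩ := Groth.Agent.S1223.nonempty_fiberMod_equiv t' N' eN
  -- the associated prime is contained in the nilradical
  have hbot : ∀ x ∈ FlatCA.fiberIdeal t' P, IsNilpotent x := by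
    obtain ⟨hprime, y, hy⟩ := hass
    have hy0 : y ≠ 0 := by
      rintro rfl
      apply hprime.ne_top
      rw [hy]
      simp
    intro x hx
    rw [hy] at hx
    obtain ⟨n, hn⟩ := hx
    have h1 : x ^ n • y = 0 := by simpa [Submodule.mem_colon_singleton] using hn
    have h2 : x ^ n • e y = 0 := by rw [← map_smul, h1, map_zero]
    have h3 : e y ≠ 0 := fun h ↦ hy0 (e.map_eq_zero_iff.mp h)
    have h4 := hprim'.2 (x ^ n) (e y) h2 h3
    rcases Nat.eq_zero_or_pos n with rfl | hn0
    · rw [pow_zero, one_smul] at h2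
      exact absurd h2 h3
    · obtain ⟨m, hm⟩ := h4
      exact ⟨n * m, by rw [pow_mul]; exact hm⟩
  -- a prime over `t`
  obtain ⟨Q0, hQ0⟩ := Ideal.exists_maximal (t.Fiber B')
  have hQprime : (Q0.comap (toFiber t B')).IsPrime := inferInstance
  have hQover : (Q0.comap (toFiber t B')).LiesOver t := liesOver_of_comap t Q0 hQ0.ne_top
  -- going down
  obtain ⟨Q', hQ'le, hQ'prime, hQ'over⟩ :=
    Ideal.exists_ideal_le_liesOver_of_le (Q0.comap (toFiber t B')) hle
  -- `P ≤ Q'`
  have hPQ' : P ≤ Q' := by
    intro x hx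
    rw [← one_tmul_mem_fiberIdeal_iff t' P] at hx
    obtain ⟨n, hn⟩ := hbot _ hx
    have h5 : (1 : t'.ResidueField) ⊗ₜ[A'] (x ^ n) = 0 := by
      have : ((1 : t'.ResidueField) ⊗ₜ[A'] x) ^ n = 0 := hn
      rwa [Algebra.TensorProduct.tmul_pow, one_pow] at this
    refine hQ'prime.mem_of_pow_mem n ?_
    rw [← one_tmul_mem_fiberIdeal_iff t' Q', h5]
    exact zero_mem _
  exact hno _ (hPQ'.trans hQ'le) hQover

/-- A univerally pure algebra is pure. -/
theorem isPure_of_isUnivPure {A B : Type u} [CommRing A] [CommRing B] [Algebra A B]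
    (h : FlatCA.IsUnivPure A B B) : FlatCA.IsPure A B B :=
  fun p _ A' B' N' _ _ _ _ _ _ _ _ _ _ _ _ _ _ f t' t _ _ P _ _ => h p A' B' N' f t' t P

/-- For a finitely presented flat `A`-algebra `B` with primary fibres and a finitely generated ideal `J` of `B`, the condition
that `J` vanishes after a base change is given by a finitely generated ideal of `A`. -/
theorem exists_ideal_of_prim {A B : Type u} [CommRing A] [CommRing B] [Algebra A B] [Module.Flat A B]
    [Algebra.FinitePresentation A B] (h : PrimFibres A B) (J : Ideal B) (hJ : J.FG) :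
    ∃ I : Ideal A, I.FG ∧ ∀ (A' : Type u) [CommRing A'] [Algebra A A'],
      (∀ b ∈ J, (1 : A') ⊗ₜ[A] b = 0) ↔ I.map (algebraMap A A') = ⊥ := by
  have : Module.FinitePresentation B (B ⧸ J) := by
    exact Module.finitePresentation_of_surjective (Submodule.mkQ J) (Submodule.mkQ_surjective J)
      (by rwa [Submodule.ker_mkQ])
  obtain ⟨I, hI, hfg⟩ := Groth.Agent.S1228.result (A := A) (B := B) B (isPure_of_isUnivPure (isUnivPure_of_prim h))
    (B ⧸ J) (Submodule.mkQ J) (Submodule.mkQ_surjective J)
  refine ⟨I, hfg inferInstance, fun A' _ _ ↦ ?_⟩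
  rw [← hI A']
  have hsurj : Function.Surjective (((Submodule.mkQ J).restrictScalars A).baseChange A') := by
    rw [LinearMap.baseChange_eq_ltensor]
    exact LinearMap.lTensor_surjective A' (Submodule.mkQ_surjective J)
  constructor
  · intro hJ0
    refine ⟨?_, hsurj⟩
    rw [← LinearMap.ker_eq_bot, eq_bot_iff]
    intro z hz
    have hex : Function.Exact (LinearMap.lTensor A' ((Submodule.subtype J).restrictScalars A))
        (LinearMap.lTensor A' ((Submodule.mkQ J).restrictScalars A)) := by
      refine lTensor_exact A' (f := (Submodule.subtype J).restrictScalars A)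
        (g := (Submodule.mkQ J).restrictScalars A) ?_ (Submodule.mkQ_surjective J)
      intro b
      constructor
      · intro hb
        have : b ∈ J := Ideal.Quotient.eq_zero_iff_mem.mp hb
        exact ⟨⟨b, this⟩, rfl⟩
      · rintro ⟨⟨b, hb⟩, rfl⟩
        exact Ideal.Quotient.eq_zero_iff_mem.mpr hb
    obtain ⟨w, rfl⟩ := (hex z).mp hz
    induction w with
    | zero => simp
    | add a b ha hb =>
      rw [map_add]
      exact Submodule.add_mem _ (ha (by rw [LinearMap.mem_ker]; exact (hex _).mpr ⟨a, rfl⟩))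
        (hb (by rw [LinearMap.mem_ker]; exact (hex _).mpr ⟨b, rfl⟩))
    | tmul a b =>
      have h1 := hJ0 b.1 b.2
      have h2 : a ⊗ₜ[A] b.1 = 0 := by
        have : a ⊗ₜ[A] b.1 = (a ⊗ₜ[A] (1 : B)) * ((1 : A') ⊗ₜ[A] b.1) := by simp
        rw [this, h1, mul_zero]
      simpa using h2
  · rintro ⟨hinj, -⟩ b hb
    apply hinj
    rw [map_zero, LinearMap.baseChange_tmul]
    have : (Submodule.mkQ J).restrictScalars A b = 0 := Ideal.Quotient.eq_zero_iff_mem.mpr hb
    rw [this, tmul_zero]

end K410.PureIrr
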