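import Groth.Agent.S3029
import Groth.Agent.CalgB.CMPoly
import Groth.Agent.Ega4A.CMAss
import Groth.Agent.Sga3C.GrpIrr
import Groth.Agent.AlgGrp.K410.PureIrr
import Mathlib.AlgebraicGeometry.Noetherian

/-!
# Open affine subschemes of irreducible group schemes over a field are primary

* `prim_of_open`: if `Spec R` is a nonempty open subscheme of an irreducible group scheme locally of finite type over a
  field then every zero divisor of `R` is nilpotent (the local rings are Cohen-Macaulay).
-/

set_option autoImplicit false
universe u
open CategoryTheory CategoryTheory.Limits AlgebraicGeometry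

namespace K410.GrpPrim

open K410.PureIrr

theorem prim_of_irreducible_of_CM {R : Type u} [CommRing R] [IsNoetherianRing R]
    [IrreducibleSpace (PrimeSpectrum R)]
    (hCM : ∀ (P : Ideal R) [P.IsPrime], LocCoh.IsCohenMacaulayLocalRing (Localization.AtPrime P)) : Prim R := by
  have hnt : Nontrivial R := by
    rw [← PrimeSpectrum.nonempty_iff_nontrivial]
    infer_instance
  refine ⟨hnt, fun x y hxy hy ↦ ?_⟩
  -- `x` lies in an associated prime
  have hx : x ∉ nonZeroDivisors R := by
    intro hx
    exact hy ((mul_left_mem_nonZeroDivisors_eq_zero_iff hx).mp hxy)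
  have hx' : x ∈ ⋃ p ∈ associatedPrimes R R, (p : Set R) := by
    rw [biUnion_associatedPrimes_eq_compl_nonZeroDivisors]
    exact hx
  simp only [Set.mem_iUnion] at hx'
  obtain ⟨P, hP, hxP⟩ := hx'
  have hPp : P.IsPrime := hP.1
  have hmin := Groth.Agent.Ega4A.CMAss.mem_minimalPrimes_of_isCohenMacaulayLocalRing P (hCM P) hP
  -- the nilradical is prime
  have hnil : (nilradical R).IsPrime := by
    have h1 := PreirreducibleSpace.isPreirreducible_univ (X := PrimeSpectrum R)
    have h2 : IsIrreducible (PrimeSpectrum.zeroLocus ((⊥ : Ideal R) : Set R)) := by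
      rw [Submodule.bot_coe, PrimeSpectrum.zeroLocus_singleton_zero]
      exact IrreducibleSpace.isIrreducible_univ _
    rwa [PrimeSpectrum.isIrreducible_zeroLocus_iff] at h2
  have hle : P ≤ nilradical R := hmin.2 ⟨hnil, bot_le⟩ (nilradical_le_prime P)
  exact mem_nilradical.mp (hle hxP)

theorem cm_atPrime_of_open {X : Scheme.{u}} {R : Type u} [CommRing R] (j : Spec (CommRingCat.of R) ⟶ X)
    [IsOpenImmersion j] (hX : ∀ x : X, LocCoh.IsCohenMacaulayLocalRing (X.presheaf.stalk x)) (P : Ideal R) [P.IsPrime] :
    LocCoh.IsCohenMacaulayLocalRing (Localization.AtPrime P) := by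
  let p : PrimeSpectrum R := ⟨P, inferInstance⟩
  have e1 : X.presheaf.stalk (j p) ≃+* (Spec (CommRingCat.of R)).presheaf.stalk p :=
    (asIso (j.stalkMap p)).commRingCatIsoToRingEquiv
  have e2 : (Spec (CommRingCat.of R)).presheaf.stalk p ≃+* Localization.AtPrime p.asIdeal :=
    (StructureSheaf.stalkIso R p).toRingEquiv.symm
  have := hX (j p)
  exact Groth.Agent.CalgB.CMPoly.isCohenMacaulayLocalRing_of_ringEquiv (e1.trans e2)

/-- A nonempty affine open subscheme of an irreducible group scheme locally of finite type over a field has a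
primary coordinate ring. -/
theorem prim_of_open {K : Type u} [Field K] (G : Over (Spec (CommRingCat.of K))) [GrpObj G] [LocallyOfFiniteType G.hom]
    [IrreducibleSpace G.left] {R : Type u} [CommRing R] [Nontrivial R] (w : Spec (CommRingCat.of R) ⟶ G.left)
    [IsOpenImmersion w] : Prim R := by
  have hN : IsLocallyNoetherian G.left := LocallyOfFiniteType.isLocallyNoetherian G.hom
  have hN' : IsLocallyNoetherian (Spec (CommRingCat.of R)) := isLocallyNoetherian_of_isOpenImmersion w
  have hR : IsNoetherianRing R := by
    have : IsNoetherianRing (CommRingCat.of R) := isNoetherian_Spec.mp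
      { toIsLocallyNoetherian := hN', toCompactSpace := inferInstance }
    exact this
  have hirr : IrreducibleSpace (PrimeSpectrum R) := by
    have h1 : IrreducibleSpace ↥(Spec (CommRingCat.of R)) := by
      have : Nonempty ↥(Spec (CommRingCat.of R)) := inferInstanceAs (Nonempty (PrimeSpectrum R))
      have h2 : IsPreirreducible (Set.univ : Set ↥(Spec (CommRingCat.of R))) := by
        have := (PreirreducibleSpace.isPreirreducible_univ (X := G.left)).preimage w.isOpenEmbedding
        rwa [Set.preimage_univ] at this
      have : PreirreducibleSpace ↥(Spec (CommRingCat.of R)) := ⟨h2⟩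
      exact { toPreirreducibleSpace := this, toNonempty := inferInstance }
    exact h1
  refine prim_of_irreducible_of_CM (fun P _ ↦ ?_)
  exact cm_atPrime_of_open w (fun x ↦ Groth.Agent.S3029.result K G x) P

end K410.GrpPrim
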