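import Groth.Agent.AlgGrp.K410.FixBasic
import Groth.Agent.AlgGrp.K410.GrpPrim
import Groth.Agent.AlgGrp.K410.FactorLocus
import Groth.Prelude.Def_Red

/-!
# The locus of fixed points over an affine chart

`exists_ideal_fixed`: the condition that a point `v ≫ j` be fixed, for `v : T ⟶ Spec A`, is given by a finitely
generated ideal of `A`, given a flat affine chart `w : Spec B ⟶ Spec A ⊗ G` meeting every fibre on which the orbit map and the
constant map both take values in an affine open of `X`.
-/

set_option autoImplicit false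
universe u
open CategoryTheory MonoidalCategory CartesianMonoidalCategory MonObj GrpObj AlgebraicGeometry TensorProduct
open AlgGrp

namespace K410.FixCore

open K410.FixBasic K410.PureIrr K410.GrpPrim K410.FactorLocus
open CategoryTheory.Limits (pullback pullback.fst pullback.snd pullback.condition pullback.lift pullback.lift_fst pullback.lift_snd)

variable {S : Scheme.{u}} {G X : Over S}

/-- The base change of an affine chart `Spec B ⟶ Spec A ⊗ G` to a field is an open subscheme of the base change of `G`. -/
theorem exists_open_fibre {A B : Type u} [CommRing A] [CommRing B] [Algebra A B]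
    (v : Spec (.of A) ⟶ S) (b : Spec (.of B) ⟶ S) (w : Over.mk b ⟶ Over.mk v ⊗ G) [IsOpenImmersion w.left]
    (hφ : (w ≫ fst (Over.mk v) G).left = Spec.map (CommRingCat.ofHom (algebraMap A B)))
    (K : Type u) [Field K] [Algebra A K] :
    ∃ z : Spec (.of (K ⊗[A] B)) ⟶ (Red.bc (Spec.map (CommRingCat.ofHom (algebraMap A K)) ≫ v) G).left,
      IsOpenImmersion z := by
  let s : Spec (.of K) ⟶ Spec (.of A) := Spec.map (CommRingCat.ofHom (algebraMap A K))
  let P : Scheme.{u} := (Over.mk v ⊗ G).left
  let GK : Scheme.{u} := pullback G.hom (s ≫ v)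
  -- the map of `GK` to `P`
  let r : GK ⟶ P := pullback.lift (pullback.snd G.hom (s ≫ v) ≫ s) (pullback.fst G.hom (s ≫ v)) (by
    rw [Category.assoc]
    exact pullback.condition.symm)
  have hr1 : r ≫ pullback.fst (Over.mk v).hom G.hom = pullback.snd G.hom (s ≫ v) ≫ s := pullback.lift_fst _ _ _
  have hr2 : r ≫ pullback.snd (Over.mk v).hom G.hom = pullback.fst G.hom (s ≫ v) := pullback.lift_snd _ _ _
  have hlow : IsPullback r (pullback.snd G.hom (s ≫ v)) (pullback.fst (Over.mk v).hom G.hom) s := by
    have h1 : IsPullback (pullback.snd (Over.mk v).hom G.hom) (pullback.fst (Over.mk v).hom G.hom) G.hom v :=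
      (IsPullback.of_hasPullback (Over.mk v).hom G.hom).flip
    refine IsPullback.of_right (h₁₂ := pullback.snd (Over.mk v).hom G.hom) (v₁₃ := G.hom) (h₂₂ := v) ?_ hr1 h1
    rw [hr2]
    exact IsPullback.of_hasPullback G.hom (s ≫ v)
  have hout : IsPullback (Spec.map (CommRingCat.ofHom
        (Algebra.TensorProduct.includeRight (R := A) (A := K) (B := B)).toRingHom))
      (Spec.map (CommRingCat.ofHom (algebraMap K (K ⊗[A] B))))
      (Spec.map (CommRingCat.ofHom (algebraMap A B))) s := by
    refine IsPullback.flip ?_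
    exact isPullback_SpecMap_of_isPushout _ _ _ _ (CommRingCat.isPushout_tensorProduct A K B)
  rw [← hφ] at hout
  let z : Spec (.of (K ⊗[A] B)) ⟶ GK := hlow.lift
    (Spec.map (CommRingCat.ofHom (Algebra.TensorProduct.includeRight (R := A) (A := K) (B := B)).toRingHom) ≫ w.left)
    (Spec.map (CommRingCat.ofHom (algebraMap K (K ⊗[A] B)))) (by
      rw [Category.assoc]
      exact hout.w)
  have hz : IsPullback (Spec.map (CommRingCat.ofHom
        (Algebra.TensorProduct.includeRight (R := A) (A := K) (B := B)).toRingHom)) z w.left r := by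
    refine IsPullback.of_bot (v₂₁ := pullback.snd G.hom (s ≫ v)) (v₂₂ := pullback.fst (Over.mk v).hom G.hom)
      (h₃₁ := s) ?_ (hlow.lift_fst _ _ _).symm hlow
    rw [hlow.lift_snd]
    exact hout
  exact ⟨z, MorphismProperty.of_isPullback (P := @IsOpenImmersion) hz inferInstance⟩

theorem primFibres [GrpObj G] [LocallyOfFiniteType G.hom] [GeometricallyIrreducible G.hom]
    {A B : Type u} [CommRing A] [CommRing B] [Algebra A B]
    (v : Spec (.of A) ⟶ S) (b : Spec (.of B) ⟶ S) (w : Over.mk b ⟶ Over.mk v ⊗ G) [IsOpenImmersion w.left]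
    (hφ : (w ≫ fst (Over.mk v) G).left = Spec.map (CommRingCat.ofHom (algebraMap A B)))
    (hsurj : Surjective (Spec.map (CommRingCat.ofHom (algebraMap A B)))) : PrimFibres A B := by
  intro K _ _
  obtain ⟨z, hz⟩ := exists_open_fibre v b w hφ K
  let s : Spec (.of K) ⟶ Spec (.of A) := Spec.map (CommRingCat.ofHom (algebraMap A K))
  have h1 : LocallyOfFiniteType (Red.bc (s ≫ v) G).hom :=
    inferInstanceAs (LocallyOfFiniteType (pullback.snd G.hom (s ≫ v)))
  have h2 : GeometricallyIrreducible (Red.bc (s ≫ v) G).hom :=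
    inferInstanceAs (GeometricallyIrreducible (pullback.snd G.hom (s ≫ v)))
  have h3 : IrreducibleSpace (Red.bc (s ≫ v) G).left :=
    GeometricallyIrreducible.irreducibleSpace_of_subsingleton (Red.bc (s ≫ v) G).hom
  have hnt : Nontrivial (K ⊗[A] B) := by
    have hpb : IsPullback (Spec.map (CommRingCat.ofHom
        (Algebra.TensorProduct.includeRight (R := A) (A := K) (B := B)).toRingHom))
      (Spec.map (CommRingCat.ofHom (algebraMap K (K ⊗[A] B))))
      (Spec.map (CommRingCat.ofHom (algebraMap A B))) s := by
      refine IsPullback.flip ?_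
      exact isPullback_SpecMap_of_isPushout _ _ _ _ (CommRingCat.isPushout_tensorProduct A K B)
    have h4 : Surjective (Spec.map (CommRingCat.ofHom (algebraMap K (K ⊗[A] B)))) :=
      MorphismProperty.of_isPullback (P := @Surjective) hpb hsurj
    obtain ⟨y, -⟩ := h4.surj (IsLocalRing.closedPoint K)
    rw [← PrimeSpectrum.nonempty_iff_nontrivial]
    exact ⟨y⟩
  exact prim_of_open (Red.bc (s ≫ v) G) z

/-- A morphism to `Spec B` equalizes two ring maps iff it factors through the closed subscheme of their differences. -/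
theorem comp_eq_iff_factor {B C : Type u} [CommRing B] [CommRing C] (α β : C →+* B) {Z : Scheme.{u}}
    (p : Z ⟶ Spec (.of B)) :
    p ≫ Spec.map (CommRingCat.ofHom α) = p ≫ Spec.map (CommRingCat.ofHom β) ↔
      ∃ l : Z ⟶ Spec (.of (B ⧸ Ideal.span (Set.range fun c ↦ α c - β c))),
        l ≫ Spec.map (CommRingCat.ofHom (Ideal.Quotient.mk _)) = p := by
  rw [exists_factor_iff]
  constructor
  · intro h x hx
    have h1 : (glob p).comp α = (glob p).comp β := by
      rw [← glob_comp_SpecMap, ← glob_comp_SpecMap, h]
    have h2 : Ideal.span (Set.range fun c ↦ α c - β c) ≤ RingHom.ker (glob p) := by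
      rw [Ideal.span_le]
      rintro _ ⟨c, rfl⟩
      change glob p (α c - β c) = 0
      rw [map_sub, sub_eq_zero]
      exact congr($h1 c)
    exact h2 hx
  · intro h
    apply K410.FactorLocus.hom_ext
    rw [glob_comp_SpecMap, glob_comp_SpecMap]
    ext c
    have := h _ (Ideal.subset_span ⟨c, rfl⟩)
    rw [map_sub, sub_eq_zero] at this
    exact this

open Limits in
/-- The condition that a point be fixed is given, over an affine chart, by a finitely generated ideal. -/
theorem exists_ideal_fixed [GrpObj G] [Flat G.hom] [LocallyOfFinitePresentation G.hom] [GeometricallyIrreducible G.hom]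
    (a : AlgGrp.Action G X)
    {A B C : Type u} [CommRing A] [CommRing B] [CommRing C] [Algebra A B]
    (v : Spec (.of A) ⟶ S) (b : Spec (.of B) ⟶ S) (j : Over.mk v ⟶ X) (w : Over.mk b ⟶ Over.mk v ⊗ G)
    [IsOpenImmersion w.left]
    (hφ : (w ≫ fst (Over.mk v) G).left = Spec.map (CommRingCat.ofHom (algebraMap A B)))
    (hsurj : Surjective (Spec.map (CommRingCat.ofHom (algebraMap A B))))
    (fC : Spec (.of C) ⟶ X.left) [Mono fC] (α β : C →+* B)
    (hα : Spec.map (CommRingCat.ofHom α) ≫ fC = (w ≫ orb a j).left)
    (hβ : Spec.map (CommRingCat.ofHom β) ≫ fC = (w ≫ fst (Over.mk v) G ≫ j).left)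
    (hJ : (Ideal.span (Set.range fun c ↦ α c - β c)).FG) :
    ∃ I : Ideal A, I.FG ∧ ∀ (T : Over S) (t : T ⟶ Over.mk v), Fixed a (t ≫ j) ↔
      ∃ h : T.left ⟶ Spec (.of (A ⧸ I)), h ≫ Spec.map (CommRingCat.ofHom (Ideal.Quotient.mk I)) = t.left := by
  have hprim := primFibres v b w hφ hsurj
  have hfst : (fst (Over.mk v) G).left = pullback.fst (Over.mk v).hom G.hom := rfl
  have hfl : Flat (Spec.map (CommRingCat.ofHom (algebraMap A B))) := by
    rw [← hφ, Over.comp_left, hfst]
    infer_instance
  have hfp : LocallyOfFinitePresentation (Spec.map (CommRingCat.ofHom (algebraMap A B))) := by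
    rw [← hφ, Over.comp_left, hfst]
    infer_instance
  have hfl' : Module.Flat A B := by
    rw [Flat.SpecMap_iff] at hfl
    exact RingHom.flat_algebraMap_iff.mp hfl
  have hfp' : Algebra.FinitePresentation A B := by
    rw [LocallyOfFinitePresentation.SpecMap_iff] at hfp
    exact (RingHom.finitePresentation_algebraMap).mp hfp
  obtain ⟨I, hI, hiff⟩ := exists_ideal_of_prim hprim _ hJ
  refine ⟨I, hI, fun T t ↦ ?_⟩
  rw [factor_locus_iff I _ hiff t.left]
  -- the base change of the chart
  let WT : Over S := pullback (w ≫ fst (Over.mk v) G) t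
  let pT : WT ⟶ Over.mk b := pullback.fst _ _
  let qT : WT ⟶ T := pullback.snd _ _
  have hcond : pT ≫ w ≫ fst (Over.mk v) G = qT ≫ t := pullback.condition
  have hpb : IsPullback pT qT (w ≫ fst (Over.mk v) G) t := IsPullback.of_hasPullback _ _
  have hpbl : IsPullback pT.left qT.left (Spec.map (CommRingCat.ofHom (algebraMap A B))) t.left := by
    rw [← hφ]
    exact Groth.Agent.Sga3C.CWGroup.isPullback_left hpb
  have hstep : (∃ l : pullback (Spec.map (CommRingCat.ofHom (algebraMap A B))) t.left ⟶
        Spec (.of (B ⧸ Ideal.span (Set.range fun c ↦ α c - β c))),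
        l ≫ Spec.map (CommRingCat.ofHom (Ideal.Quotient.mk _)) = pullback.fst _ _) ↔
      pT.left ≫ Spec.map (CommRingCat.ofHom α) = pT.left ≫ Spec.map (CommRingCat.ofHom β) := by
    rw [comp_eq_iff_factor]
    let e := hpbl.isoPullback
    have he : e.hom ≫ pullback.fst _ _ = pT.left := hpbl.isoPullback_hom_fst
    have he' : e.inv ≫ pT.left = pullback.fst _ _ := hpbl.isoPullback_inv_fst
    constructor
    · rintro ⟨l, hl⟩
      exact ⟨e.hom ≫ l, by rw [Category.assoc, hl, he]⟩
    · rintro ⟨l, hl⟩
      exact ⟨e.inv ≫ l, by rw [Category.assoc, hl, he']⟩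
  rw [hstep, ← cancel_mono fC, Category.assoc, Category.assoc, hα, hβ]
  let wT : WT ⟶ T ⊗ G := lift qT (pT ≫ w ≫ snd (Over.mk v) G)
  have hwT : wT ≫ orb a (t ≫ j) = pT ≫ w ≫ orb a j := by
    have h1 : pT ≫ w = lift (qT ≫ t) (pT ≫ w ≫ snd (Over.mk v) G) := by
      ext1
      · rw [Category.assoc, hcond, lift_fst]
      · rw [Category.assoc, lift_snd]
    rw [← Category.assoc pT w, h1, lift_orb, lift_orb, Category.assoc]
  have hwT' : wT ≫ fst T G ≫ t ≫ j = pT ≫ w ≫ fst (Over.mk v) G ≫ j := by
    rw [lift_fst_assoc, ← Category.assoc qT, ← hcond]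
    simp only [Category.assoc]
  have hstep2 : pT.left ≫ (w ≫ orb a j).left = pT.left ≫ (w ≫ fst (Over.mk v) G ≫ j).left ↔
      wT ≫ orb a (t ≫ j) = wT ≫ fst T G ≫ t ≫ j := by
    rw [hwT, hwT', ← Over.comp_left, ← Over.comp_left]
    constructor
    · intro h
      ext1
      exact h
    · intro h
      rw [h]
  rw [hstep2]
  constructor
  · intro h
    rw [(fixed_iff a _).mp h]
  · intro h
    have hsq : IsPullback pT wT w (t ▷ G) := by
      have comm : pT ≫ w = wT ≫ t ▷ G := by
        ext1
        · rw [Category.assoc, Category.assoc, whiskerRight_fst, lift_fst_assoc, hcond]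
        · rw [Category.assoc, Category.assoc, whiskerRight_snd, lift_snd]
      refine IsPullback.of_isLimit' ⟨comm⟩ (PullbackCone.IsLimit.mk _
        (fun s ↦ pullback.lift s.fst (s.snd ≫ fst T G) ?_) ?_ ?_ ?_)
      · have := s.condition =≫ fst (Over.mk v) G
        rw [Category.assoc, Category.assoc, whiskerRight_fst] at this
        rw [this, Category.assoc]
      · intro s
        exact pullback.lift_fst _ _ _
      · intro s
        ext1
        · rw [Category.assoc, lift_fst]
          exact pullback.lift_snd _ _ _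
        · have := s.condition =≫ snd (Over.mk v) G
          rw [Category.assoc, Category.assoc, whiskerRight_snd] at this
          rw [Category.assoc, lift_snd, ← this, ← Category.assoc]
          congr 1
          exact pullback.lift_fst _ _ _
      · intro s l h1 h2
        apply pullback.hom_ext
        · rw [pullback.lift_fst]
          exact h1
        · rw [pullback.lift_snd, ← h2, Category.assoc, lift_fst]
    have : IsOpenImmersion wT.left := MorphismProperty.of_isPullback (P := @IsOpenImmersion)
      (Groth.Agent.Sga3C.CWGroup.isPullback_left hsq) inferInstance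
    refine fixed_of_open wT ?_ (t ≫ j) h
    intro τ
    have h1 : Surjective qT.left := MorphismProperty.of_isPullback (P := @Surjective) hpbl hsurj
    obtain ⟨z, hz⟩ := h1.surj τ
    refine ⟨z, ?_⟩
    have : wT ≫ fst T G = qT := lift_fst _ _
    rw [this]
    exact hz

end K410.FixCore
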