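import Groth.Agent.AlgGrp.K410.FixGlobal
import Mathlib.RingTheory.Finiteness.ModuleFinitePresentation
import Mathlib.RingTheory.Flat.EquationalCriterion
import Mathlib.AlgebraicGeometry.Morphisms.Finite

/-!
# Fixed points of an infinitesimal pointed scheme

`exists_fixed_of_infinitesimal`: for a finite locally free `S`-scheme `F` with a section `e` which is a surjective closed
immersion and a morphism `act : F ⊗ X ⟶ X` through which `e` acts trivially, the fixed points of `F` in `X` form a closed
subscheme.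
-/

set_option autoImplicit false
universe u
open CategoryTheory MonoidalCategory CartesianMonoidalCategory AlgebraicGeometry TensorProduct

namespace K410.FixFin

open K410.FixGlobal K410.FactorLocus K410.FixCore K410.FixChart
open Groth.Agent.Ega3A.PicEtSh (ECov)
open Groth.Agent.Ega3A.PicSheaf (toEt ofEt)
open Groth.Agent.Models2.QuoRep

/-- The vanishing of an ideal of a finite projective algebra is a closed condition. -/
theorem exists_ideal_of_projective {A B : Type u} [CommRing A] [CommRing B] [Algebra A B] [Module.Projective A B]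
    (J : Ideal B) :
    ∃ I : Ideal A, ∀ (A' : Type u) [CommRing A'] [Algebra A A'],
      (∀ b ∈ J, (1 : A') ⊗ₜ[A] b = 0) ↔ I.map (algebraMap A A') = ⊥ := by
  obtain ⟨I, hI⟩ := Groth.Agent.S1227.result (A := A) ((Submodule.mkQ J).restrictScalars A)
    (Submodule.mkQ_surjective J)
  refine ⟨I, fun A' _ _ ↦ ?_⟩
  rw [← hI A']
  have hsurj : Function.Surjective (((Submodule.mkQ J).restrictScalars A).baseChange A') := by
    rw [LinearMap.baseChange_eq_ltensor]
    exact LinearMap.lTensor_surjective A' (Submodule.mkQ_surjective J)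
  constructor
  · intro hJ0
    refine ⟨?_, hsurj⟩
    rw [← LinearMap.ker_eq_bot, eq_bot_iff]
    intro z hz
    have hex : Function.Exact (LinearMap.lTensor A' ((Submodule.subtype J).restrictScalars A))
        (LinearMap.lTensor A' ((Submodule.mkQ J).restrictScalars A)) := by
      refine lTensor_exact A' (f := (Submodule.subtype J).restrictScalars A)
        (g := (Submodule.mkQ J).restrictScalars A) ?_ (Submodule.mkQ_surjective J)
      intro b
      constructor
      · intro hb
        have : b ∈ J := Ideal.Quotient.eq_zero_iff_mem.mp hb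
        exact ⟨⟨b, this⟩, rfl⟩
      · rintro ⟨⟨b, hb⟩, rfl⟩
        exact Ideal.Quotient.eq_zero_iff_mem.mpr hb
    obtain ⟨w, rfl⟩ := (hex z).mp hz
    induction w with
    | zero => simp
    | add a b ha hb =>
      rw [map_add]
      exact Submodule.add_mem _ (ha (by rw [LinearMap.mem_ker]; exact (hex _).mpr ⟨a, rfl⟩))
        (hb (by rw [LinearMap.mem_ker]; exact (hex _).mpr ⟨b, rfl⟩))
    | tmul a b =>
      have h1 := hJ0 b.1 b.2
      have h2 : a ⊗ₜ[A] b.1 = 0 := by
        have : a ⊗ₜ[A] b.1 = (a ⊗ₜ[A] (1 : B)) * ((1 : A') ⊗ₜ[A] b.1) := by simp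
        rw [this, h1, mul_zero]
      simpa using h2
  · rintro ⟨hinj, -⟩ b hb
    apply hinj
    rw [map_zero, LinearMap.baseChange_tmul]
    have : (Submodule.mkQ J).restrictScalars A b = 0 := Ideal.Quotient.eq_zero_iff_mem.mpr hb
    rw [this, tmul_zero]

variable {S : Scheme.{u}} {F X : Over S} (act : F ⊗ X ⟶ X)

/-- `x` is fixed by all points of `F` after every base change. -/
def PFixed {T : Over S} (x : T ⟶ X) : Prop :=
  ∀ (T' : Over S) (t : T' ⟶ T) (g : T' ⟶ F), lift g (t ≫ x) ≫ act = t ≫ x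

/-- `(t, g) ↦ g · x(t)`. -/
noncomputable def porb {T : Over S} (x : T ⟶ X) : T ⊗ F ⟶ X := lift (snd T F) (fst T F ≫ x) ≫ act

theorem lift_porb {T T' : Over S} (x : T ⟶ X) (t : T' ⟶ T) (g : T' ⟶ F) :
    lift t g ≫ porb act x = lift g (t ≫ x) ≫ act := by
  rw [porb, ← Category.assoc]
  congr 1
  ext1 <;> simp

theorem pfixed_iff {T : Over S} (x : T ⟶ X) : PFixed act x ↔ porb act x = fst T F ≫ x := by
  constructor
  · intro h
    exact h (T ⊗ F) (fst T F) (snd T F)
  · intro h T' t g
    rw [← lift_porb, h, lift_fst_assoc]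

variable {act}

theorem PFixed.comp {T T' : Over S} (g : T' ⟶ T) (x : T ⟶ X) (h : PFixed act x) : PFixed act (g ≫ x) := by
  intro T'' t g'
  have := h T'' (t ≫ g) g'
  simpa only [Category.assoc] using this

theorem pfixed_of_etCov {T : Over S} (𝒰 : EtCov T) (x : T ⟶ X) (h : ∀ i, PFixed act (𝒰.j i ≫ x)) :
    PFixed act x := by
  intro T' t g
  apply hom_ext_etCov (𝒰.pull t)
  intro i
  have h1 := h i _ (𝒰.snd t i) ((𝒰.pull t).j i ≫ g)
  have h2 : (𝒰.pull t).j i ≫ t ≫ x = 𝒰.snd t i ≫ 𝒰.j i ≫ x := by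
    rw [← Category.assoc, EtCov.condition, Category.assoc]
  calc (𝒰.pull t).j i ≫ lift g (t ≫ x) ≫ act
      = lift ((𝒰.pull t).j i ≫ g) ((𝒰.pull t).j i ≫ t ≫ x) ≫ act := by
        rw [← Category.assoc, comp_lift]
    _ = lift ((𝒰.pull t).j i ≫ g) (𝒰.snd t i ≫ 𝒰.j i ≫ x) ≫ act := by rw [h2]
    _ = 𝒰.snd t i ≫ 𝒰.j i ≫ x := h1
    _ = (𝒰.pull t).j i ≫ t ≫ x := h2.symm

variable (act)

/-- The condition that a point be fixed is given, over an affine chart, by an ideal. -/
theorem exists_ideal_pfixed [IsFinite F.hom] [Flat F.hom] [LocallyOfFinitePresentation F.hom]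
    {A : CommRingCat.{u}} (v : Spec A ⟶ S) (j : Over.mk v ⟶ X) [IsOpenImmersion j.left]
    (hrange : Set.range (porb act j).left ⊆ Set.range j.left) :
    ∃ I : Ideal A, ∀ (T : Over S) (t : T ⟶ Over.mk v), PFixed act (t ≫ j) ↔
      ∃ h : T.left ⟶ Spec (.of (A ⧸ I)), h ≫ Spec.map (CommRingCat.ofHom (Ideal.Quotient.mk I)) = t.left := by
  let V : Over S := Over.mk v
  let P : Scheme.{u} := (V ⊗ F).left
  let pr : P ⟶ Spec A := (fst V F).left
  have hpr : pr = Limits.pullback.fst V.hom F.hom := rfl
  have hfin : IsFinite pr := by rw [hpr]; infer_instance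
  have haff : IsAffine P := isAffine_of_isAffineHom pr
  let B : CommRingCat.{u} := Γ(P, ⊤)
  let w : Spec B ⟶ P := P.isoSpec.inv
  obtain ⟨φ, hφ⟩ := Spec.map_surjective (w ≫ pr)
  have hfl : Flat (Spec.map φ) := by rw [hφ, hpr]; infer_instance
  have hfp : LocallyOfFinitePresentation (Spec.map φ) := by rw [hφ, hpr]; infer_instance
  have hfi : IsFinite (Spec.map φ) := by rw [hφ, hpr]; infer_instance
  algebraize [φ.hom]
  have hfl' : Module.Flat A B := by
    rw [Flat.SpecMap_iff] at hfl
    exact hfl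
  have hfp' : Algebra.FinitePresentation A B := by
    rw [LocallyOfFinitePresentation.SpecMap_iff] at hfp
    exact hfp
  have hfi' : Module.Finite A B := by
    rw [IsFinite.SpecMap_iff] at hfi
    exact hfi
  have : Module.FinitePresentation A B := Module.FinitePresentation.of_finite_of_finitePresentation _ _
  have hproj : Module.Projective A B := Module.Flat.projective_of_finitePresentation
  -- the two maps
  let α₀ : Spec B ⟶ Spec A := w ≫ IsOpenImmersion.lift j.left (porb act j).left hrange
  have hα₀ : α₀ ≫ j.left = w ≫ (porb act j).left := by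
    simp only [α₀, Category.assoc, IsOpenImmersion.lift_fac]
  let β₀ : Spec B ⟶ Spec A := w ≫ pr
  obtain ⟨α, hα⟩ := Spec.map_surjective α₀
  obtain ⟨I, hiff⟩ := exists_ideal_of_projective (A := A) (B := B)
    (Ideal.span (Set.range fun c ↦ α.hom c - φ.hom c))
  refine ⟨I, fun T t ↦ ?_⟩
  rw [factor_locus_iff (A := A) (B := B) I _ hiff t.left]
  have hφ' : Spec.map (CommRingCat.ofHom (algebraMap A B)) = w ≫ pr := hφ
  have hpb : IsPullback (t ▷ F).left (fst T F).left pr t.left :=
    Groth.Agent.Sga3C.CWGroup.isPullback_left (isPullback_whiskerRight (G := F) t)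
  have hpb' : IsPullback ((t ▷ F).left ≫ P.isoSpec.hom) (fst T F).left
      (Spec.map (CommRingCat.ofHom (algebraMap A B))) t.left := by
    refine hpb.of_iso (Iso.refl _) P.isoSpec (Iso.refl _) (Iso.refl _) ?_ ?_ ?_ ?_
    · simp
    · simp
    · rw [hφ']
      simp [w]
    · simp
  have hstep : (∃ l : Limits.pullback (Spec.map (CommRingCat.ofHom (algebraMap A B))) t.left ⟶
        Spec (.of (B ⧸ Ideal.span (Set.range fun c ↦ α.hom c - φ.hom c))),
        l ≫ Spec.map (CommRingCat.ofHom (Ideal.Quotient.mk _)) = Limits.pullback.fst _ _) ↔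
      ((t ▷ F).left ≫ P.isoSpec.hom) ≫ Spec.map (CommRingCat.ofHom α.hom) =
        ((t ▷ F).left ≫ P.isoSpec.hom) ≫ Spec.map (CommRingCat.ofHom φ.hom) := by
    rw [comp_eq_iff_factor]
    let e := hpb'.isoPullback
    have he : e.hom ≫ Limits.pullback.fst _ _ = (t ▷ F).left ≫ P.isoSpec.hom := hpb'.isoPullback_hom_fst
    have he' : e.inv ≫ ((t ▷ F).left ≫ P.isoSpec.hom) = Limits.pullback.fst _ _ := hpb'.isoPullback_inv_fst
    constructor
    · rintro ⟨l, hl⟩
      exact ⟨e.hom ≫ l, by rw [Category.assoc, hl, he]⟩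
    · rintro ⟨l, hl⟩
      exact ⟨e.inv ≫ l, by rw [Category.assoc, hl, he']⟩
  rw [hstep]
  have h1 : P.isoSpec.hom ≫ Spec.map (CommRingCat.ofHom α.hom) ≫ j.left = (porb act j).left := by
    have : Spec.map (CommRingCat.ofHom α.hom) = α₀ := hα
    rw [this, hα₀]
    simp [w]
  have h2 : P.isoSpec.hom ≫ Spec.map (CommRingCat.ofHom φ.hom) ≫ j.left = (fst V F ≫ j).left := by
    have : Spec.map (CommRingCat.ofHom φ.hom) = w ≫ pr := hφ
    rw [this]
    simp [w, pr]
  rw [← cancel_mono j.left, Category.assoc, Category.assoc, Category.assoc, Category.assoc, h1, h2,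
    ← Over.comp_left, ← Over.comp_left]
  have h3 : t ▷ F ≫ porb act j = porb act (t ≫ j) := by
    rw [porb, porb, ← Category.assoc]
    congr 1
    ext1 <;> simp
  have h4 : t ▷ F ≫ fst V F ≫ j = fst T F ≫ t ≫ j := by
    rw [whiskerRight_fst_assoc]
  rw [h3, h4, pfixed_iff]
  constructor
  · intro h
    rw [h]
  · intro h
    ext1
    exact h

/-- Fixed points of an infinitesimal pointed scheme. -/
theorem exists_pfixed (e : 𝟙_ (Over S) ⟶ F) (he : (e ▷ X) ≫ act = (λ_ X).hom)
    [IsFinite F.hom] [Flat F.hom] [LocallyOfFinitePresentation F.hom] [Surjective e.left] :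
    ∃ (K : Over S) (k : K ⟶ X), IsClosedImmersion k.left ∧
      ∀ (T : Over S) (x : T ⟶ X), PFixed act x ↔ ∃ h : T ⟶ K, h ≫ k = x := by
  refine exists_closed_of_charts X (fun T x ↦ PFixed act x) (fun g x h ↦ h.comp g x)
    (fun 𝒰 x h ↦ pfixed_of_etCov (toEt 𝒰) x h) (fun κ ↦ ?_)
  obtain ⟨U, hU, hκU, -⟩ := exists_isAffineOpen_mem_and_subset (x := κ) (U := ⊤) trivial
  let v : Spec Γ(X.left, U) ⟶ S := hU.fromSpec ≫ X.hom
  let j : Over.mk v ⟶ X := Over.homMk hU.fromSpec rfl
  have hj : IsOpenImmersion j.left := inferInstanceAs (IsOpenImmersion hU.fromSpec)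
  have hrange : Set.range (porb act j).left ⊆ Set.range j.left := by
    rintro _ ⟨z, rfl⟩
    -- `z` is in the image of the unit section
    let σ : Over.mk v ⟶ Over.mk v ⊗ F := lift (𝟙 _) (toUnit _ ≫ e)
    have hσ : Surjective σ.left := by
      have hsq : IsPullback σ (toUnit (Over.mk v)) (snd (Over.mk v) F) e := by
        refine IsPullback.of_isLimit' ⟨lift_snd _ _⟩ (Limits.PullbackCone.IsLimit.mk _
          (fun s ↦ s.fst ≫ fst _ _) ?_ ?_ ?_)
        · intro s
          have hs := s.condition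
          ext1
          · rw [Category.assoc, Category.assoc, lift_fst, Category.comp_id]
          · rw [Category.assoc, Category.assoc, lift_snd, hs, ← Category.assoc, ← Category.assoc]
            congr 1
            exact toUnit_unique _ _
        · intro s
          exact toUnit_unique _ _
        · intro s l h1 h2
          rw [← h1, Category.assoc, lift_fst, Category.comp_id]
      exact MorphismProperty.of_isPullback (P := @Surjective)
        (Groth.Agent.Sga3C.CWGroup.isPullback_left hsq).flip inferInstance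
    obtain ⟨y, hy⟩ := hσ.surj z
    have h1 : σ ≫ porb act j = j := by
      rw [lift_porb, Category.id_comp]
      have h2 : lift (toUnit (Over.mk v)) j ≫ (e ▷ X) = lift (toUnit (Over.mk v) ≫ e) j := by
        ext1 <;> simp
      rw [← h2, Category.assoc, he]
      simp
    refine ⟨y, ?_⟩
    rw [← hy, ← Scheme.Hom.comp_apply, ← Over.comp_left, h1]
  obtain ⟨I, hI⟩ := exists_ideal_pfixed act v j hrange
  refine ⟨_, v, j, I, hj, ?_, hI⟩
  change κ ∈ Set.range hU.fromSpec
  rw [hU.range_fromSpec]
  exact hκU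

end K410.FixFin
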