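import Groth.Agent.AlgGrp.K410.FixChart
import Groth.Agent.Pic13.H953.ClosedSub

/-!
# The fixed point subscheme

`exists_closed_of_charts`: a condition on the points of `X` which is stable under base change, étale local and given near
each point of `X` by a (finitely generated) ideal is given by a closed subscheme (of finite presentation).
`exists_fixed`: fixed points of a flat, locally finitely presented group with geometrically irreducible fibres.
-/

set_option autoImplicit false
universe u
open CategoryTheory MonoidalCategory CartesianMonoidalCategory MonObj GrpObj AlgebraicGeometry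
open AlgGrp

namespace K410.FixGlobal

open K410.FixBasic K410.FixCore K410.FixChart
open Groth.Agent.Ega3A.PicEtSh (ECov)
open Groth.Agent.Ega3A.PicSheaf (toEt ofEt)

variable {S : Scheme.{u}}

theorem locallyOfFinitePresentation_quotient {A : Type u} [CommRing A] (I : Ideal A) (hI : I.FG) :
    LocallyOfFinitePresentation (Spec.map (CommRingCat.ofHom (Ideal.Quotient.mk I))) := by
  rw [LocallyOfFinitePresentation.SpecMap_iff]
  exact RingHom.FinitePresentation.of_surjective _ Ideal.Quotient.mk_surjective (by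
    rw [CommRingCat.hom_ofHom, Ideal.mk_ker]
    exact hI)

/-- Local existence of closed subschemes implies global existence. -/
theorem exists_closed_of_charts (X : Over S) (L : ∀ T : Over S, (T ⟶ X) → Prop)
    (hbc : ∀ {T T' : Over S} (g : T' ⟶ T) (a : T ⟶ X), L T a → L T' (g ≫ a))
    (hloc : ∀ {T : Over S} (𝒰 : ECov T) (a : T ⟶ X), (∀ i, L _ (𝒰.j i ≫ a)) → L T a)
    (hchart : ∀ κ : X.left, ∃ (A : CommRingCat.{u}) (v : Spec A ⟶ S) (j : Over.mk v ⟶ X) (I : Ideal A),
      IsOpenImmersion j.left ∧ κ ∈ Set.range j.left ∧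
      ∀ (T : Over S) (t : T ⟶ Over.mk v), L T (t ≫ j) ↔
        ∃ h : T.left ⟶ Spec (.of (A ⧸ I)), h ≫ Spec.map (CommRingCat.ofHom (Ideal.Quotient.mk I)) = t.left) :
    ∃ (K : Over S) (κι : K ⟶ X), IsClosedImmersion κι.left ∧
      ∀ (T : Over S) (a : T ⟶ X), L T a ↔ ∃ h : T ⟶ K, h ≫ κι = a := by
  refine Groth.Agent.Pic13.H953.ClosedSub.exists_closed' hbc hloc (fun κ ↦ ?_)
  obtain ⟨A, v, j, I, hj, hκ, hiff⟩ := hchart κ
  let i : Spec (.of (A ⧸ I)) ⟶ Spec A := Spec.map (CommRingCat.ofHom (Ideal.Quotient.mk I))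
  refine ⟨Over.mk v, Over.mk (i ≫ v), j, Over.homMk i rfl, inferInstanceAs (IsAffine (Spec A)), inferInstance, hκ,
    ?_, fun T t ↦ ?_⟩
  · exact IsClosedImmersion.spec_of_surjective _ Ideal.Quotient.mk_surjective
  · rw [hiff T t]
    constructor
    · rintro ⟨h, hh⟩
      refine ⟨Over.homMk h ?_, ?_⟩
      · change h ≫ i ≫ v = T.hom
        rw [← Category.assoc]
        have h1 : h ≫ i = t.left := hh
        rw [h1]
        exact Over.w t
      · ext1
        exact hh
    · rintro ⟨g, hg⟩
      exact ⟨g.left, congrArg CommaMorphism.left hg⟩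

/-- If the charts are given by finitely generated ideals, the closed subscheme is of finite presentation. -/
theorem locallyOfFinitePresentation_of_charts (X : Over S) (L : ∀ T : Over S, (T ⟶ X) → Prop)
    (hchart : ∀ κ : X.left, ∃ (A : CommRingCat.{u}) (v : Spec A ⟶ S) (j : Over.mk v ⟶ X) (I : Ideal A),
      IsOpenImmersion j.left ∧ κ ∈ Set.range j.left ∧ I.FG ∧
      ∀ (T : Over S) (t : T ⟶ Over.mk v), L T (t ≫ j) ↔
        ∃ h : T.left ⟶ Spec (.of (A ⧸ I)), h ≫ Spec.map (CommRingCat.ofHom (Ideal.Quotient.mk I)) = t.left)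
    (K : Over S) (κι : K ⟶ X) [Mono κι.left]
    (hK : ∀ (T : Over S) (a : T ⟶ X), L T a ↔ ∃ h : T ⟶ K, h ≫ κι = a) : LocallyOfFinitePresentation κι.left := by
  choose A v j I hj hκ hI hiff using hchart
  let 𝒰 : X.left.OpenCover :=
    { I₀ := X.left
      X := fun κ ↦ Spec (A κ)
      f := fun κ ↦ (j κ).left
      mem₀ := by
        rw [Scheme.presieve₀_mem_precoverage_iff]
        refine ⟨fun x ↦ ⟨x, hκ x⟩, fun κ ↦ hj κ⟩ }
  refine (IsZariskiLocalAtTarget.iff_of_openCover (P := @LocallyOfFinitePresentation) 𝒰).mpr (fun κ ↦ ?_)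
  -- the base change is the chart
  let i : Spec (.of (A κ ⧸ I κ)) ⟶ Spec (A κ) := Spec.map (CommRingCat.ofHom (Ideal.Quotient.mk (I κ)))
  have hi : LocallyOfFinitePresentation i := locallyOfFinitePresentation_quotient (I κ) (hI κ)
  have hic : IsClosedImmersion i := IsClosedImmersion.spec_of_surjective _ Ideal.Quotient.mk_surjective
  have h1 : L (Over.mk (i ≫ v κ)) ((Over.homMk i rfl : Over.mk (i ≫ v κ) ⟶ Over.mk (v κ)) ≫ j κ) :=
    (hiff κ _ _).mpr ⟨𝟙 _, Category.id_comp _⟩
  obtain ⟨g, hg⟩ := (hK _ _).mp h1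
  have hgl : g.left ≫ κι.left = i ≫ (j κ).left := congrArg CommaMorphism.left hg
  have hsq : IsPullback g.left i κι.left (j κ).left := by
    have key : ∀ {T : Scheme.{u}} (x : T ⟶ K.left) (y : T ⟶ Spec (A κ)), x ≫ κι.left = y ≫ (j κ).left →
        ∃ h : T ⟶ Spec (.of (A κ ⧸ I κ)), h ≫ i = y := by
      intro T x y hxy
      let T' : Over S := Over.mk (x ≫ K.hom)
      let x' : T' ⟶ K := Over.homMk x rfl
      let y' : T' ⟶ Over.mk (v κ) := Over.homMk y (by
        change y ≫ v κ = x ≫ K.hom
        rw [← Over.w κι, ← Category.assoc, hxy, Category.assoc]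
        congr 1
        exact (Over.w (j κ)).symm)
      have h2 : x' ≫ κι = y' ≫ j κ := by
        ext1
        exact hxy
      have h3 : L T' (y' ≫ j κ) := by
        rw [← h2]
        exact (hK _ _).mpr ⟨x', rfl⟩
      exact (hiff κ T' y').mp h3
    refine ⟨⟨hgl⟩, ⟨Limits.PullbackCone.IsLimit.mk _ (fun s => (key s.fst s.snd s.condition).choose) ?_ ?_ ?_⟩⟩
    · intro s
      rw [← cancel_mono κι.left, Category.assoc, hgl, ← Category.assoc, (key s.fst s.snd s.condition).choose_spec,
        s.condition]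
    · intro s
      exact (key s.fst s.snd s.condition).choose_spec
    · intro s m hm1 hm2
      rw [← cancel_mono i, hm2]
      exact (key s.fst s.snd s.condition).choose_spec.symm
  have : Limits.pullback.snd κι.left (𝒰.f κ) = hsq.isoPullback.inv ≫ i := (hsq.isoPullback_inv_snd).symm
  change LocallyOfFinitePresentation (Limits.pullback.snd κι.left (𝒰.f κ))
  rw [this]
  infer_instance

/-- Fixed points of a flat group scheme locally of finite presentation with geometrically irreducible fibres. -/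
theorem exists_fixed {G X : Over S} [GrpObj G] [Flat G.hom] [LocallyOfFinitePresentation G.hom]
    [GeometricallyIrreducible G.hom] [LocallyOfFiniteType X.hom] (a : AlgGrp.Action G X) :
    ∃ (K : Over S) (κι : K ⟶ X), IsClosedImmersion κι.left ∧ LocallyOfFinitePresentation κι.left ∧
      ∀ (T : Over S) (x : T ⟶ X), Fixed a x ↔ ∃ h : T ⟶ K, h ≫ κι = x := by
  obtain ⟨K, κι, hκι, hK⟩ := exists_closed_of_charts X (fun T x ↦ Fixed a x) (fun g x h ↦ h.comp g x)
    (fun 𝒰 x h ↦ fixed_of_etCov (toEt 𝒰) x h) (fun κ ↦ by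
      obtain ⟨A, v, j, I, h1, h2, -, h4⟩ := exists_chart a κ
      exact ⟨A, v, j, I, h1, h2, h4⟩)
  exact ⟨K, κι, hκι, locallyOfFinitePresentation_of_charts X (fun T x ↦ Fixed a x) (exists_chart a) K κι hK, hK⟩

end K410.FixGlobal
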