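import Groth.Agent.AlgGrp.K410.LocSec
import Groth.Agent.Books.AffBridge
import Groth.Agent.Books.UnipExt

/-!
# Multiplicative and additive functions from Hopf algebras
-/

set_option autoImplicit false
set_option linter.unusedSectionVars false
universe u
open CategoryTheory MonoidalCategory CartesianMonoidalCategory AlgebraicGeometry Limits
open scoped MonObj

namespace K410.FnLaw

open Groth.Agent Groth.Agent.Books.AffBridge Groth.Agent.Books.UnipExt K410.LocSec

variable {k : Type u} [Field k]

/-- the function attached to an element of the coordinate ring -/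
noncomputable def fn {A : Type u} [CommRing A] [Algebra k A] {N : Over (Spec (CommRingCat.of k))}
    (f : N ⟶ SpecOver k A) (a : A) : Γ(N.left, ⊤) :=
  f.left.appTop ((Scheme.ΓSpecIso (CommRingCat.of A)).inv a)

theorem fn_comp {A : Type u} [CommRing A] [Algebra k A] {N T : Over (Spec (CommRingCat.of k))}
    (x : T ⟶ N) (f : N ⟶ SpecOver k A) (a : A) : x.left.appTop (fn f a) = fn (x ≫ f) a := by
  rw [fn, fn, Over.comp_left, Scheme.Hom.comp_appTop]
  rfl

theorem fn_specMap {A R : Type u} [CommRing A] [Algebra k A] [CommRing R] [Algebra k R] (φ : A →ₐ[k] R) (a : A) :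
    fn (specMap k φ) a = (Scheme.ΓSpecIso (CommRingCat.of R)).inv (φ a) := by
  have h := Scheme.ΓSpecIso_inv_naturality (CommRingCat.ofHom φ.toRingHom)
  exact congr($h a).symm

theorem exists_specOver (X : Over (Spec (CommRingCat.of k))) [IsAffine X.left] :
    ∃ (R : Type u) (_ : CommRing R) (_ : Algebra k R), Nonempty (X ≅ SpecOver k R) := by
  obtain ⟨Y, ⟨e⟩⟩ := (essImage_algSpec (R := CommRingCat.of k) (G := X)).2 ‹_›
  exact ⟨Y.unop, inferInstance, inferInstance, ⟨e.symm⟩⟩

section

variable {A : Type u} [CommRing A] [HopfAlgebra k A]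

theorem affine_tensor : IsAffine (SpecOver k A ⊗ SpecOver k A).left := by
  have h0 : IsAffine (SpecOver k A).left := inferInstanceAs (IsAffine (Spec (CommRingCat.of A)))
  have h01 : IsAffineHom (SpecOver k A).hom := inferInstance
  have h1 : IsAffineHom (pullback.snd (SpecOver k A).hom (SpecOver k A).hom) := inferInstance
  have h2 : IsAffine (pullback (SpecOver k A).hom (SpecOver k A).hom) :=
    isAffine_of_isAffineHom (pullback.snd (SpecOver k A).hom (SpecOver k A).hom)
  exact h2

/-- group-like elements give multiplicative functions -/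
theorem isMul_fn {N : Over (Spec (CommRingCat.of k))} [GrpObj N] (e : N ⟶ SpecOver k A) [IsMonHom e] {g : A}
    (hg : IsGroupLikeElem k g) : IsMul (fn e g) := by
  intro T x y
  rw [fn_comp, fn_comp, fn_comp, MonObj.mul_comp]
  have := affine_tensor (k := k) (A := A)
  obtain ⟨R, _, _, ⟨e'⟩⟩ := exists_specOver (SpecOver k A ⊗ SpecOver k A)
  have h1 : ∀ (x y : SpecOver k R ⟶ SpecOver k A), fn (x * y) g = fn x g * fn y g := by
    intro x y
    have hx := specMap_specPreimage k x
    have hy := specMap_specPreimage k y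
    have h2 := specMap_mul k (WithConv.toConv (specPreimage k x)) (WithConv.toConv (specPreimage k y))
    rw [WithConv.ofConv_toConv, WithConv.ofConv_toConv, hx, hy] at h2
    have h3 : (WithConv.toConv (specPreimage k x) * WithConv.toConv (specPreimage k y)).ofConv g =
        specPreimage k x g * specPreimage k y g := by
      have h4 := AlgHom.convMul_apply (WithConv.toConv (specPreimage k x)) (WithConv.toConv (specPreimage k y)) g
      rw [hg.comul_eq_tmul_self] at h4
      simpa using h4
    rw [← h2, fn_specMap, h3, map_mul, ← fn_specMap, ← fn_specMap, hx, hy]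
    rfl
  have key : ∀ {T : Over (Spec (CommRingCat.of k))} (x y : T ⟶ SpecOver k A), fn (x * y) g = fn x g * fn y g := by
    intro T x y
    obtain ⟨z, x', y', rfl, rfl⟩ : ∃ (z : T ⟶ SpecOver k R) (x' y' : SpecOver k R ⟶ SpecOver k A),
        x = z ≫ x' ∧ y = z ≫ y' :=
      ⟨lift x y ≫ e'.hom, e'.inv ≫ fst _ _, e'.inv ≫ snd _ _, by simp, by simp⟩
    rw [← MonObj.comp_mul, ← fn_comp, h1, map_mul, fn_comp, fn_comp]
  exact key _ _

/-- primitive elements give additive functions -/
theorem isAdd_fn {N : Over (Spec (CommRingCat.of k))} [GrpObj N] (e : N ⟶ SpecOver k A) [IsMonHom e] {g : A}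
    (hg : IsPrim k g) : IsAdd (fn e g) := by
  intro T x y
  rw [fn_comp, fn_comp, fn_comp, MonObj.mul_comp]
  have := affine_tensor (k := k) (A := A)
  obtain ⟨R, _, _, ⟨e'⟩⟩ := exists_specOver (SpecOver k A ⊗ SpecOver k A)
  have h1 : ∀ (x y : SpecOver k R ⟶ SpecOver k A), fn (x * y) g = fn x g + fn y g := by
    intro x y
    have hx := specMap_specPreimage k x
    have hy := specMap_specPreimage k y
    have h2 := specMap_mul k (WithConv.toConv (specPreimage k x)) (WithConv.toConv (specPreimage k y))
    rw [WithConv.ofConv_toConv, WithConv.ofConv_toConv, hx, hy] at h2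
    have h3 : (WithConv.toConv (specPreimage k x) * WithConv.toConv (specPreimage k y)).ofConv g =
        specPreimage k x g + specPreimage k y g := by
      have h4 := AlgHom.convMul_apply (WithConv.toConv (specPreimage k x)) (WithConv.toConv (specPreimage k y)) g
      rw [show Coalgebra.comul (R := k) g = _ from hg] at h4
      simpa [add_comm] using h4
    rw [← h2, fn_specMap, h3, map_add, ← fn_specMap, ← fn_specMap, hx, hy]
    rfl
  have key : ∀ {T : Over (Spec (CommRingCat.of k))} (x y : T ⟶ SpecOver k A), fn (x * y) g = fn x g + fn y g := by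
    intro T x y
    obtain ⟨z, x', y', rfl, rfl⟩ : ∃ (z : T ⟶ SpecOver k R) (x' y' : SpecOver k R ⟶ SpecOver k A),
        x = z ≫ x' ∧ y = z ≫ y' :=
      ⟨lift x y ≫ e'.hom, e'.inv ≫ fst _ _, e'.inv ≫ snd _ _, by simp, by simp⟩
    rw [← MonObj.comp_mul, ← fn_comp, h1, map_add, fn_comp, fn_comp]
  exact key _ _

end

end K410.FnLaw
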