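import Groth.Agent.AlgGrp.K410.LocSec

/-!
# The system of local sections of a homomorphism and their differences
-/

set_option autoImplicit false
set_option linter.unusedSectionVars false
universe u
open CategoryTheory MonoidalCategory CartesianMonoidalCategory MonObj GrpObj AlgebraicGeometry Limits

namespace K410.LocSys

open Groth.Agent Groth.Agent.Fdesc.LocGen K410.LocSec

variable {B : Scheme.{u}} {N G A : Over B} [GrpObj N] [GrpObj G] [GrpObj A]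

/-- translation by a rational point -/
noncomputable abbrev tr {X : Over B} [GrpObj X] (x : 𝟙_ (Over B) ⟶ X) : X ⟶ X := 𝟙 X * (toUnit X ≫ x)

theorem comp_tr {X T : Over B} [GrpObj X] (a : T ⟶ X) (x : 𝟙_ (Over B) ⟶ X) :
    a ≫ tr x = a * (toUnit T ≫ x) := by
  rw [MonObj.comp_mul, Category.comp_id, ← Category.assoc, toUnit_unique (a ≫ toUnit X) (toUnit T)]

section Ker

variable {i : N ⟶ G} {q : G ⟶ A} [IsMonHom q] (hk : AlgGrp.IsKernel i q)
include hk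

theorem ker_lift {T : Over B} (x : T ⟶ G) (hx : x ≫ q = 1) : ∃ n : T ⟶ N, n ≫ i = x := by
  have h1 : x ≫ q = toUnit T ≫ η[A] := by rw [hx]; rfl
  exact ⟨hk.lift x (toUnit T) h1, hk.lift_fst _ _ _⟩

theorem ker_inj {T : Over B} {a b : T ⟶ N} (h : a ≫ i = b ≫ i) : a = b :=
  hk.hom_ext h (toUnit_unique _ _)

theorem ker_comp : i ≫ q = 1 := hk.w

end Ker

variable (i : N ⟶ G) (q : G ⟶ A)

/-- A local section of `q` -/
structure LS where
  V : A.left.Opens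
  s : ov A V ⟶ G
  hs : s ≫ q = inc A V

variable {q}

/-- the restriction of a local section -/
noncomputable def LS.sr (p : LS q) {W : A.left.Opens} (e : W ≤ p.V) : ov A W ⟶ G :=
  rs (𝟙 A) (by simpa using e) ≫ p.s

theorem LS.sr_comp (p : LS q) {W : A.left.Opens} (e : W ≤ p.V) : p.sr e ≫ q = inc A W := by
  rw [LS.sr, Category.assoc, p.hs, rs_inc, Category.comp_id]

theorem LS.rs_sr (p : LS q) {W W' : A.left.Opens} (e : W ≤ p.V) (e' : W' ≤ W)
    (h : W' ≤ (𝟙 A : A ⟶ A).left ⁻¹ᵁ W) : rs (𝟙 A) h ≫ p.sr e = p.sr (e'.trans e) := by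
  rw [LS.sr, LS.sr, ← Category.assoc]
  congr 1
  apply LocSec.hom_ext
  simp only [Category.assoc, rs_inc, Category.comp_id]

/-- restriction -/
noncomputable def LS.res (p : LS q) {W : A.left.Opens} (e : W ≤ p.V) : LS q where
  V := W
  s := p.sr e
  hs := p.sr_comp e

variable [IsMonHom q] [IsMonHom i] (hk : AlgGrp.IsKernel i q)

/-- the restriction of `q` over an open -/
noncomputable abbrev qr (W : A.left.Opens) : ov G (q.left ⁻¹ᵁ W) ⟶ ov A W := rs q le_rfl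

include hk in
theorem exists_rp (p : LS q) : ∃ r : ov G (q.left ⁻¹ᵁ p.V) ⟶ N,
    r ≫ i = inc G _ * (qr p.V ≫ p.s)⁻¹ := by
  apply ker_lift hk
  rw [MonObj.mul_comp, GrpObj.inv_comp, Category.assoc, p.hs, qr, rs_inc, mul_inv_cancel]

include hk in
theorem exists_wp (p p' : LS q) : ∃ w : ov A (p.V ⊓ p'.V) ⟶ N,
    w ≫ i = p.sr inf_le_left * (p'.sr inf_le_right)⁻¹ := by
  apply ker_lift hk
  rw [MonObj.mul_comp, GrpObj.inv_comp, p.sr_comp, p'.sr_comp, mul_inv_cancel]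

noncomputable def rp (p : LS q) : ov G (q.left ⁻¹ᵁ p.V) ⟶ N := (exists_rp i hk p).choose

theorem rp_comp (p : LS q) : rp i hk p ≫ i = inc G _ * (qr p.V ≫ p.s)⁻¹ := (exists_rp i hk p).choose_spec

noncomputable def wp (p p' : LS q) : ov A (p.V ⊓ p'.V) ⟶ N := (exists_wp i hk p p').choose

theorem wp_comp (p p' : LS q) : wp i hk p p' ≫ i = p.sr inf_le_left * (p'.sr inf_le_right)⁻¹ :=
  (exists_wp i hk p p').choose_spec

/-- restriction of `rp` -/
noncomputable def rpr (p : LS q) {W : A.left.Opens} (e : W ≤ p.V) : ov G (q.left ⁻¹ᵁ W) ⟶ N :=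
  rs (𝟙 G) (by simpa using q.left.preimage_mono e) ≫ rp i hk p

theorem rpr_comp (p : LS q) {W : A.left.Opens} (e : W ≤ p.V) :
    rpr i hk p e ≫ i = inc G _ * (qr W ≫ p.sr e)⁻¹ := by
  rw [rpr, Category.assoc, rp_comp, MonObj.comp_mul, rs_inc, Category.comp_id, GrpObj.comp_inv]
  congr 2
  rw [← Category.assoc, LS.sr, ← Category.assoc]
  congr 1
  apply LocSec.hom_ext
  simp only [Category.assoc, qr, rs_inc, rs_inc_assoc, Category.comp_id, Category.id_comp]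

/-- the difference of two local trivializations -/
theorem rpr_eq (p p' : LS q) {W : A.left.Opens} (e : W ≤ p.V ⊓ p'.V) :
    rpr i hk p' (e.trans inf_le_right) = rpr i hk p (e.trans inf_le_left) *
      (qr W ≫ rs (𝟙 A) (by simpa using e) ≫ wp i hk p p') := by
  apply ker_inj hk
  rw [MonObj.mul_comp, rpr_comp, rpr_comp, Category.assoc, Category.assoc, wp_comp, MonObj.comp_mul,
    GrpObj.comp_inv, MonObj.comp_mul, GrpObj.comp_inv, p.rs_sr inf_le_left e, p'.rs_sr inf_le_right e]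
  group

/-- translation of a local section by a rational point -/
noncomputable def LS.tra (p : LS q) (y : 𝟙_ (Over B) ⟶ G) : LS q where
  V := (tr (y ≫ q)).left ⁻¹ᵁ p.V
  s := (rs (tr (y ≫ q)) le_rfl ≫ p.s) * (toUnit _ ≫ y)⁻¹
  hs := by
    rw [MonObj.mul_comp, Category.assoc, p.hs, rs_inc, comp_tr, GrpObj.inv_comp, Category.assoc]
    group

theorem tra_V_le (p : LS q) (y : 𝟙_ (Over B) ⟶ G) :
    (p.tra y).V ≤ (tr (y ≫ q)).left ⁻¹ᵁ p.V := le_rfl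

theorem tra_s (p : LS q) (y : 𝟙_ (Over B) ⟶ G) :
    (p.tra y).s = (rs (tr (y ≫ q)) (tra_V_le p y) ≫ p.s) * (toUnit _ ≫ y)⁻¹ := rfl

theorem tr_comp_q (y : 𝟙_ (Over B) ⟶ G) : tr y ≫ q = q ≫ tr (y ≫ q) := by
  rw [MonObj.mul_comp, Category.id_comp, comp_tr, Category.assoc]

theorem tra_le (p : LS q) (y : 𝟙_ (Over B) ⟶ G) :
    q.left ⁻¹ᵁ (p.tra y).V ≤ (tr y).left ⁻¹ᵁ (q.left ⁻¹ᵁ p.V) := by
  have h1 : (tr y).left ≫ q.left = q.left ≫ (tr (y ≫ q)).left := by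
    rw [← Over.comp_left, ← Over.comp_left, tr_comp_q]
  change q.left ⁻¹ᵁ ((tr (y ≫ q)).left ⁻¹ᵁ p.V) ≤ _
  rw [← Scheme.Hom.comp_preimage, ← Scheme.Hom.comp_preimage, h1]

/-- `rp` of the translated section is the translated `rp` -/
theorem rp_tra (p : LS q) (y : 𝟙_ (Over B) ⟶ G) :
    rp i hk (p.tra y) = rs (tr y) (tra_le p y) ≫ rp i hk p := by
  apply ker_inj hk
  rw [rp_comp, Category.assoc, rp_comp, MonObj.comp_mul, rs_inc, comp_tr, GrpObj.comp_inv]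
  have h1 : rs (tr y) (tra_le p y) ≫ qr p.V ≫ p.s =
      qr (p.tra y).V ≫ rs (tr (y ≫ q)) (tra_V_le p y) ≫ p.s := by
    rw [← Category.assoc, ← Category.assoc]
    congr 1
    apply LocSec.hom_ext
    rw [Category.assoc, Category.assoc, qr, qr, rs_inc, rs_inc_assoc, rs_inc, rs_inc_assoc, tr_comp_q]
  rw [h1]
  rw [tra_s, MonObj.comp_mul, GrpObj.comp_inv, ← Category.assoc (qr _) (toUnit _) y,
    toUnit_unique (qr (p.tra y).V ≫ toUnit _) (toUnit _)]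
  group

theorem tra_inf_le (p p' : LS q) (y : 𝟙_ (Over B) ⟶ G) :
    (p.tra y).V ⊓ (p'.tra y).V ≤ (tr (y ≫ q)).left ⁻¹ᵁ (p.V ⊓ p'.V) := le_rfl

theorem sr_tra (p : LS q) (y : 𝟙_ (Over B) ⟶ G) {W W' : A.left.Opens} (e : W ≤ (p.tra y).V)
    (e' : W' ≤ p.V) (h : W ≤ (tr (y ≫ q)).left ⁻¹ᵁ W') :
    (p.tra y).sr e = (rs (tr (y ≫ q)) h ≫ p.sr e') * (toUnit _ ≫ y)⁻¹ := by
  rw [LS.sr, tra_s, MonObj.comp_mul, GrpObj.comp_inv, ← Category.assoc (rs _ _) (toUnit _) y,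
    toUnit_unique (rs _ _ ≫ toUnit _) (toUnit _), LS.sr]
  congr 1
  rw [← Category.assoc, ← Category.assoc]
  congr 1
  apply LocSec.hom_ext
  simp only [Category.assoc, rs_inc, rs_inc_assoc, Category.id_comp, Category.comp_id]

/-- `wp` of the translated sections is the translated `wp` -/
theorem wp_tra (p p' : LS q) (y : 𝟙_ (Over B) ⟶ G) :
    wp i hk (p.tra y) (p'.tra y) = rs (tr (y ≫ q)) (tra_inf_le p p' y) ≫ wp i hk p p' := by
  apply ker_inj hk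
  rw [wp_comp, Category.assoc, wp_comp, MonObj.comp_mul, GrpObj.comp_inv,
    sr_tra p y _ inf_le_left (tra_inf_le p p' y), sr_tra p' y _ inf_le_right (tra_inf_le p p' y)]
  group

/-- cocycle relation -/
theorem wp_mul (p₁ p₂ p₃ : LS q) {W : A.left.Opens} (e₁ : W ≤ p₁.V) (e₂ : W ≤ p₂.V) (e₃ : W ≤ p₃.V)
    (h₁₂ : W ≤ (𝟙 A : A ⟶ A).left ⁻¹ᵁ (p₁.V ⊓ p₂.V)) (h₂₃ : W ≤ (𝟙 A : A ⟶ A).left ⁻¹ᵁ (p₂.V ⊓ p₃.V))
    (h₁₃ : W ≤ (𝟙 A : A ⟶ A).left ⁻¹ᵁ (p₁.V ⊓ p₃.V)) :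
    (rs (𝟙 A) h₁₂ ≫ wp i hk p₁ p₂) * (rs (𝟙 A) h₂₃ ≫ wp i hk p₂ p₃) = rs (𝟙 A) h₁₃ ≫ wp i hk p₁ p₃ := by
  apply ker_inj hk
  rw [MonObj.mul_comp, Category.assoc, Category.assoc, Category.assoc, wp_comp, wp_comp, wp_comp,
    MonObj.comp_mul, GrpObj.comp_inv, MonObj.comp_mul, GrpObj.comp_inv, MonObj.comp_mul, GrpObj.comp_inv,
    p₁.rs_sr inf_le_left (le_inf e₁ e₂), p₂.rs_sr inf_le_right (le_inf e₁ e₂),
    p₂.rs_sr inf_le_left (le_inf e₂ e₃), p₃.rs_sr inf_le_right (le_inf e₂ e₃),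
    p₁.rs_sr inf_le_left (le_inf e₁ e₃), p₃.rs_sr inf_le_right (le_inf e₁ e₃)]
  group

theorem wp_self (p : LS q) : wp i hk p p = 1 := by
  apply ker_inj hk
  rw [wp_comp, MonObj.one_comp]
  exact mul_inv_cancel _

/-- the effect of translations by points of the kernel -/
theorem rpr_ker [IsCommMonObj G] (p : LS q) {W : A.left.Opens} (e : W ≤ p.V) (n : 𝟙_ (Over B) ⟶ N)
    (h : q.left ⁻¹ᵁ W ≤ (tr (n ≫ i)).left ⁻¹ᵁ (q.left ⁻¹ᵁ W)) :
    rs (tr (n ≫ i)) h ≫ rpr i hk p e = rpr i hk p e * (toUnit _ ≫ n) := by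
  apply ker_inj hk
  rw [MonObj.mul_comp, Category.assoc, rpr_comp, MonObj.comp_mul, rs_inc, comp_tr, GrpObj.comp_inv,
    Category.assoc]
  have h1 : rs (tr (n ≫ i)) h ≫ qr W ≫ p.sr e = qr W ≫ p.sr e := by
    rw [← Category.assoc]
    congr 1
    apply LocSec.hom_ext
    rw [Category.assoc, qr, rs_inc, rs_inc_assoc, tr_comp_q, Category.assoc, ker_comp hk, comp_tr,
      MonObj.comp_one, MonObj.comp_one, _root_.mul_one]
  rw [h1]
  exact mul_right_comm _ _ _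

include hk in
theorem ker_le (n : 𝟙_ (Over B) ⟶ N) (W : A.left.Opens) :
    q.left ⁻¹ᵁ W ≤ (tr (n ≫ i)).left ⁻¹ᵁ (q.left ⁻¹ᵁ W) := by
  have h1 : (tr (n ≫ i)).left ≫ q.left = q.left := by
    rw [← Over.comp_left, tr_comp_q, Category.assoc, ker_comp hk, comp_tr, MonObj.comp_one, MonObj.comp_one, _root_.mul_one]
  rw [← Scheme.Hom.comp_preimage, h1]

end K410.LocSys
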