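import Mathlib

/-!
# Transcendence of elements moved by many automorphisms
-/

set_option autoImplicit false
open Polynomial

namespace K410.TransPoly

variable {k B R : Type*} [Field k] [CommRing B] [CommRing R] [IsDomain R] (a : k →+* R)

/-- If infinitely many translates `t + c` of `t` are conjugate to `t` over `B`, then `t` is
transcendental over `B`. -/
theorem eq_zero_of_add (φ : B →+* R) (hφ : Function.Injective φ) (t : R) (V : Set k)
    (hV : V.Infinite)
    (hα : ∀ c ∈ V, ∃ α : R →+* R, (∀ b, α (φ b) = φ b) ∧ α t = t + a c)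
    (F : B[X]) (hF : F.eval₂ φ t = 0) : F = 0 := by
  set P : R[X] := (F.map φ).comp (X + C t) with hP
  have hroot : ∀ c ∈ V, P.IsRoot (a c) := by
    intro c hc
    obtain ⟨α, h1, h2⟩ := hα c hc
    have h3 : α (F.eval₂ φ t) = F.eval₂ φ (t + a c) := by
      rw [Polynomial.hom_eval₂, h2]
      congr 1
      ext b
      exact h1 b
    rw [hF, map_zero] at h3
    rw [Polynomial.IsRoot.def, hP, Polynomial.eval_comp]
    simp only [eval_add, eval_X, eval_C]
    rw [Polynomial.eval_map, add_comm, ← h3]
  have hP0 : P = 0 := by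
    refine Polynomial.eq_zero_of_infinite_isRoot P ?_
    refine Set.Infinite.mono (s := (a) '' V) ?_ (hV.image a.injective.injOn)
    rintro _ ⟨c, hc, rfl⟩
    exact hroot c hc
  have h4 : F.map φ = P.comp (X - C t) := by
    rw [hP, Polynomial.comp_assoc]
    simp
  rw [hP0, Polynomial.zero_comp] at h4
  exact (Polynomial.map_eq_zero_iff hφ).1 h4

/-- If infinitely many multiples `c * t` of `t ≠ 0` are conjugate to `t` over `B`, then `t` is
transcendental over `B`. -/
theorem eq_zero_of_mul (φ : B →+* R) (hφ : Function.Injective φ) (t : R) (ht : t ≠ 0) (V : Set k)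
    (hV : V.Infinite)
    (hα : ∀ c ∈ V, ∃ α : R →+* R, (∀ b, α (φ b) = φ b) ∧ α t = a c * t)
    (F : B[X]) (hF : F.eval₂ φ t = 0) : F = 0 := by
  set P : R[X] := (F.map φ).comp (C t * X) with hP
  have hroot : ∀ c ∈ V, P.IsRoot (a c) := by
    intro c hc
    obtain ⟨α, h1, h2⟩ := hα c hc
    have h3 : α (F.eval₂ φ t) = F.eval₂ φ (a c * t) := by
      rw [Polynomial.hom_eval₂, h2]
      congr 1
      ext b
      exact h1 b
    rw [hF, map_zero] at h3
    rw [Polynomial.IsRoot.def, hP, Polynomial.eval_comp]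
    simp only [eval_mul, eval_X, eval_C]
    rw [Polynomial.eval_map, mul_comm, ← h3]
  have hP0 : P = 0 := by
    refine Polynomial.eq_zero_of_infinite_isRoot P ?_
    refine Set.Infinite.mono (s := (a) '' V) ?_ (hV.image a.injective.injOn)
    rintro _ ⟨c, hc, rfl⟩
    exact hroot c hc
  ext n
  have h5 : P.coeff n = φ (F.coeff n) * t ^ n := by
    rw [hP, Polynomial.comp_C_mul_X_coeff, Polynomial.coeff_map]
  rw [hP0, Polynomial.coeff_zero] at h5
  rcases mul_eq_zero.1 h5.symm with h6 | h6
  · rw [Polynomial.coeff_zero]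
    exact hφ (by rw [h6, map_zero])
  · exact absurd h6 (pow_ne_zero n ht)

end K410.TransPoly
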