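import Groth.Agent.AlgGrp.K410.FnLaw
import Groth.Agent.AlgGrp.K410.TransPoly
import Groth.Agent.AlgGrp.K410.LocSys
import Groth.Agent.Sga7.H740.GaSub
import Groth.Agent.Books.AffBridge2

/-!
# Values of multiplicative and additive functions
-/

set_option autoImplicit false
set_option linter.unusedSectionVars false
universe u
open CategoryTheory MonoidalCategory CartesianMonoidalCategory AlgebraicGeometry Limits
open scoped MonObj

namespace K410.FnVal

open Groth.Agent Groth.Agent.Books.AffBridge Groth.Agent.Books.AffBridge2 Groth.Agent.Books.UnipExt K410.LocSec K410.FnLaw K410.LocSys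
open Groth.Agent.Fdesc.LocGen

variable {k : Type u} [Field k]

theorem infinite_values [IsAlgClosed k] {A : Type u} [CommRing A] [Algebra k A] [Algebra.FiniteType k A] [IsDomain A]
    (a : A) (ha : ∀ c : k, a ≠ algebraMap k A c) : (Set.range fun φ : A →ₐ[k] k => φ a).Infinite := by
  intro hfin
  have h0 : ∏ c ∈ hfin.toFinset, (a - algebraMap k A c) = 0 := by
    refine Sga3B.RG.eq_zero_of_forall_algHom (K := k) fun φ => ?_
    rw [map_prod]
    refine Finset.prod_eq_zero (i := φ a) ((Set.Finite.mem_toFinset _).2 ⟨φ, rfl⟩) ?_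
    simp
  obtain ⟨c, -, hc⟩ := Finset.prod_eq_zero_iff.1 h0
  exact ha c (sub_eq_zero.1 hc)

/-- value of a function at a rational point -/
noncomputable def evk {N : Over (Spec (CommRingCat.of k))} (n : 𝟙_ (Over (Spec (CommRingCat.of k))) ⟶ N) :
    Γ(N.left, ⊤) →+* k :=
  ((Scheme.ΓSpecIso (CommRingCat.of k)).hom.hom).comp n.left.appTop.hom

/-- the constants -/
noncomputable def kc (X : Over (Spec (CommRingCat.of k))) (W : X.left.Opens) : k →+* Γ(X.left, W) :=
  W.topIso.hom.hom.comp ((toUnit (ov X W)).left.appTop.hom.comp (Scheme.ΓSpecIso (CommRingCat.of k)).inv.hom)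

theorem val_toUnit {N X : Over (Spec (CommRingCat.of k))} (c : Γ(N.left, ⊤)) (W : X.left.Opens)
    (n : 𝟙_ (Over (Spec (CommRingCat.of k))) ⟶ N) : val c (toUnit (ov X W) ≫ n) = kc X W (evk n c) := by
  rw [val, Over.comp_left, Scheme.Hom.comp_appTop]
  simp only [kc, evk, RingHom.comp_apply]
  have h : (Scheme.ΓSpecIso (CommRingCat.of k)).inv.hom
      ((Scheme.ΓSpecIso (CommRingCat.of k)).hom.hom (n.left.appTop.hom c)) = n.left.appTop.hom c :=
    congr($((Scheme.ΓSpecIso (CommRingCat.of k)).hom_inv_id) (n.left.appTop.hom c))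
  rw [h]
  rfl

theorem evk_fn {A : Type u} [CommRing A] [Algebra k A] {N : Over (Spec (CommRingCat.of k))}
    (e : N ≅ SpecOver k A) (φ : A →ₐ[k] k) (a : A) :
    evk ((unitIso k).hom ≫ specMap k φ ≫ e.inv) (fn e.hom a) = φ a := by
  have h1 : (((unitIso k).hom ≫ specMap k φ ≫ e.inv).left.appTop.hom (fn e.hom a)) =
      (unitIso k).hom.left.appTop ((Scheme.ΓSpecIso (CommRingCat.of k)).inv (φ a)) := by
    have h2 := fn_comp ((unitIso k).hom ≫ specMap k φ ≫ e.inv) e.hom a
    refine h2.trans ?_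
    have h3 : ((unitIso k).hom ≫ specMap k φ ≫ e.inv) ≫ e.hom = (unitIso k).hom ≫ specMap k φ := by simp
    rw [h3, ← fn_comp, fn_specMap]
  rw [evk, RingHom.comp_apply, h1]
  have h4 : ((unitIso k).hom.left : Spec (CommRingCat.of k) ⟶ Spec (CommRingCat.of k)) = 𝟙 _ := by
    have h41 : ((toUnit (SpecOver k k)).left : Spec (CommRingCat.of k) ⟶ Spec (CommRingCat.of k)) = 𝟙 _ := by
      have h42 : (toUnit (SpecOver k k)).left = (SpecOver k k).hom := by simp
      rw [h42]
      exact Spec.map_id _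
    have h43 := congrArg (fun f => f.left) (unitIso_hom_toUnit k)
    change (unitIso k).hom.left ≫ (toUnit (SpecOver k k)).left = 𝟙 _ at h43
    rw [h41] at h43
    exact (Category.comp_id _).symm.trans h43
  rw [h4]
  have h5 : (𝟙 (Spec (CommRingCat.of k)) : Spec (CommRingCat.of k) ⟶ Spec (CommRingCat.of k)).appTop =
    𝟙 _ := Scheme.Hom.id_appTop
  have h6 : (Scheme.Hom.appTop (𝟙 (Spec (CommRingCat.of k)))) ((Scheme.ΓSpecIso (CommRingCat.of k)).inv (φ a)) =
    (Scheme.ΓSpecIso (CommRingCat.of k)).inv (φ a) := congr($h5 ((Scheme.ΓSpecIso (CommRingCat.of k)).inv (φ a)))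
  erw [h6]
  exact congr($((Scheme.ΓSpecIso (CommRingCat.of k)).inv_hom_id) (φ a))

theorem infinite_evk [IsAlgClosed k] {A : Type u} [CommRing A] [Algebra k A] [Algebra.FiniteType k A] [IsDomain A]
    {N : Over (Spec (CommRingCat.of k))} (e : N ≅ SpecOver k A)
    (a : A) (ha : ∀ c : k, a ≠ algebraMap k A c) :
    (Set.range fun n : 𝟙_ (Over (Spec (CommRingCat.of k))) ⟶ N => evk n (fn e.hom a)).Infinite := by
  refine (infinite_values a ha).mono ?_
  rintro _ ⟨φ, rfl⟩
  exact ⟨_, evk_fn e φ a⟩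

theorem ne_of_groupLike {A : Type u} [CommRing A] [HopfAlgebra k A] {g : A} (hg : IsGroupLikeElem k g) (hg1 : g ≠ 1)
    (c : k) : g ≠ algebraMap k A c := by
  rintro rfl
  apply hg1
  have h1 := hg.counit_eq_one
  have h2 : Coalgebra.counit (R := k) (algebraMap k A c) = c := Bialgebra.counit_algebraMap c
  rw [h2] at h1
  rw [h1, map_one]

theorem ne_of_prim {A : Type u} [CommRing A] [HopfAlgebra k A] {g : A} (hg : IsPrim k g) (hg1 : g ≠ 0)
    (c : k) : g ≠ algebraMap k A c := by
  rintro rfl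
  apply hg1
  have h1 := hg.counit
  have h2 : Coalgebra.counit (R := k) (algebraMap k A c) = c := Bialgebra.counit_algebraMap c
  rw [h2] at h1
  rw [h1, map_zero]

end K410.FnVal
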