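import Groth.Agent.AlgGrp.K410.LocSys
import Groth.Agent.AbVar.K506.AmpleNd
import Groth.Agent.S11891
import Groth.Agent.S2268

/-!
# Existence of local sections everywhere
-/

set_option autoImplicit false
set_option linter.unusedSectionVars false
universe u
open CategoryTheory MonoidalCategory CartesianMonoidalCategory MonObj GrpObj AlgebraicGeometry Limits

namespace K410.LocEx

open Groth.Agent K410.LocSec K410.LocSys
open K506.Transl (pt)

variable {k : Type u} [Field k] [IsAlgClosed k]

theorem exists_lift_pt {X Y : Over (Spec (CommRingCat.of k))} (f : X ⟶ Y) [Surjective f.left]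
    [LocallyOfFiniteType f.left] (y : 𝟙_ (Over (Spec (CommRingCat.of k))) ⟶ Y) :
    ∃ x : 𝟙_ (Over (Spec (CommRingCat.of k))) ⟶ X, x ≫ f = y := by
  obtain ⟨x, hx⟩ := (Groth.Agent.S2268.result f.left).mp inferInstance k y.left
  have hw : x ≫ X.hom = 𝟙 _ := by
    rw [← Over.w f, reassoc_of% hx]
    exact Over.w y
  refine ⟨Over.homMk x hw, ?_⟩
  ext1
  exact hx

variable {N G A : Over (Spec (CommRingCat.of k))} [GrpObj N] [GrpObj G] [GrpObj A]
   (i : N ⟶ G) {q : G ⟶ A} [IsMonHom i] [IsMonHom q]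

/-- translates of a local section cover the base -/
theorem iSup_tra [LocallyOfFiniteType G.hom] [LocallyOfFiniteType A.hom] [CompactSpace A.left] [Surjective q.left]
    (p : LS q) (hp : (p.V : Set A.left).Nonempty) :
    ⨆ y : 𝟙_ (Over (Spec (CommRingCat.of k))) ⟶ G, (p.tra y).V = ⊤ := by
  have hq : LocallyOfFiniteType q.left := by
    have : LocallyOfFiniteType (q.left ≫ A.hom) := by rw [Over.w]; infer_instance
    exact locallyOfFiniteType_of_comp q.left A.hom
  apply K506.AmpleNd.eq_top_of_forall_pt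
  intro a
  obtain ⟨v, hv⟩ := K506.AmpleNd.exists_pt_mem p.V hp
  obtain ⟨y, hy⟩ := exists_lift_pt q (a⁻¹ * v)
  rw [TopologicalSpace.Opens.mem_iSup]
  refine ⟨y, ?_⟩
  change (tr (y ≫ q)).left (pt a) ∈ p.V
  rw [← K506.AmpleNd.pt_comp, comp_tr, hy, toUnit_unique (toUnit _) (𝟙 _), Category.id_comp, mul_inv_cancel_left]
  exact hv

theorem exists_ls [IsCommMonObj N] [IsCommMonObj G] [IsCommMonObj A] [Smooth A.hom] [QuasiCompact A.hom] [ConnectedSpace ↥A.left]
    [Smooth N.hom] [ConnectedSpace ↥N.left] [IsAffine N.left]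
    [Smooth G.hom] [QuasiCompact G.hom] [IsClosedImmersion i.left]
    [Surjective q.left] [Flat q.left] (hker : AlgGrp.IsKernel i q) :
    ∃ p : LS q, (p.V : Set A.left).Nonempty := by
  obtain ⟨V, s, hV, hs⟩ := S11891.result k A N G i q hker
  refine ⟨⟨V, Over.homMk s ?_, ?_⟩, hV⟩
  · rw [← Over.w q, reassoc_of% hs]; rfl
  · ext1
    exact hs

end K410.LocEx
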