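import Groth.Prelude.Def_AlgGrp
import Groth.Agent.Fdesc.LocGen

/-!
# Local sections of a homomorphism with kernel `N` and the attached functions
-/

set_option autoImplicit false
universe u
open CategoryTheory MonoidalCategory CartesianMonoidalCategory MonObj GrpObj AlgebraicGeometry Limits

namespace K410.LocSec

open Groth.Agent Groth.Agent.Fdesc.LocGen

variable {B : Scheme.{u}}

/-- An open subscheme as an object over the base. -/
noncomputable abbrev ov (X : Over B) (W : X.left.Opens) : Over B := Over.mk (W.ι ≫ X.hom)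

noncomputable abbrev inc (X : Over B) (W : X.left.Opens) : ov X W ⟶ X := Over.homMk W.ι rfl

/-- restriction of a morphism to opens -/
noncomputable def rs {X Y : Over B} (f : X ⟶ Y) {W : X.left.Opens} {V : Y.left.Opens}
    (e : W ≤ f.left ⁻¹ᵁ V) : ov X W ⟶ ov Y V :=
  Over.homMk (f.left.resLE V W e) (by simp)

@[reassoc]
theorem rs_inc {X Y : Over B} (f : X ⟶ Y) {W : X.left.Opens} {V : Y.left.Opens}
    (e : W ≤ f.left ⁻¹ᵁ V) : rs f e ≫ inc Y V = inc X W ≫ f := by
  ext1
  simp [rs]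

instance mono_inc (X : Over B) (W : X.left.Opens) : Mono (inc X W) := by
  refine ⟨fun a b h => ?_⟩
  ext1
  have h1 := congrArg (fun f => f.left) h
  simp only [Over.comp_left, Over.homMk_left] at h1
  exact (cancel_mono W.ι).1 h1

theorem hom_ext {X T : Over B} {W : X.left.Opens} {a b : T ⟶ ov X W} (h : a ≫ inc X W = b ≫ inc X W) :
    a = b := (cancel_mono (inc X W)).1 h

theorem rs_comp {X Y Z : Over B} (f : X ⟶ Y) (g : Y ⟶ Z) {W : X.left.Opens} {V : Y.left.Opens}
    {U : Z.left.Opens} (e : W ≤ f.left ⁻¹ᵁ V) (e' : V ≤ g.left ⁻¹ᵁ U)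
    (e'' : W ≤ (f ≫ g).left ⁻¹ᵁ U) : rs f e ≫ rs g e' = rs (f ≫ g) e'' := by
  apply hom_ext
  rw [Category.assoc, rs_inc, rs_inc_assoc, rs_inc]

/-- the value of a function `c` on `N` at an `N`-valued point of an open subscheme of `X` -/
noncomputable def val {N X : Over B} (c : Γ(N.left, ⊤)) {W : X.left.Opens} (x : ov X W ⟶ N) :
    Γ(X.left, W) :=
  W.topIso.hom (x.left.appTop c)

theorem val_rs {N X Y : Over B} (c : Γ(N.left, ⊤)) (f : X ⟶ Y) {W : X.left.Opens} {V : Y.left.Opens}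
    (e : W ≤ f.left ⁻¹ᵁ V) (y : ov Y V ⟶ N) : val c (rs f e ≫ y) = f.left.appLE V W e (val c y) := by
  have h : (rs f e ≫ y).left.appTop ≫ W.topIso.hom = y.left.appTop ≫ V.topIso.hom ≫ f.left.appLE V W e := by
    rw [Over.comp_left, Scheme.Hom.comp_appTop, Category.assoc]
    congr 1
    have h1 : (rs f e).left.appTop = V.topIso.hom ≫ f.left.appLE V W e ≫ W.topIso.inv :=
      Scheme.Hom.resLE_app_top f.left e
    rw [h1, Category.assoc, Category.assoc, Iso.inv_hom_id, Category.comp_id]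
  exact congr($h c)

theorem val_res {N X : Over B} (c : Γ(N.left, ⊤)) {W V : X.left.Opens} (e : W ≤ V)
    (y : ov X V ⟶ N) (e' : W ≤ (𝟙 X : X ⟶ X).left ⁻¹ᵁ V) :
    val c (rs (𝟙 X) e' ≫ y) = ores e (val c y) := by
  rw [val_rs]
  have h : (𝟙 X : X ⟶ X).left.appLE V W e' = X.left.presheaf.map (homOfLE e).op := by
    have h1 : ∀ (f : X.left ⟶ X.left) (hf : f = 𝟙 _) (e'' : W ≤ f ⁻¹ᵁ V), f.appLE V W e'' =
        X.left.presheaf.map (homOfLE e).op := by
      intro f hf e''
      subst hf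
      rw [Scheme.Hom.appLE]
      erw [Scheme.Hom.id_app, Category.id_comp]
      rfl
    exact h1 _ (Over.id_left X) e'
  rw [h]
  rfl

theorem val_app {N X Y : Over B} (c : Γ(N.left, ⊤)) (f : X ⟶ Y) {V : Y.left.Opens}
    (y : ov Y V ⟶ N) : val c (rs f (W := f.left ⁻¹ᵁ V) le_rfl ≫ y) = f.left.app V (val c y) := by
  rw [val_rs, Scheme.Hom.appLE_eq_app]

section Law

variable {N : Over B} [GrpObj N]

/-- a multiplicative function -/
def IsMul (c : Γ(N.left, ⊤)) : Prop :=
  ∀ (T : Over B) (x y : T ⟶ N), (x * y).left.appTop c = x.left.appTop c * y.left.appTop c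

/-- an additive function -/
def IsAdd (c : Γ(N.left, ⊤)) : Prop :=
  ∀ (T : Over B) (x y : T ⟶ N), (x * y).left.appTop c = x.left.appTop c + y.left.appTop c

theorem IsMul.val_mul {c : Γ(N.left, ⊤)} (hc : IsMul c) {X : Over B} {W : X.left.Opens}
    (x y : ov X W ⟶ N) : val c (x * y) = val c x * val c y := by
  rw [val, hc, map_mul]; rfl

theorem IsAdd.val_mul {c : Γ(N.left, ⊤)} (hc : IsAdd c) {X : Over B} {W : X.left.Opens}
    (x y : ov X W ⟶ N) : val c (x * y) = val c x + val c y := by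
  rw [val, hc, map_add]; rfl

end Law

end K410.LocSec
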