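import Groth.Agent.AlgGrp.K410.AddCore

/-!
# Sections of arbitrarily large weight
-/

set_option autoImplicit false
universe u
open CategoryTheory AlgebraicGeometry Limits Polynomial TopologicalSpace

namespace K410.MulCore

open Groth.Agent Groth.Agent.Fdesc.LocGen K410.SecCore K410.AddCore

variable {X S : Scheme.{u}} (q : X ⟶ S)

theorem ev_monomial {W : S.Opens} (t : Γ(X, q ⁻¹ᵁ W)) (n : ℕ) (a : Γ(S, W)) :
    ev q t (monomial n a) = (q.app W).hom a * t ^ n := eval₂_monomial _ _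

theorem exists_section {M R : S.Modules} {ι : Type*} (U : ι → S.Opens) (hU : ⨆ i, U i = ⊤) (n : ℕ)
    (u : ∀ i, Γ(X, q ⁻¹ᵁ U i)) (h : ∀ i j, Γ(S, U i ⊓ U j))
    (hu : ∀ i j, ores (q.preimage_mono (inf_le_right : U i ⊓ U j ≤ U j)) (u j) =
      (q.app (U i ⊓ U j)).hom (h i j) * ores (q.preimage_mono (inf_le_left : U i ⊓ U j ≤ U i)) (u i))
    (r : ∀ i, Γ(R, U i))
    (hr : ∀ i j, res R (inf_le_left : U i ⊓ U j ≤ U i) (r i) =
      (h i j) ^ n • res R (inf_le_right : U i ⊓ U j ≤ U j) (r j))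
    (ψ : R ⟶ M) (e : ∀ i, Γ(M, U i)) (b : ∀ i, Γ(S, U i)) (hb : ∀ i, ψ.app (U i) (r i) = b i • e i) :
    ∃ σ : Γ((Scheme.Modules.pullback q).obj M, q ⁻¹ᵁ ⊤),
      ∀ i, Form q le_top (e i) (u i) σ (monomial n (b i)) := by
  have hc : ∀ i j, res _ (q.preimage_mono (inf_le_left : U i ⊓ U j ≤ U i))
      ((u i) ^ n • pullSec q (ψ.app (U i) (r i))) =
      res _ (q.preimage_mono (inf_le_right : U i ⊓ U j ≤ U j))
        ((u j) ^ n • pullSec q (ψ.app (U j) (r j))) := by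
    intro i j
    rw [res_smul, res_smul, res_pullSec q (inf_le_left : U i ⊓ U j ≤ U i),
      res_pullSec q (inf_le_right : U i ⊓ U j ≤ U j), ← app_res, ← app_res, hr i j,
      Scheme.Modules.Hom.app_smul, pullSec_smul, smul_smul]
    simp only [map_pow]
    rw [hu i j, mul_pow, mul_comm]
  have hc' : (⨆ i, q ⁻¹ᵁ U i) = q ⁻¹ᵁ ⊤ := by rw [← Scheme.Hom.preimage_iSup, hU]
  obtain ⟨σ, hσ⟩ := res_glue ((Scheme.Modules.pullback q).obj M) (V := q ⁻¹ᵁ ⊤) (fun i => q ⁻¹ᵁ U i)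
    (fun i => q.preimage_mono le_top) hc'.ge (fun i => (u i) ^ n • pullSec q (ψ.app (U i) (r i)))
    (fun i j => hc i j)
  refine ⟨σ, fun i => ?_⟩
  rw [Form, hσ, ev_monomial, hb, pullSec_smul, smul_smul, mul_comm]

/-- If `ψ` vanishes on one member of a cover by nonempty opens of an integral scheme, it is zero. -/
theorem coeff_ne_zero [IsIntegral S] {M R : S.Modules} {ι : Type*} (U : ι → S.Opens) (hU : ⨆ i, U i = ⊤)
    (hne : ∀ i, Nonempty (U i)) (r : ∀ i, Γ(R, U i)) (hrg : ∀ i, IsGen (r i)) (ψ : R ⟶ M) (hψ : ψ ≠ 0)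
    (e : ∀ i, Γ(M, U i)) (he : ∀ i, IsGen (e i)) (b : ∀ i, Γ(S, U i))
    (hb : ∀ i, ψ.app (U i) (r i) = b i • e i) (i₀ : ι) : b i₀ ≠ 0 := by
  intro h0
  apply hψ
  -- all coefficients vanish
  have hall : ∀ j, b j = 0 := by
    intro j
    have hirr : IrreducibleSpace S := inferInstance
    have hne' : Nonempty (U i₀ ⊓ U j : S.Opens) := by
      obtain ⟨x, hx⟩ := hne i₀
      obtain ⟨y, hy⟩ := hne j
      obtain ⟨z, hz1, hz2⟩ := nonempty_preirreducible_inter (U i₀).isOpen (U j).isOpen ⟨x, hx⟩ ⟨y, hy⟩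
      exact ⟨⟨z, hz1, hz2⟩⟩
    have h1 : ψ.app (U i₀ ⊓ U j) (res R inf_le_left (r i₀)) = 0 := by
      rw [app_res, hb, h0, zero_smul, map_zero]
    obtain ⟨c, -, hc⟩ := ((hrg i₀).res (inf_le_left : U i₀ ⊓ U j ≤ U i₀)).exists_unit
      ((hrg j).res (inf_le_right : U i₀ ⊓ U j ≤ U j))
    have h2 : ψ.app (U i₀ ⊓ U j) (res R inf_le_right (r j)) = 0 := by
      rw [hc, Scheme.Modules.Hom.app_smul, h1, smul_zero]
    rw [app_res, hb, res_smul] at h2
    have h3 : ores (inf_le_right : U i₀ ⊓ U j ≤ U j) (b j) = 0 := by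
      refine ((he j).res (inf_le_right : U i₀ ⊓ U j ≤ U j)).ext ?_
      rw [h2, zero_smul]
    exact (map_injective_of_isIntegral S (homOfLE (inf_le_right : U i₀ ⊓ U j ≤ U j))) (by
      rw [map_zero]; exact h3)
  apply Scheme.Modules.hom_ext
  intro V
  ext x
  refine res_ext M (fun i => V ⊓ U i) (fun _ => inf_le_left) ?_ (fun i => ?_)
  · rw [← inf_iSup_eq, hU, inf_top_eq]
  · obtain ⟨c, hc⟩ := ((hrg i).res (inf_le_right : V ⊓ U i ≤ U i)).exists_eq (res R inf_le_left x)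
    have h4 : res M (inf_le_left : V ⊓ U i ≤ V) (ψ.app V x) = 0 := by
      rw [← app_res, hc, Scheme.Modules.Hom.app_smul, app_res, hb, hall, zero_smul, map_zero, smul_zero]
    rw [h4]
    exact (map_zero _).symm

/-- The sections of `q^* M` are not finite over the functions. -/
theorem main [IsIntegral S] {M : S.Modules} {ι : Type*} (U : ι → S.Opens) (hU : ⨆ i, U i = ⊤)
    (hne : ∀ i, Nonempty (U i))
    (u : ∀ i, Γ(X, q ⁻¹ᵁ U i)) (h : ∀ i j, Γ(S, U i ⊓ U j))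
    (hu : ∀ i j, ores (q.preimage_mono (inf_le_right : U i ⊓ U j ≤ U j)) (u j) =
      (q.app (U i ⊓ U j)).hom (h i j) * ores (q.preimage_mono (inf_le_left : U i ⊓ U j ≤ U i)) (u i))
    (i₀ : ι) (htr : Trans q (u i₀)) (e : ∀ i, Γ(M, U i)) (he : ∀ i, IsGen (e i))
    (hR : ∀ n : ℕ, ∃ (R : S.Modules) (r : ∀ i, Γ(R, U i)) (ψ : R ⟶ M), (∀ i, IsGen (r i)) ∧
      (∀ i j, res R (inf_le_left : U i ⊓ U j ≤ U i) (r i) =
        (h i j) ^ n • res R (inf_le_right : U i ⊓ U j ≤ U j) (r j)) ∧ ψ ≠ 0)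
    (hfld : IsField Γ(X, ⊤)) (hsurj : Function.Surjective (q.app ⊤)) :
    ¬ Module.Finite Γ(X, ⊤) Γ((Scheme.Modules.pullback q).obj M, ⊤) := by
  choose R r ψ h1 h2 h3 using hR
  choose b hb using fun n i => (he i).exists_eq ((ψ n).app (U i) (r n i))
  choose σ hσ using fun n => exists_section q U hU n u h hu (r n) (h2 n) (ψ n) e (b n) (hb n)
  refine not_finite q (e i₀) (he i₀) (u i₀) htr hfld hsurj σ (fun n => monomial n (b n i₀))
    (fun n => hσ n i₀) (fun n => natDegree_monomial_le _) (fun n => ?_)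
  rw [coeff_monomial_same]
  exact coeff_ne_zero U hU hne (r n) (h1 n) (ψ n) (h3 n) e he (b n) (hb n) i₀

end K410.MulCore
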