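import Groth.Agent.AlgGrp.K410.FnVal
import Groth.Agent.AlgGrp.K410.MulCore

/-!
# The local trivializations are transcendental
-/

set_option autoImplicit false
set_option linter.unusedSectionVars false
universe u
open CategoryTheory MonoidalCategory CartesianMonoidalCategory MonObj GrpObj AlgebraicGeometry Limits

namespace K410.LocTrans

open Groth.Agent K410.LocSec K410.FnLaw K410.LocSys K410.FnVal K410.AddCore
open Groth.Agent.Fdesc.LocGen

variable {k : Type u} [Field k] {N G A : Over (Spec (CommRingCat.of k))} [GrpObj N] [GrpObj G] [GrpObj A]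
  [IsCommMonObj G] (i : N ⟶ G) {q : G ⟶ A} [IsMonHom i] [IsMonHom q] (hk : AlgGrp.IsKernel i q)

theorem app_appLE {X Y : Over (Spec (CommRingCat.of k))} (f : X ⟶ X) (g : X ⟶ Y) (h : f ≫ g = g) (W : Y.left.Opens)
    (e : g.left ⁻¹ᵁ W ≤ f.left ⁻¹ᵁ (g.left ⁻¹ᵁ W)) (b : Γ(Y.left, W)) :
    (f.left.appLE _ _ e).hom ((g.left.app W).hom b) = (g.left.app W).hom b := by
  have h1 : g.left.app W ≫ f.left.appLE _ _ e = g.left.app W := by
    have h2 : f.left ≫ g.left = g.left := by rw [← Over.comp_left, h]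
    have h3 : ∀ (g' : X.left ⟶ Y.left) (hg : g' = g.left) (e' : g.left ⁻¹ᵁ W ≤ g' ⁻¹ᵁ W),
        g'.appLE W (g.left ⁻¹ᵁ W) e' = g.left.app W := by
      intro g' hg e'
      subst hg
      exact Scheme.Hom.appLE_eq_app _
    rw [← Scheme.Hom.comp_appLE]
    exact h3 _ h2 _
  exact congr($h1 b)

theorem tr_ker_comp (n : 𝟙_ (Over (Spec (CommRingCat.of k))) ⟶ N) (hw : i ≫ q = 1) : tr (n ≫ i) ≫ q = q := by
  rw [tr_comp_q, Category.assoc, hw, comp_tr, MonObj.comp_one, MonObj.comp_one, _root_.mul_one]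

section

variable [IsIntegral G.left] (hinj : ∀ U : A.left.Opens, Function.Injective (q.left.app U))

include hinj in
theorem trans_add {c : Γ(N.left, ⊤)} (hc : IsAdd c)
    (hV : (Set.range fun n : 𝟙_ (Over (Spec (CommRingCat.of k))) ⟶ N => evk n c).Infinite) (p : LS q)
    {W : A.left.Opens} (e : W ≤ p.V) : Trans q.left (val c (rpr i hk p e)) := by
  intro F hF
  rcases subsingleton_or_nontrivial Γ(G.left, q.left ⁻¹ᵁ W) with hs | hs
  · have : Subsingleton Γ(A.left, W) := (hinj W).subsingleton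
    exact Subsingleton.elim _ _
  have hne : Nonempty (q.left ⁻¹ᵁ W : G.left.Opens) := by
    by_contra hn
    have hbot : q.left ⁻¹ᵁ W = ⊥ := by
      rw [← TopologicalSpace.Opens.not_nonempty_iff_eq_bot]
      exact fun ⟨x, hx⟩ => hn ⟨⟨x, hx⟩⟩
    have : Subsingleton Γ(G.left, q.left ⁻¹ᵁ W) := by
      rw [hbot]; infer_instance
    exact not_subsingleton _ this
  have hdom : IsDomain Γ(G.left, q.left ⁻¹ᵁ W) := inferInstance
  refine TransPoly.eq_zero_of_add (kc G (q.left ⁻¹ᵁ W)) (q.left.app W).hom (hinj W) _ _ hV ?_ F hF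
  rintro _ ⟨n, rfl⟩
  refine ⟨((tr (n ≫ i)).left.appLE _ _ (ker_le i hk n W)).hom,
    fun b => app_appLE _ _ (tr_ker_comp i n (ker_comp hk)) W _ b, ?_⟩
  have h1 := val_rs c (tr (n ≫ i)) (ker_le i hk n W) (rpr i hk p e)
  rw [rpr_ker, hc.val_mul, val_toUnit] at h1
  exact h1.symm

include hinj in
theorem trans_mul {c : Γ(N.left, ⊤)} (hc : IsMul c) (hc1 : ∀ (T : Over (Spec (CommRingCat.of k))) (x : T ⟶ N), IsUnit (x.left.appTop c))
    (hV : (Set.range fun n : 𝟙_ (Over (Spec (CommRingCat.of k))) ⟶ N => evk n c).Infinite) (p : LS q)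
    {W : A.left.Opens} (e : W ≤ p.V) : Trans q.left (val c (rpr i hk p e)) := by
  intro F hF
  rcases subsingleton_or_nontrivial Γ(G.left, q.left ⁻¹ᵁ W) with hs | hs
  · have : Subsingleton Γ(A.left, W) := (hinj W).subsingleton
    exact Subsingleton.elim _ _
  have hne : Nonempty (q.left ⁻¹ᵁ W : G.left.Opens) := by
    by_contra hn
    have hbot : q.left ⁻¹ᵁ W = ⊥ := by
      rw [← TopologicalSpace.Opens.not_nonempty_iff_eq_bot]
      exact fun ⟨x, hx⟩ => hn ⟨⟨x, hx⟩⟩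
    have : Subsingleton Γ(G.left, q.left ⁻¹ᵁ W) := by
      rw [hbot]; infer_instance
    exact not_subsingleton _ this
  have hdom : IsDomain Γ(G.left, q.left ⁻¹ᵁ W) := inferInstance
  have hne0 : val c (rpr i hk p e) ≠ 0 := by
    have h1 : IsUnit (val c (rpr i hk p e)) := (hc1 _ (rpr i hk p e)).map (q.left ⁻¹ᵁ W : G.left.Opens).topIso.hom.hom
    exact h1.ne_zero
  refine TransPoly.eq_zero_of_mul (kc G (q.left ⁻¹ᵁ W)) (q.left.app W).hom (hinj W) _ hne0 _ hV ?_ F hF
  rintro _ ⟨n, rfl⟩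
  refine ⟨((tr (n ≫ i)).left.appLE _ _ (ker_le i hk n W)).hom,
    fun b => app_appLE _ _ (tr_ker_comp i n (ker_comp hk)) W _ b, ?_⟩
  have h1 := val_rs c (tr (n ≫ i)) (ker_le i hk n W) (rpr i hk p e)
  rw [rpr_ker, hc.val_mul, val_toUnit, mul_comm] at h1
  exact h1.symm

end

end K410.LocTrans
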