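import Groth.Agent.AlgGrp.K410.MulRn

/-!
# Sections of the pullback of an ample sheaf: the case of a nontrivial character
-/

set_option autoImplicit false
set_option linter.unusedSectionVars false
universe u
open CategoryTheory MonoidalCategory CartesianMonoidalCategory MonObj GrpObj AlgebraicGeometry Limits

namespace K410.MulMain

open Groth.Agent K410.LocSec K410.FnLaw K410.LocSys K410.FnVal K410.AddCore K410.MulRn
open Groth.Agent.Fdesc.LocGen Groth.Agent.Grpsch.PicGrp Groth.Agent.Grpsch.Cube Groth.Agent.Picfga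

variable {k : Type u} [Field k] {N G A : Over (Spec (CommRingCat.of k))} [GrpObj N] [GrpObj G] [GrpObj A]
  (i : N ⟶ G) {q : G ⟶ A} [IsMonHom i] [IsMonHom q] (hk : AlgGrp.IsKernel i q) {c : Γ(N.left, ⊤)}

theorem ores_val_rp (p : LS q) {W : A.left.Opens} (e : W ≤ p.V) :
    ores (q.left.preimage_mono e) (val c (rp i hk p)) = val c (rpr i hk p e) := by
  rw [rpr, val_res c (q.left.preimage_mono e)]

theorem app_hh (p p' : LS q) : q.left.app (p.V ⊓ p'.V) (hh i hk c p p') =
    val c (qr (p.V ⊓ p'.V) ≫ rs (𝟙 A) (W := p.V ⊓ p'.V) (V := p.V ⊓ p'.V) (by simp) ≫ wp i hk p p') := by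
  have h1 := ores_hh i hk (c := c) p p' (T := p.V ⊓ p'.V) le_rfl
  rw [ores_refl] at h1
  rw [h1]
  exact (val_app c q _).symm

theorem hu (hc : IsMul c) (p p' : LS q) :
    ores (q.left.preimage_mono (inf_le_right : p.V ⊓ p'.V ≤ p'.V)) (val c (rp i hk p')) =
      (q.left.app (p.V ⊓ p'.V)).hom (hh i hk c p p') *
        ores (q.left.preimage_mono (inf_le_left : p.V ⊓ p'.V ≤ p.V)) (val c (rp i hk p)) := by
  rw [ores_val_rp i hk p' inf_le_right, ores_val_rp i hk p inf_le_left, rpr_eq i hk p p' le_rfl, hc.val_mul, mul_comm]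
  congr 1
  exact (app_hh i hk p p').symm

theorem app_tr_injective (x : 𝟙_ (Over (Spec (CommRingCat.of k))) ⟶ A) (U : A.left.Opens) :
    Function.Injective ((tr x).left.app U) := by
  have h1 : tr x ≫ tr x⁻¹ = 𝟙 A := by
    rw [comp_tr, GrpObj.comp_inv, tr, _root_.mul_assoc, mul_inv_cancel, _root_.mul_one]
  have h2 : tr x⁻¹ ≫ tr x = 𝟙 A := by
    rw [comp_tr, tr, GrpObj.comp_inv, _root_.mul_assoc, inv_mul_cancel, _root_.mul_one]
  have h3 : IsIso (tr x) := ⟨tr x⁻¹, h1, h2⟩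
  have h4 : IsIso (tr x).left := inferInstanceAs (IsIso ((Over.forget _).map (tr x)))
  exact (ConcreteCategory.bijective_of_isIso ((tr x).left.app U)).1

section

variable [IsAlgClosed k] [IsCommMonObj G] [IsIntegral G.left] [LocallyOfFiniteType G.hom] [Surjective q.left]
  [IsProper A.hom] [GeometricallyIntegral A.hom]

/-- the powers of a character embed in the sheaf -/
theorem exists_psi (hc : IsMul c) (hcu : IsUnit c) (hcov : ⨆ p : LS q, p.V = ⊤) {M : A.left.Modules}
    (hM : CohB1.IsAmple M) (s : Coh.structureModule A.left ⟶ M) (hs : s ≠ 0) (n : ℕ) :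
    ∃ (R : A.left.Modules) (r : ∀ p : LS q, Γ(R, p.V)) (ψ : R ⟶ M), (∀ p, IsGen (r p)) ∧
      (∀ p p' : LS q, res R (inf_le_left : p.V ⊓ p'.V ≤ p.V) (r p) =
        (hh i hk c p p') ^ n • res R (inf_le_right : p.V ⊓ p'.V ≤ p'.V) (r p')) ∧ ψ ≠ 0 := by
  obtain ⟨R, r, hr, hr'⟩ := exists_R i hk hc hcu n
  have hR : PicF.IsInvertible R := by
    rw [isInvertible_iff]
    intro x
    have hx : x ∈ ⨆ p : LS q, p.V := by rw [hcov]; trivial
    obtain ⟨p, hp⟩ := TopologicalSpace.Opens.mem_iSup.1 hx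
    exact ⟨p.V, r p, hp, hr p⟩
  have hq : LocallyOfFiniteType q.left := by
    have : LocallyOfFiniteType (q.left ≫ A.hom) := by rw [Over.w]; infer_instance
    exact locallyOfFiniteType_of_comp q.left A.hom
  have hinv : ∀ x : 𝟙_ (Over (Spec (CommRingCat.of k))) ⟶ A, pl (K512.Phi.tr x) (mk R hR) = mk R hR := by
    intro x
    obtain ⟨y, rfl⟩ := LocEx.exists_lift_pt q x
    obtain ⟨e⟩ := R_tra i hk hcov n r hr hr' y
    exact (pull_mk _ hR).trans (mk_congr e)
  obtain ⟨x, hx⟩ := K512.PhiSurj.exists_eq_of_isAmple M hM (mk R hR)⁻¹ (fun x => by rw [map_inv, hinv])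
  have h1 : mk R hR * pl (tr x) (mk M hM.1) = mk M hM.1 := by
    rw [mul_inv_eq_iff_eq_mul] at hx
    rw [hx, mul_inv_cancel_left]
  rw [show pl (tr x) (mk M hM.1) = _ from pull_mk _ hM.1, mk_mul_mk, mk_eq_iff] at h1
  obtain ⟨φ⟩ := h1
  obtain ⟨ψ, hψ⟩ := exists_hom_ne_zero hR (isInvertible_pullback (tr x).left hM.1) φ
    (homOf (pullSec (tr x).left (sec s ⊤))) (by
      intro h0
      have h2 := congrArg (fun t => sec t ⊤) h0
      simp only [sec_homOf] at h2
      have h3 : pullSec (tr x).left (sec s ⊤) = pullSec (tr x).left (0 : Γ(M, ⊤)) := by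
        rw [res_refl] at h2
        refine h2.trans ?_
        have h4 : pullSec (tr x).left (0 : Γ(M, ⊤)) = 0 := by
          have := pullSec_smul (tr x).left (0 : Γ(A.left, ⊤)) (0 : Γ(M, ⊤))
          rw [zero_smul, map_zero, zero_smul] at this
          exact this
        rw [h4]
        rfl
      have h5 := K410.SecCore.pullSec_injective (tr x).left (app_tr_injective x) hM.1 ⊤ h3
      exact hs (hom_ext_sec h5))
  exact ⟨R, r, ψ, hr, hr', hψ⟩

include hk in
/-- The sections of the pullback of an ample sheaf are not finite-dimensional, if there is a nontrivial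
character. -/
theorem main (hinj : ∀ U : A.left.Opens, Function.Injective (q.left.app U)) (hc : IsMul c) (hcu : IsUnit c)
    (hV : (Set.range fun n : 𝟙_ (Over (Spec (CommRingCat.of k))) ⟶ N => evk n c).Infinite)
    (hcov : ⨆ p : LS q, p.V = ⊤) {M : A.left.Modules}
    (hM : CohB1.IsAmple M) (s : Coh.structureModule A.left ⟶ M) (hs : s ≠ 0)
    (hfld : IsField Γ(G.left, ⊤)) (hsurj : Function.Surjective (q.left.app ⊤)) :
    ¬ Module.Finite Γ(G.left, ⊤) Γ((Scheme.Modules.pullback q.left).obj M, ⊤) := by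
  have hint : IsIntegral A.left := GeometricallyIntegral.isIntegral_of_subsingleton A.hom
  let J := {z : Σ p : LS q, Γ(M, p.V) // IsGen z.2 ∧ Nonempty z.1.V}
  have hcov' : ∀ x : A.left, ∃ z : J, x ∈ z.1.1.V := by
    intro x
    have hx : x ∈ ⨆ p : LS q, p.V := by rw [hcov]; trivial
    obtain ⟨p, hp⟩ := TopologicalSpace.Opens.mem_iSup.1 hx
    obtain ⟨V, f, hx', hf⟩ := (isInvertible_iff M).mp hM.1 x
    exact ⟨⟨⟨p.res (inf_le_left : p.V ⊓ V ≤ p.V), res M inf_le_right f⟩, hf.res _, ⟨⟨x, hp, hx'⟩⟩⟩, hp, hx'⟩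
  obtain ⟨z₀, -⟩ := hcov' (Classical.arbitrary _)
  refine K410.MulCore.main q.left (fun z : J => z.1.1.V) ?_ (fun z => z.2.2) (fun z => val c (rp i hk z.1.1))
    (fun z z' => hh i hk c z.1.1 z'.1.1) (fun z z' => hu i hk hc z.1.1 z'.1.1) z₀ ?_ (fun z => z.1.2)
    (fun z => z.2.1) (fun n => ?_) hfld hsurj
  · refine TopologicalSpace.Opens.ext (Set.eq_univ_of_forall fun x => ?_)
    obtain ⟨z, hz⟩ := hcov' x
    exact TopologicalSpace.Opens.mem_iSup.2 ⟨z, hz⟩
  · have h1 := LocTrans.trans_mul i hk hinj hc (fun T x => hcu.map x.left.appTop.hom) hV z₀.1.1 le_rfl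
    have h2 := ores_val_rp i hk (c := c) z₀.1.1 le_rfl
    rw [ores_refl] at h2
    rw [h2]
    exact h1
  · obtain ⟨R, r, ψ, h1, h2, h3⟩ := exists_psi i hk hc hcu hcov hM s hs n
    exact ⟨R, fun z => r z.1.1, ψ, fun z => h1 _, fun z z' => h2 _ _, h3⟩

end

end K410.MulMain
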