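import Groth.Agent.AlgGrp.K410.LocTrans
import Groth.Agent.AlgGrp.K410.LocEx
import Groth.Agent.Picfga.LineCocycle
import Groth.Agent.AbVar.K512.PhiSurj

/-!
# The translation invariant sheaves attached to characters
-/

set_option autoImplicit false
set_option linter.unusedSectionVars false
universe u
open CategoryTheory MonoidalCategory CartesianMonoidalCategory MonObj GrpObj AlgebraicGeometry Limits

namespace K410.MulRn

open Groth.Agent K410.LocSec K410.FnLaw K410.LocSys K410.FnVal K410.AddCore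
open Groth.Agent.Fdesc.LocGen Groth.Agent.Grpsch.PicGrp Groth.Agent.Grpsch.Cube Groth.Agent.Picfga

/-- A nonzero section of `M'` gives a nonzero homomorphism `R ⟶ R ⊗ M'`. -/
theorem exists_hom_ne_zero {X : Scheme.{u}} {R M' M : X.Modules} (hR : PicF.IsInvertible R)
    (hM' : PicF.IsInvertible M') (φ : CohB1.tensorMod R M' ≅ M) (s : Coh.structureModule X ⟶ M') (hs : s ≠ 0) :
    ∃ ψ : R ⟶ M, ψ ≠ 0 := by
  refine ⟨(Ega2.Tens.runit R).inv ≫ Ega2.Tens.mapT (𝟙 R) s ≫ φ.hom, fun h0 => hs ?_⟩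
  have h1 : Ega2.Tens.mapT (𝟙 R) s = 0 := by
    have h2 : Ega2.Tens.mapT (𝟙 R) s = (Ega2.Tens.runit R).hom ≫
        ((Ega2.Tens.runit R).inv ≫ Ega2.Tens.mapT (𝟙 R) s ≫ φ.hom) ≫ φ.inv := by simp
    rw [h2, h0]
    simp
  apply hom_ext_sec
  have hc : ∀ x : X, ∃ (U : X.Opens), x ∈ U ∧ sec s U = 0 := by
    intro x
    obtain ⟨U, e, hx, he⟩ := (isInvertible_iff R).mp hR x
    obtain ⟨V, f, hx', hf⟩ := (isInvertible_iff M').mp hM' x
    refine ⟨U ⊓ V, ⟨hx, hx'⟩, ?_⟩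
    have he' := he.res (inf_le_left : U ⊓ V ≤ U)
    have hf' := hf.res (inf_le_right : U ⊓ V ≤ V)
    obtain ⟨a, ha⟩ := hf'.exists_eq (sec s (U ⊓ V))
    have h2 : (Ega2.Tens.mapT (𝟙 R) s).app (U ⊓ V) (tmul (res R inf_le_left e) (one (U ⊓ V))) =
        tmul (res R inf_le_left e) (sec s (U ⊓ V)) := Ega2.TensPow.mapT_tmul _ _ _ _
    rw [h1, ha, tmul_smul] at h2
    have h3 : a • tmul (res R inf_le_left e) (res M' inf_le_right f) = (0 : Γ(X, U ⊓ V)) •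
        tmul (res R inf_le_left e) (res M' inf_le_right f) := by
      rw [← h2, zero_smul]
      rfl
    rw [ha, (he'.tmul hf').ext h3, zero_smul]
  choose U hxU hU using hc
  have h0 : sec (0 : Coh.structureModule X ⟶ M') ⊤ = 0 := rfl
  rw [h0]
  refine res_ext M' (V := ⊤) U (fun _ => le_top) (fun x _ => TopologicalSpace.Opens.mem_iSup.2 ⟨x, hxU x⟩) (fun x => ?_)
  rw [res_sec, hU, map_zero]

variable {k : Type u} [Field k] {N G A : Over (Spec (CommRingCat.of k))} [GrpObj N] [GrpObj G] [GrpObj A]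
  (i : N ⟶ G) {q : G ⟶ A} [IsMonHom i] [IsMonHom q] (hk : AlgGrp.IsKernel i q)

/-- the transition functions -/
noncomputable def hh (c : Γ(N.left, ⊤)) (p p' : LS q) : Γ(A.left, p.V ⊓ p'.V) := val c (wp i hk p p')

variable {c : Γ(N.left, ⊤)}

theorem ores_hh (p p' : LS q) {T : A.left.Opens} (h : T ≤ p.V ⊓ p'.V) :
    ores h (hh i hk c p p') = val c (rs (𝟙 A) (by simpa using h) ≫ wp i hk p p') := by
  rw [val_res c h]
  rfl

variable (hc : IsMul c) (hcu : IsUnit c)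
include hc hcu

theorem val_one (X : Over (Spec (CommRingCat.of k))) (W : X.left.Opens) : val c (1 : ov X W ⟶ N) = 1 := by
  have h1 := hc.val_mul (1 : ov X W ⟶ N) 1
  rw [_root_.mul_one] at h1
  have h2 : IsUnit (val c (1 : ov X W ⟶ N)) :=
    (hcu.map ((1 : ov X W ⟶ N).left.appTop.hom)).map (W.topIso.hom.hom)
  exact (h2.mul_eq_left.1 h1.symm)

theorem hh_self (p : LS q) : hh i hk c p p = 1 := by
  rw [hh, wp_self, val_one hc hcu]

omit hcu in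
theorem hh_cocycle (p₁ p₂ p₃ : LS q) (T : A.left.Opens) (h₁ : T ≤ p₁.V) (h₂ : T ≤ p₂.V) (h₃ : T ≤ p₃.V) :
    ores (le_inf h₁ h₃) (hh i hk c p₁ p₃) =
      ores (le_inf h₁ h₂) (hh i hk c p₁ p₂) * ores (le_inf h₂ h₃) (hh i hk c p₂ p₃) := by
  rw [ores_hh, ores_hh, ores_hh, ← hc.val_mul, wp_mul i hk p₁ p₂ p₃ h₁ h₂ h₃]

omit hc hcu in
theorem hh_tra (p p' : LS q) (y : 𝟙_ (Over (Spec (CommRingCat.of k))) ⟶ G) :
    hh i hk c (p.tra y) (p'.tra y) = (tr (y ≫ q)).left.app (p.V ⊓ p'.V) (hh i hk c p p') := by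
  rw [hh, wp_tra, hh]
  exact val_app c (tr (y ≫ q)) (wp i hk p p')

theorem exists_R (n : ℕ) : ∃ (R : A.left.Modules) (r : ∀ p : LS q, Γ(R, p.V)), (∀ p, IsGen (r p)) ∧
    ∀ p p' : LS q, res R (inf_le_left : p.V ⊓ p'.V ≤ p.V) (r p) =
      (hh i hk c p p') ^ n • res R (inf_le_right : p.V ⊓ p'.V ≤ p'.V) (r p') :=
  LineCocycle.exists_of_cocycle (fun p : LS q => p.V) (fun p p' => (hh i hk c p p') ^ n)
    (fun p => by rw [hh_self i hk hc hcu, one_pow])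
    (fun p₁ p₂ p₃ T h₁ h₂ h₃ => by
      rw [map_pow, map_pow, map_pow, hh_cocycle i hk hc p₁ p₂ p₃ T h₁ h₂ h₃, mul_pow])

omit hc hcu in
theorem R_tra (hcov : ⨆ p : LS q, p.V = ⊤) (n : ℕ) {R : A.left.Modules} (r : ∀ p : LS q, Γ(R, p.V))
    (hr : ∀ p, IsGen (r p))
    (hr' : ∀ p p' : LS q, res R (inf_le_left : p.V ⊓ p'.V ≤ p.V) (r p) =
      (hh i hk c p p') ^ n • res R (inf_le_right : p.V ⊓ p'.V ≤ p'.V) (r p'))
    (y : 𝟙_ (Over (Spec (CommRingCat.of k))) ⟶ G) :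
    Nonempty ((Scheme.Modules.pullback (tr (y ≫ q)).left).obj R ≅ R) := by
  set T := (tr (y ≫ q)).left with hT
  have hU : ⨆ p : LS q, T ⁻¹ᵁ p.V = ⊤ := by
    rw [← Scheme.Hom.preimage_iSup, hcov]
    rfl
  have key : ∀ p p' : LS q, ∃ a : Γ(A.left, T ⁻¹ᵁ p.V ⊓ T ⁻¹ᵁ p'.V),
      res ((Scheme.Modules.pullback T).obj R) inf_le_left (pullSec T (r p)) =
        a • res ((Scheme.Modules.pullback T).obj R) inf_le_right (pullSec T (r p')) ∧
      res R (inf_le_left : T ⁻¹ᵁ p.V ⊓ T ⁻¹ᵁ p'.V ≤ T ⁻¹ᵁ p.V) (r (p.tra y)) =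
        a • res R (inf_le_right : T ⁻¹ᵁ p.V ⊓ T ⁻¹ᵁ p'.V ≤ T ⁻¹ᵁ p'.V) (r (p'.tra y)) := by
    intro p p'
    refine ⟨T.app (p.V ⊓ p'.V) (hh i hk c p p' ^ n), ?_, ?_⟩
    · have h1 := res_pullSec T (inf_le_left : p.V ⊓ p'.V ≤ p.V) (r p)
      have h2 := res_pullSec T (inf_le_right : p.V ⊓ p'.V ≤ p'.V) (r p')
      refine h1.trans ?_
      rw [hr' p p', pullSec_smul, ← h2]
      rfl
    · have h3 := hr' (p.tra y) (p'.tra y)
      rw [hh_tra] at h3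
      rw [map_pow]
      exact h3
  obtain ⟨φ, -⟩ := LineHom.exists_iso (L := (Scheme.Modules.pullback T).obj R) (N := R)
    (U := fun p : LS q => T ⁻¹ᵁ p.V) hU (e := fun p => pullSec T (r p))
    (fun p => (hr p).pullSec T) (n := fun p => r (p.tra y))
    (LineHom.trans_of_inf (fun p => (hr p).pullSec T) key) (fun p => hr (p.tra y))
  exact ⟨φ⟩

end K410.MulRn
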