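import Groth.Agent.Fdesc.LocGenPullback
import Groth.Agent.CohqB.TwistMono
import Groth.Agent.Ega1.QCohSpec
import Groth.Agent.Picfga.LineDescent

/-!
# Sections of pullbacks of invertible modules in local polynomial form
-/

set_option autoImplicit false
universe u
open CategoryTheory AlgebraicGeometry Limits Polynomial TopologicalSpace

namespace K410.SecCore

open Groth.Agent Groth.Agent.Fdesc.LocGen

variable {X S : Scheme.{u}} (q : X ⟶ S)

theorem mono_of_injective {Y : Scheme.{u}} {P Q : Y.Modules} (v : P ⟶ Q)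
    (h : ∀ W : Y.Opens, Function.Injective (v.app W)) : Mono v := by
  apply (Scheme.Modules.toPresheaf Y).mono_of_mono_map
  have : ∀ W, Mono (((Scheme.Modules.toPresheaf Y).map v).app W) := fun W =>
    (AddCommGrpCat.mono_iff_injective _).2 (h W.unop)
  exact NatTrans.mono_of_mono_app _

/-- Sections of an invertible module inject into the sections of the pullback. -/
theorem pullSec_injective (hinj : ∀ U : S.Opens, Function.Injective (q.app U)) {M : S.Modules}
    (hM : PicF.IsInvertible M) (V : S.Opens) :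
    Function.Injective (fun m : Γ(M, V) => pullSec q m) := by
  intro m n hmn
  have hmn' : pullSec q m = pullSec q n := hmn
  rw [isInvertible_iff] at hM
  choose U e hx he using hM
  refine res_ext M (fun x : V => V ⊓ U x.1) (fun _ => inf_le_left) (fun x hx' => ?_) (fun x => ?_)
  · exact Opens.mem_iSup.2 ⟨⟨x, hx'⟩, hx', hx x⟩
  · have he' := (he x.1).res (inf_le_right : V ⊓ U x.1 ≤ U x.1)
    obtain ⟨a, ha⟩ := he'.exists_eq (res M inf_le_left m)
    obtain ⟨b, hb⟩ := he'.exists_eq (res M inf_le_left n)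
    have h1 := congrArg (res _ (q.preimage_mono (inf_le_left : V ⊓ U x.1 ≤ V))) hmn'
    rw [res_pullSec q (inf_le_left : V ⊓ U x.1 ≤ V), res_pullSec q (inf_le_left : V ⊓ U x.1 ≤ V), ha, hb,
      pullSec_smul, pullSec_smul] at h1
    rw [ha, hb, hinj _ ((he'.pullSec q).ext h1)]

/-- Local sections of the pullback with differences in `M` are, up to sections of `M`, restrictions of
a global one when `H¹(S, M) = 0`. -/
theorem exists_lift (hinj : ∀ U : S.Opens, Function.Injective (q.app U)) {M : S.Modules}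
    (hM : PicF.IsInvertible M) (h1 : Subsingleton (Coh.HH S M 1)) {ι : Type*} (U : ι → S.Opens)
    (hU : ⨆ i, U i = ⊤) (σ : ∀ i, Γ((Scheme.Modules.pullback q).obj M, q ⁻¹ᵁ U i))
    (hσ : ∀ i j, ∃ z : Γ(M, U i ⊓ U j),
      res _ (q.preimage_mono (inf_le_left : U i ⊓ U j ≤ U i)) (σ i) =
        res _ (q.preimage_mono (inf_le_right : U i ⊓ U j ≤ U j)) (σ j) + pullSec q z) :
    ∃ τ : Γ((Scheme.Modules.pullback q).obj M, q ⁻¹ᵁ ⊤), ∀ i, ∃ z : Γ(M, U i),
      res _ (q.preimage_mono (le_top : U i ≤ ⊤)) τ = σ i + pullSec q z := by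
  let P := (Scheme.Modules.pullback q).obj M
  let F := (Scheme.Modules.pushforward q).obj P
  let η : M ⟶ F := (Scheme.Modules.pullbackPushforwardAdjunction q).unit.app M
  have hη : ∀ (V : S.Opens) (m : Γ(M, V)), η.app V m = pullSec q m := fun _ _ => rfl
  have hmono : Mono η := mono_of_injective η (fun V => pullSec_injective q hinj hM V)
  let T : ShortComplex S.Modules := ShortComplex.mk η (cokernel.π η) (cokernel.condition η)
  have hT : T.ShortExact :=
    { exact := ShortComplex.exact_cokernel η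
      mono_f := hmono
      epi_g := inferInstanceAs (Epi (cokernel.π η)) }
  let σF : ∀ i, Γ(F, U i) := σ
  have hz : ∀ (V : S.Opens) (m : Γ(M, V)), (cokernel.π η).app V (η.app V m) = 0 := by
    intro V m
    have h2 : (η ≫ cokernel.π η).app V m = 0 := by rw [cokernel.condition]; rfl
    exact h2
  obtain ⟨w, hw⟩ := res_glue (cokernel η) (V := ⊤) U (fun _ => le_top) hU.ge
    (fun i => (cokernel.π η).app (U i) (σF i)) (by
      intro i j
      obtain ⟨z, hz'⟩ := hσ i j
      rw [← app_res, ← app_res]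
      have h3 : res F (inf_le_left : U i ⊓ U j ≤ U i) (σF i) =
          res F (inf_le_right : U i ⊓ U j ≤ U j) (σF j) + η.app (U i ⊓ U j) z := hz'
      rw [h3, map_add, hz, add_zero])
  obtain ⟨τ, hτ⟩ := CohqB.TwistMono.surjective_of_H1 hT h1 w
  refine ⟨τ, fun i => ?_⟩
  have h4 : T.g.app (U i) (res F (le_top : U i ≤ ⊤) τ - σF i) = 0 := by
    rw [map_sub, app_res, hτ, hw]
    exact sub_self _
  obtain ⟨z, hz'⟩ := Ega1.QCohSpec.exact_app hT.exact (U i) _ h4
  refine ⟨z, ?_⟩
  have h5 : η.app (U i) z = res F (le_top : U i ≤ ⊤) τ - σF i := hz'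
  have h6 : res F (le_top : U i ≤ ⊤) τ = σF i + η.app (U i) z := by
    rw [h5]; abel
  exact h6

end K410.SecCore
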