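import Groth.Agent.Sga3B.DsBc
import Groth.Agent.AlgGrp.K411.GenClos
import Groth.Agent.S0414
import Groth.Agent.Sga3C.FlatPt

/-!
# Spreading out a closed subgroup of the generic fibre
-/

set_option autoImplicit false
universe u
open CategoryTheory MonoidalCategory CartesianMonoidalCategory MonObj GrpObj AlgebraicGeometry CategoryTheory.Limits

namespace K410.SpreadSub

open Groth.Agent Groth.Agent.Sga3B Groth.Agent.Sga3B.RedIso Groth.Agent.AlgGrp.K411.GenClos

/-- A flat closed subscheme over an open `U` whose generic fibre is a subgroup is a subgroup. -/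
theorem grp_of_model {X U T : Scheme.{u}} (ι' : U ⟶ X) [Mono ι'] (g : T ⟶ X) (ηU : T ⟶ U) [Mono ηU]
    (hη : ηU ≫ ι' = g) [QuasiCompact ηU] [IsSchemeTheoreticallyDominant ηU]
    (G : Over X) [GrpObj G] (H : Over T) [GrpObj H] (i : H ⟶ Red.bc g G) [IsMonHom i]
    (N : Over U) [Flat N.hom] (j : N ⟶ Red.bc ι' G) [IsClosedImmersion j.left]
    (φ : H.left ⟶ N.left) (hφ : IsPullback φ H.hom N.hom ηU)
    (hij : φ ≫ j.left ≫ pullback.fst G.hom ι' = i.left ≫ pullback.fst G.hom g) :
    ∃ _ : GrpObj N, IsMonHom j := by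
  let ε := und (BcIso.bcCongrIso hη.symm G) ≪≫ und (BcIso.bcCompIso ηU ι' G)
  let j' : H ⟶ Red.bc ηU (Red.bc ι' G) := i ≫ ε.hom
  have hj' : IsMonHom j' := by
    have : IsMonHom ε.hom := by
      change IsMonHom ((und (BcIso.bcCongrIso hη.symm G)).hom ≫ (und (BcIso.bcCompIso ηU ι' G)).hom)
      infer_instance
    infer_instance
  have hε : ε.hom.left ≫ pullback.fst (Red.bc ι' G).hom ηU ≫ pullback.fst G.hom ι' =
      pullback.fst G.hom g := by
    change (((und (BcIso.bcCongrIso hη.symm G)).hom ≫ (und (BcIso.bcCompIso ηU ι' G)).hom)).left ≫ _ = _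
    rw [Over.comp_left, Category.assoc, DsBc.bcComp_fst, DsBc.bcCongr_fst]
  let e : (Over.pullback ηU).obj N ≅ H := Over.isoMk hφ.isoPullback.symm (by
    exact hφ.isoPullback_inv_snd)
  have he1 : e.hom.left ≫ φ = pullback.fst N.hom ηU := hφ.isoPullback_inv_fst
  have he : e.hom ≫ j' = (Over.pullback ηU).map j := by
    ext1
    have hm1 : Mono (pullback.fst (Red.bc ι' G).hom ηU) := inferInstance
    have hm2 : Mono (pullback.fst G.hom ι') := inferInstance
    have h3 : ((Over.pullback ηU).map j).left ≫ pullback.fst (Red.bc ι' G).hom ηU =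
        pullback.fst N.hom ηU ≫ j.left := pullback.lift_fst _ _ _
    rw [← cancel_mono (pullback.fst (Red.bc ι' G).hom ηU), ← cancel_mono (pullback.fst G.hom ι'), h3,
      ← he1]
    change ((e.hom.left ≫ (i.left ≫ ε.hom.left)) ≫ _) ≫ _ = _
    simp only [Category.assoc]
    rw [hε, hij]
  exact exists_grpObj ηU j j' e he

theorem spread_aux (X : Scheme.{u}) [IsIntegral X] (G : Over X) [GrpObj G]
    [IsAffineHom G.hom] [LocallyOfFinitePresentation G.hom] {T : Scheme.{u}} [Nonempty T]
    (g : T ⟶ X) [Flat g] [Mono g] [QuasiCompact g] (hgen : ∀ t, g t = genericPoint X)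
    (Hη : Over T) [GrpObj Hη] (i : Hη ⟶ Red.bc g G) [IsMonHom i] [IsClosedImmersion i.left] :
    ∃ (U : X.Opens) (ηU : T ⟶ (U : Scheme.{u})) (HU : Over (U : Scheme.{u}))
      (_ : GrpObj HU) (j : HU ⟶ Red.bc U.ι G) (φ : Hη.left ⟶ HU.left),
      ηU ≫ U.ι = g ∧ IsMonHom j ∧ IsClosedImmersion j.left ∧
      IsPullback φ Hη.hom HU.hom ηU ∧
      φ ≫ j.left ≫ pullback.fst G.hom U.ι = i.left ≫ pullback.fst G.hom g := by
  let jl : Hη.left ⟶ G.left := i.left ≫ pullback.fst G.hom g
  have hi2 : i.left ≫ pullback.snd G.hom g = Hη.hom := Over.w i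
  have hj : jl ≫ G.hom = Hη.hom ≫ g := by
    rw [← hi2, Category.assoc, Category.assoc, pullback.condition]
  have hlift : pullback.lift jl Hη.hom hj = i.left := by
    apply pullback.hom_ext
    · rw [pullback.lift_fst]
    · rw [pullback.lift_snd]
      exact hi2.symm
  have hcl : IsClosedImmersion (pullback.lift jl Hη.hom hj) := by rw [hlift]; infer_instance
  have hpb := isPullback_image g G.hom Hη.hom jl hj
  let N : Over X := Over.mk (jl.imageι ≫ G.hom)
  let i₀ : N ⟶ G := Over.homMk jl.imageι rfl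
  have hi₀ : IsClosedImmersion i₀.left := inferInstanceAs (IsClosedImmersion jl.imageι)
  have hNft : LocallyOfFiniteType N.hom := by
    change LocallyOfFiniteType (jl.imageι ≫ G.hom); infer_instance
  have hNqc : QuasiCompact N.hom := by
    change QuasiCompact (jl.imageι ≫ G.hom); infer_instance
  obtain ⟨U, hU, hflat, -⟩ := S0414.result N.hom
  have hgU : genericPoint X ∈ U := by
    obtain ⟨z, hz⟩ := hU.nonempty
    exact (genericPoint_specializes z).mem_open U.isOpen hz
  have hrange : Set.range g ⊆ Set.range U.ι := by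
    rintro _ ⟨t, rfl⟩
    rw [Scheme.Opens.range_ι, hgen t]
    exact hgU
  let ηU : T ⟶ (U : Scheme.{u}) := IsOpenImmersion.lift U.ι g hrange
  have hηU : ηU ≫ U.ι = g := IsOpenImmersion.lift_fac _ _ _
  have hmono : Mono ηU := by
    have : Mono (ηU ≫ U.ι) := by rw [hηU]; infer_instance
    exact mono_of_mono ηU U.ι
  have hqc : QuasiCompact ηU := by
    have : QuasiCompact (ηU ≫ U.ι) := by rw [hηU]; infer_instance
    exact QuasiCompact.of_comp ηU U.ι
  have hdom : IsDominant ηU := by
    constructor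
    obtain ⟨t⟩ := (inferInstance : Nonempty T)
    rw [DenseRange, dense_iff_closure_eq]
    rw [Set.eq_univ_iff_forall]
    intro z
    have h1 : ηU t ⤳ z := by
      rw [← U.ι.isOpenEmbedding.isInducing.specializes_iff, ← Scheme.Hom.comp_apply, hηU, hgen]
      exact genericPoint_specializes _
    have h2 : ({ηU t} : Set U) ⊆ Set.range ηU := Set.singleton_subset_iff.2 ⟨t, rfl⟩
    exact closure_mono h2 h1.mem_closure
  have hredU : IsReduced (U : Scheme.{u}) := inferInstance
  have hsd : IsSchemeTheoreticallyDominant ηU := IsSchemeTheoreticallyDominant.of_isDominant ηU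
  let NU : Over (U : Scheme.{u}) := (Over.pullback U.ι).obj N
  let j : NU ⟶ Red.bc U.ι G := (Over.pullback U.ι).map i₀
  have hjcl : IsClosedImmersion j.left :=
    Groth.Agent.AlgGrp.K411.Bc.map_left_mem (P := @IsClosedImmersion) U.ι i₀ hi₀
  have hNU : Flat NU.hom := by
    change Flat (pullback.snd N.hom U.ι)
    rw [← pullbackRestrictIsoRestrict_hom_morphismRestrict]
    infer_instance
  have hpbU : IsPullback (pullback.fst N.hom U.ι) (pullback.snd N.hom U.ι) N.hom U.ι :=
    IsPullback.of_hasPullback _ _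
  have hpb' : IsPullback jl.toImage Hη.hom N.hom (ηU ≫ U.ι) := by rw [hηU]; exact hpb
  obtain ⟨φ, hφ1, hφ2⟩ : ∃ φ : Hη.left ⟶ NU.left, φ ≫ pullback.fst N.hom U.ι = jl.toImage ∧
      φ ≫ pullback.snd N.hom U.ι = Hη.hom ≫ ηU :=
    ⟨pullback.lift jl.toImage (Hη.hom ≫ ηU) (by rw [Category.assoc, hηU]; exact hpb.w),
      pullback.lift_fst _ _ _, pullback.lift_snd _ _ _⟩
  have hφ : IsPullback φ Hη.hom NU.hom ηU := by
    refine IsPullback.of_right (h₁₂ := pullback.fst N.hom U.ι) (v₁₃ := N.hom) (h₂₂ := U.ι) ?_ hφ2 hpbU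
    rw [hφ1]
    exact hpb'
  have hjj : j.left ≫ pullback.fst G.hom U.ι = pullback.fst N.hom U.ι ≫ i₀.left :=
    pullback.lift_fst _ _ _
  have hfin : φ ≫ j.left ≫ pullback.fst G.hom U.ι = i.left ≫ pullback.fst G.hom g := by
    rw [hjj, ← Category.assoc, hφ1]
    exact Scheme.Hom.toImage_imageι jl
  obtain ⟨hgrp, hmon⟩ := grp_of_model U.ι g ηU hηU G Hη i NU j φ hφ hfin
  exact ⟨U, ηU, NU, hgrp, j, φ, hηU, hmon, hjcl, hφ, hfin⟩

/-- **Closed subgroups of the generic fibre spread out.** -/
theorem spread (X : Scheme.{u}) [IsIntegral X] (G : Over X) [GrpObj G]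
    [IsAffineHom G.hom] [LocallyOfFinitePresentation G.hom]
    (Hη : Over (Spec X.functionField)) [GrpObj Hη]
    (i : Hη ⟶ Red.bc (X.fromSpecStalk (genericPoint X)) G) [IsMonHom i] [IsClosedImmersion i.left] :
    ∃ (U : X.Opens) (ηU : Spec X.functionField ⟶ (U : Scheme.{u})) (HU : Over (U : Scheme.{u}))
      (_ : GrpObj HU) (j : HU ⟶ Red.bc U.ι G) (φ : Hη.left ⟶ HU.left),
      ηU ≫ U.ι = X.fromSpecStalk (genericPoint X) ∧ IsMonHom j ∧ IsClosedImmersion j.left ∧
      IsPullback φ Hη.hom HU.hom ηU ∧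
      φ ≫ j.left ≫ pullback.fst G.hom U.ι = i.left ≫ pullback.fst G.hom (X.fromSpecStalk (genericPoint X)) := by
  have hgen : ∀ t : Spec X.functionField, X.fromSpecStalk (genericPoint X) t = genericPoint X := by
    intro t
    have ht : t = IsLocalRing.closedPoint X.functionField := by
      have : Subsingleton (Spec X.functionField) :=
        inferInstanceAs (Subsingleton (PrimeSpectrum X.functionField))
      exact Subsingleton.elim _ _
    rw [ht]
    exact X.fromSpecStalk_closedPoint
  have hflat := Sga3C.FlatPt.flat_fromSpecStalk X (genericPoint X)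
  have hne : Nonempty (Spec X.functionField) := inferInstanceAs (Nonempty (PrimeSpectrum X.functionField))
  have hqc : QuasiCompact (X.fromSpecStalk (genericPoint X)) := by
    refine ⟨fun V _ _ => ?_⟩
    have : Finite (Spec X.functionField) := by
      have : Subsingleton (Spec X.functionField) :=
        inferInstanceAs (Subsingleton (PrimeSpectrum X.functionField))
      infer_instance
    exact (Set.toFinite _).isCompact
  exact spread_aux X G (T := Spec X.functionField) (X.fromSpecStalk (genericPoint X)) hgen Hη i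

end K410.SpreadSub
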