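import Groth.Agent.S2544
import Mathlib.AlgebraicGeometry.Properties
import Mathlib.AlgebraicGeometry.Morphisms.UniversallyOpen

/-!
# Dimensions of the local rings along flat integral morphisms
-/

set_option autoImplicit false
universe u
open CategoryTheory AlgebraicGeometry Limits

namespace K410.StalkBC

open Groth.Agent

variable {X Y : Scheme.{u}} (p : X ⟶ Y) [IsIntegralHom p] [Flat p]

theorem strictMono : StrictMono p := by
  intro a b hab
  have h1 : b ⤳ a := hab.le
  have h2 : p b ⤳ p a := h1.map p.continuous
  refine lt_of_le_not_ge h2 fun h3 => ?_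
  have h4 : p a ⤳ p b := h3
  have h5 : p a = p b := (h4.antisymm h2).eq
  have h6 : a = b := S2544.eq_of_specializes_of_isIntegralHom p h1 h5
  exact hab.ne h6

theorem le_coheight (n : ℕ) : ∀ x : X, (n : ℕ∞) ≤ Order.coheight (p x) → (n : ℕ∞) ≤ Order.coheight x := by
  induction n with
  | zero => intro x _; simp
  | succ n ih =>
    intro x hx
    obtain ⟨s, hs, hl⟩ := Order.exists_series_of_le_coheight (p x) hx
    have hlt : s.head < s ⟨1, by omega⟩ := s.strictMono (by
      rw [Fin.lt_def]
      simp)
    rw [hs] at hlt
    obtain ⟨x', h1, h2⟩ := Flat.generalizingMap p (show s ⟨1, by omega⟩ ⤳ p x from hlt.le)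
    have hxx : x < x' := by
      refine lt_of_le_not_ge h1 fun h3 => ?_
      have h4 : p x ⤳ p x' := (show x ⤳ x' from h3).map p.continuous
      rw [h2] at h4
      exact hlt.not_ge h4
    have h5 : (n : ℕ∞) ≤ Order.coheight (p x') := by
      rw [h2]
      have h6 := Order.rev_index_le_coheight s ⟨1, by omega⟩
      refine le_trans ?_ h6
      have h7 : ((⟨1, by omega⟩ : Fin (s.length + 1)).rev : ℕ) = n := by
        rw [Fin.val_rev]
        simp only
        omega
      rw [h7]
    have h8 := ih x' h5
    calc ((n + 1 : ℕ) : ℕ∞) = (n : ℕ∞) + 1 := by push_cast; rfl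
      _ ≤ Order.coheight x' + 1 := by gcongr
      _ ≤ Order.coheight x := Order.coheight_add_one_le hxx

theorem ringKrullDim_stalk (x : X) :
    ringKrullDim (X.presheaf.stalk x) = ringKrullDim (Y.presheaf.stalk (p x)) := by
  rw [ringKrullDim_stalk_eq_coheight, ringKrullDim_stalk_eq_coheight]
  congr 1
  refine le_antisymm (Order.coheight_le_coheight_apply_of_strictMono p (strictMono p) x) ?_
  refine ENat.forall_natCast_le_iff_le.1 fun n hn => le_coheight p n x hn

end K410.StalkBC
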